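import Cfsg.Agent.N2.Cl.SzG.Main_m3
import Cfsg.Agent.SB.Mon.F24.Chk2_m3
import Cfsg.Agent.SB.Fr.Main_m3
import Cfsg.Agent.H206.OrthBal
import Cfsg.Agent.H198.TriBase
import Cfsg.Agent.N2.Cl.FrSp.Num_m3
import Cfsg.Agent.H10.Co3.Om
import Cfsg.Agent.N2.Tool
import Mathlib.GroupTheory.Perm.Centralizer
import Mathlib.GroupTheory.SpecificGroups.Alternating
import Cfsg.Agent.H129.CycRow
import Cfsg.Agent.H129.SuzT
import Cfsg.Agent.OddCyclic.ClaimC.SzIso
import Cfsg.Agent.S0333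
import Cfsg.Agent.S1059
import Cfsg.Agent.S1062
import Cfsg.Agent.S1063
import Cfsg.Agent.S1064
import Cfsg.Agent.S1065
import Cfsg.Agent.S1066
import Cfsg.Agent.S1067
import Cfsg.Agent.S1068
import Cfsg.Agent.S1069
import Cfsg.Agent.S1163
import Cfsg.Agent.S2371
import Cfsg.Agent.S2373
import Cfsg.Agent.S2374
import Cfsg.Agent.H603.SporElim
import Cfsg.Agent.H253.TwoComm.Cent
import Cfsg.Agent.H253.TwoComm.RowCo23_mg_m3
import Cfsg.Agent.H859.M24Eleven
import Cfsg.Agent.S0364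
import Cfsg.Agent.H1.J1Real
import Cfsg.Agent.OddHalf.Table.OutJ2
import Cfsg.Agent.J2.HundredGens
import Cfsg.Agent.H898.J3Cent
import Cfsg.Agent.H723.Spor.JFour
import Cfsg.Agent.H604.Cop.Conway
import Cfsg.Agent.H904.HSIso
import Cfsg.Agent.TypeM.FactsLy
import Cfsg.Agent.TypeM.FactsMcL
import Cfsg.Agent.OddHalf.MM.Main_m3
import Cfsg.Agent.OddHalf.Table.OutRu
import Cfsg.Agent.RuLat.Main
import Cfsg.Agent.CpAutHe.Bound
import Cfsg.Agent.H680.ONThirtyOne_m3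
import Cfsg.Agent.H713.Spor.Fi22
import Cfsg.Agent.H839.SeventeenMain_m3
import Cfsg.Agent.H187.FiOdd.Cent_m3
import Cfsg.Agent.KFacts.FiTF.FixZ_m3
import Cfsg.Agent.H845.HNNineteen
import Cfsg.Agent.H723.Spor.Th
import Cfsg.Agent.KFacts.Th.Main
import Cfsg.Agent.H332.BabyUpper
import Cfsg.Agent.H848.MonsterSetup
import Cfsg.Agent.H659.BFC
import Cfsg.Agent.H809.SelfCentPSU
import Cfsg.Agent.S0243
import Cfsg.Agent.S0252
import Cfsg.Agent.S0253
import Cfsg.Agent.S0280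
import Cfsg.Agent.S0287
import Cfsg.Agent.S0288
import Cfsg.Agent.S0292
import Cfsg.Agent.S0293
import Cfsg.Agent.S0294
import Cfsg.Agent.S2479
import Cfsg.Agent.S2481
import Cfsg.Agent.S2507
import Cfsg.Agent.S2508
import Cfsg.Agent.S2557
import Cfsg.Agent.S2558
import Cfsg.Agent.S2559
import Cfsg.Agent.S2560
import Cfsg.Agent.S2571
import Cfsg.Agent.S2578
import Cfsg.Agent.S2591
import Cfsg.Agent.S2592
import Cfsg.Agent.S4200
import Cfsg.Agent.FastGrp
import Cfsg.Agent.Prune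
set_option linter.all false

section
prune_inst 0x7f00000000000000000000000000000000000000000000000000000000000000000000000000000000000000000000000000000000000000000000000000000000000000000000000000000000000000003fffffffffffffffffffffffffffaeffbdfffffffd

section
prune_inst 0xf9fefbbbf8efffffff7e7ff7ddcffdfdbb3fffefdff9cbffecebff5fffcb0acfe5fb8d8feb90fe5ef66a1c18fc7b93ffffee7fe36bdc7ffffd5ff45ffbff9fedf7bd1971f49c3e1fbe6ffee3f0778e7f000000000000000000000000000010000200000000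

-- part: N2/Cl/D4/Defs
section
prune_inst 0x601040406100000008180082210020200c0000020043400031400a00020f5000a00627014270081018522c40200400000108000002200000000088000000012084024000922c0004000001800080000000000000000000000000000000041000000000002
set_option linter.all false

/-!
# N2 (S3519), `PΩ₈⁺(q)` with triality: interface (helper61)

`T3 a b c` means `a (x · y) = b x · c y` for the para-octonion product `pm`.  See `notes/N2/d4.md`.
-/

set_option autoImplicit false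
set_option linter.unusedSectionVars false

namespace Cfsg.Agent.N2C.D4

open QuadraticMap Module Cfsg.Agent.LieClassical.QuadForms Cfsg.Agent.LieClassical.OrthCore
  Cfsg.Agent.LieClassical.OrthTrans Cfsg.Agent.ClassicalGeometry.OrthSemi Cfsg.Agent.ClassicalGeometry.OrthAut1
  Cfsg.Agent.ClassicalGeometry.TrialityOct Cfsg.Agent.ClassicalGeometry.Triality
  Cfsg.Agent.H989.OutOrth.Basic Cfsg.Agent.H989.OutOrth.Tri Cfsg.Agent.SB.D4
open Cfsg.Agent.FP3 (MI)
open Cfsg.Agent.N2 (Cf)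

section defs

variable {F : Type} [Field F]

/-- `a` maps `U` into `W` -/
def Kp (a : E8 F) (U W : Submodule F (V8 F)) : Prop := ∀ v ∈ U, a.1 v ∈ W

/-- `a` preserves the pair `U`, `U^⊥` -/
def St2 (a : E8 F) (U : Submodule F (V8 F)) : Prop := Kp a U U ∨ Kp a U (prp (Q8 F) U)

/-- `a` fixes the point -/
def Fp (a : E8 F) (v : V8 F) : Prop := ∃ c : F, a.1 v = c • v

/-- prime order `r`, the order of `q` modulo `r` is divisible by three -/
def Rp (a : E8 F) : Prop := a ≠ 1 ∧ ∃ r : ℕ, r.Prime ∧ (r : F) ≠ 0 ∧ 3 ∣ orderOf (Nat.card F : ZMod r) ∧ a ^ r = 1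

/-- elements with at most one invariant plane -/
def Rg (a : E8 F) : Prop := Rp a ∨ (Nat.card F = 2 ∧ a ^ 9 = 1 ∧ a ^ 3 ≠ 1)

/-- quadratic elements -/
def Qd (a : E8 F) : Prop := ∃ t d : F, ∀ x, a.1 (a.1 x) = t • a.1 x - d • x

/-- a group of `2 × 2` matrices -/
def Q2 (S : Subgroup (E8 F)) : Prop := (∀ a ∈ S, Qd a) ∧
  ∀ a ∈ S, (¬ ∃ d, Sc a d) → ∀ b ∈ S, ∀ c ∈ S, a * b = b * a → a * c = c * a → b * c = c * b

/-- absolutely irreducible -/
def Spn (L : Subgroup (E8 F)) : Prop := Submodule.span F ((fun a : E8 F => a.1.toLinearMap) '' L) = ⊤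

/-- triples in the Lie algebra -/
def Li (f g h : Module.End F (V8 F)) : Prop := ∀ x y, f (pm x y) = pm (g x) y + pm x (h y)

/-- the perfect lift -/
def lf (N : Subgroup (G8 F)) : Subgroup (E8 F) := ⁅N.comap (QuotientGroup.mk' _), N.comap (QuotientGroup.mk' _)⁆

/-- invariant subspaces -/
def Iv (L : Subgroup (E8 F)) (U : Submodule F (V8 F)) : Prop := ∀ a ∈ L, Kp a U U

def NoFix (L : Subgroup (E8 F)) : Prop := ∀ v, (∀ a ∈ L, a.1 v = v) → v = 0

/-- all invariant subspaces are non-degenerate and not small -/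
def Rd (L : Subgroup (E8 F)) : Prop := ∀ U, Iv L U → Nd (Q8 F) U ∧ finrank F U ≠ 1 ∧ finrank F U ≠ 2

/-- no inner-diagonal automorphism centralises `L` -/
def C0 (L : Subgroup (E8 F)) : Prop := ∀ a b c : GL8 F, Tr a b c → (∃ m : F, ∀ x, Q8 F (a x) = m * Q8 F x) →
  (∀ l ∈ L, ∀ x, a (l.1 x) = l.1 (a x)) → ∃ e : F, ∀ x, a x = e • x

/-- the fixed points of an automorphism -/
def fxs (φ : MulAut (G8 F)) : Subgroup (G8 F) := φ.toMonoidHom.eqLocus (MonoidHom.id _)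

theorem mem_fxs {φ : MulAut (G8 F)} {g : G8 F} : g ∈ fxs φ ↔ φ g = g := Iff.rfl

/-- a non-trivial semilinear automorphism centralises `N` -/
def HasC (N : Subgroup (G8 F)) : Prop := ∃ M : Gam (Q8 F), Psi (Q8 F) M ≠ 1 ∧ ∀ n ∈ N, Psi (Q8 F) M n = n

variable [Fintype F]

/-- `Γ` involves triality, parabolic subgroups are excluded -/
structure Cx (A : Subgroup (G8 F)) (Γ : Subgroup (MulAut (G8 F))) (M₁ M₂ : Gam (Q8 F)) : Prop where
  mi : MI A Γ
  e1 : ∃ α ∈ Γ, Ty1 α M₁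
  e2 : ∃ β ∈ Γ, Ty2 β M₂
  np : ∀ P ≤ A, (∀ a ∈ A, ∀ x ∈ P, a * x * a⁻¹ ∈ P) → IsPGroup (ringChar F) P → P = ⊥

/-- the non-local case: `N` is the product of the simple groups in `𝓣` -/
structure Cb (A : Subgroup (G8 F)) (Γ : Subgroup (MulAut (G8 F))) (M₁ M₂ : Gam (Q8 F)) (N : Subgroup (G8 F))
    (𝓣 : Set (Subgroup (G8 F))) : Prop extends Cx A Γ M₁ M₂ where
  inv : N2.Inv Γ N
  le : N ≤ A
  ne : N ≠ ⊥
  cen : ∀ g, (∀ n ∈ N, n * g = g * n) → g = 1
  sup : sSup 𝓣 = N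
  simple : ∀ S ∈ 𝓣, IsSimpleGroup S ∧ ¬ IsMulCommutative S
  comm : ∀ S ∈ 𝓣, ∀ S' ∈ 𝓣, S ≠ S' → ∀ x ∈ S, ∀ y ∈ S', x * y = y * x
  perm : ∀ σ ∈ Γ, ∀ S ∈ 𝓣, S.map σ.toMonoidHom ∈ 𝓣

end defs

/-! ### boxes without context -/

/-- [G44] `O₄⁺ ≀ S₂` -/
def BoxG44 : Prop := ∀ (F : Type) [Field F] [Fintype F] (A : Subgroup (G8 F)) (U : Submodule F (V8 F)),
  finrank F U = 4 → Nd (Q8 F) U → HasTS (Q8 F) U → HasTS (Q8 F) (prp (Q8 F) U) →
  (∀ a : E8 F, (a : G8 F) ∈ A ↔ St2 a U) → FP3.Good A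

/-- [T44] gradings -/
def BoxT44 : Prop := ∀ (F : Type) [Field F] [Fintype F] (C₁ C₂ C₃ : Submodule F (V8 F)),
  finrank F C₁ = 4 → finrank F C₂ = 4 → finrank F C₃ = 4 → Nd (Q8 F) C₁ → Nd (Q8 F) C₂ → Nd (Q8 F) C₃ →
  (∀ x ∈ C₂, ∀ y ∈ C₃, pm x y ∈ C₁) → HasTS (Q8 F) C₁ ∧ HasTS (Q8 F) (prp (Q8 F) C₁) ∧
    ∀ a b c : E8 F, T3 a b c → St2 a C₁ → St2 b C₂ ∧ St2 c C₃

/-- [Sg] the partners of two opposite long root elements -/
def BoxSg : Prop := ∀ (F : Type) [Field F] [Fintype F] (e e' f f' : V8 F) (he : Q8 F e = 0) (hf : Q8 F f = 0)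
  (h₁ : polar (Q8 F) e e' = 0) (h₂ : polar (Q8 F) f f' = 0) (b c b' c' : E8 F) (C₂ C₃ : Submodule F (V8 F)),
  Q8 F e' = 0 → Q8 F f' = 0 →
  polar (Q8 F) e f * polar (Q8 F) e' f' - polar (Q8 F) e f' * polar (Q8 F) e' f ≠ 0 →
  T3 ⟨siegel (Q8 F) e e' he h₁, siegel_mem_E he h₁⟩ b c → T3 ⟨siegel (Q8 F) f f' hf h₂, siegel_mem_E hf h₂⟩ b' c' →
  finrank F C₂ = 4 → finrank F C₃ = 4 → Nd (Q8 F) C₂ → Nd (Q8 F) C₃ → Kp b C₂ C₂ → Kp b' C₂ C₂ → Kp c C₃ C₃ →
  Kp c' C₃ C₃ → ∃ D₂ D₃, (D₂ = C₂ ∨ D₂ = prp (Q8 F) C₂) ∧ (D₃ = C₃ ∨ D₃ = prp (Q8 F) C₃) ∧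
    ∀ x ∈ D₂, ∀ y ∈ D₃, pm x y ∈ prp (Q8 F) (Submodule.span F {e, e', f, f'})

/-- [Ex3] a Singer element of `SL₃(q)` -/
def BoxEx3 : Prop := ∀ (F : Type) [Field F] [Fintype F] (e f y : V8 F), Q8 F e = 0 → Q8 F f = 0 →
  polar (Q8 F) e f ≠ 0 → Q8 F y ≠ 0 →
  ∃ a b c : E8 F, T3 a b c ∧ Rp a ∧ Rp b ∧ Rp c ∧ b.1 e = e ∧ b.1 f = f ∧ c.1 y = y

/-- [Ex6] a Singer element of `GL₃(q)` or `GU₃(q)` -/
def BoxEx6 : Prop := ∀ (F : Type) [Field F] [Fintype F] (W : Submodule F (V8 F)) (J : GL8 F) (t : F),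
  finrank F W = 6 → Nd (Q8 F) W → J ∈ O (Q8 F) → (∀ x ∈ W, J x ∈ W) → (∀ x ∈ W, J (J x) = t • J x - x) → t ^ 2 ≠ 4 →
  ∃ s : E8 F, Rg s ∧ (∀ v ∈ prp (Q8 F) W, s.1 v = v) ∧ ∀ w ∈ W, s.1 (J w) = J (s.1 w)

/-- [G2] `G₂(q)` -/
def BoxG2 : Prop := BoxEx3 → ∀ (F : Type) [Field F] [Fintype F] (A : Subgroup (G8 F)) (x y : V8 F), Q8 F x ≠ 0 →
  Q8 F y ≠ 0 → (∀ a b c : E8 F, T3 a b c → ((a : G8 F) ∈ A ↔ Fp b x ∧ Fp c y)) → FP3.Good A

/-- [JE] -/
def BoxJE : Prop := ∀ (F : Type) [Field F] [Fintype F] (J : GL8 F), (2 : F) ≠ 0 → J ∈ O (Q8 F) →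
  (∀ x, J (J x) = -x) → J ∈ E (Q8 F)

/-- [P2] isometries of planes -/
def BoxP2 : Prop := ∀ (F : Type) [Field F] [Fintype F] (P : Submodule F (V8 F)), finrank F P = 2 → Nd (Q8 F) P →
  (∀ g h : GL8 F, g ∈ O (Q8 F) → h ∈ O (Q8 F) → Odd (orderOf g) → Odd (orderOf h) → (∀ x ∈ P, g x ∈ P) →
    (∀ x ∈ P, h x ∈ P) → ∀ x ∈ P, g (h x) = h (g x)) ∧
  ∀ L : Subgroup (E8 F), ⁅L, L⁆ = L → Iv L P → ∀ a ∈ L, ∀ x ∈ P, a.1 x = x

/-- [P2K] planes over the quadratic extension -/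
def BoxP2K : Prop := ∀ (F : Type) [Field F] [Fintype F] (W : Submodule F (V8 F)) (j : Module.End F (V8 F)) (t d : F)
  (L : Subgroup (E8 F)), finrank F W = 4 → Nd (Q8 F) W → (∀ x ∈ W, j x ∈ W) → (∀ x ∈ W, j (j x) = t • j x + d • x) →
  (∀ c : F, c * c ≠ t * c + d) → (∀ x ∈ W, ∀ y ∈ W, polar (Q8 F) (j x) y = polar (Q8 F) x (j y)) →
  ((2 : F) = 0 → ∀ x ∈ W, polar (Q8 F) (j x) x = 0) → ⁅L, L⁆ = L → Iv L W →
  (∀ a ∈ L, ∀ x ∈ W, a.1 (j x) = j (a.1 x)) → ∀ a ∈ L, ∀ x ∈ W, a.1 x = x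

/-- [GI2] four planes -/
def BoxGI2 : Prop := BoxJE → ∀ (F : Type) [Field F] [Fintype F] (A : Subgroup (G8 F)) (P : Fin 4 → Submodule F (V8 F)),
  Dec (Q8 F) P → (∀ i, finrank F (P i) = 2) →
  ((∀ i, Aniso (Q8 F) (P i)) ∨ (4 ≤ Nat.card F ∧ ∀ i, ¬ Aniso (Q8 F) (P i))) →
  (∀ a : E8 F, (a : G8 F) ∈ A ↔ ∀ i, ∃ j, Kp a (P i) (P j)) → FP3.Good A

/-- [GN3] the torus `(q² + 1)²` -/
def BoxGN3 : Prop := ∀ (F : Type) [Field F] [Fintype F] (A : Subgroup (G8 F)) (W : Submodule F (V8 F)) (a₁ a₂ : E8 F)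
  (r : ℕ), r.Prime → (r : F) ≠ 0 → orderOf (Nat.card F : ZMod r) = 4 → finrank F W = 4 → Nd (Q8 F) W → a₁ ≠ 1 →
  a₂ ≠ 1 → a₁ ^ r = 1 → a₂ ^ r = 1 → (∀ v ∈ prp (Q8 F) W, a₁.1 v = v) → (∀ v ∈ W, a₂.1 v = v) →
  A = Subgroup.normalizer (Subgroup.closure ({(a₁ : G8 F), (a₂ : G8 F)} : Set (G8 F)) : Set (G8 F)) → FP3.Good A

/-- [GN4] eight lines and the Hamming code -/
def BoxGN4 : Prop := ∀ (F : Type) [Field F] [Fintype F] (A X : Subgroup (G8 F)) (e : Fin 8 → V8 F), (2 : F) ≠ 0 →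
  Q8 F (e 0) ≠ 0 → (∀ i, Q8 F (e i) = Q8 F (e 0)) → (∀ i j, i ≠ j → polar (Q8 F) (e i) (e j) = 0) →
  (∀ a : E8 F, (a : G8 F) ∈ X → (∀ i, a.1 (e i) = e i ∨ a.1 (e i) = -e i) ∧ ((∃ d, Sc a d) ∨ finrank F (Eg a 1) = 4)) →
  (∀ i j, i ≠ j → ∃ a : E8 F, (a : G8 F) ∈ X ∧ ∃ c : F, a.1 (e i) = c • e i ∧ a.1 (e j) = -c • e j) →
  A = Subgroup.normalizer (X : Set (G8 F)) → FP3.Good A

/-- [LQ] -/
def BoxLQ : Prop := ∀ (F : Type) [Field F] [Fintype F] (a b c : E8 F) (r : ℕ), r.Prime → Odd r → (r : F) ≠ 0 →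
  T3 a b c → a ^ r = 1 → b ^ r = 1 → c ^ r = 1 → Qd a → Qd b → Qd c → a = 1

/-- [QA] tensor factors -/
def BoxQA : Prop := ∀ (F : Type) [Field F] [Fintype F] (S S' : Subgroup (E8 F)), (∀ a ∈ S, ∀ b ∈ S', a * b = b * a) →
  ¬ IsMulCommutative S → ¬ IsMulCommutative S' → Spn (S ⊔ S') → Q2 S ∨ Q2 S'

/-- [Lie] local triality -/
def BoxLie : Prop := ∀ (F : Type) [Field F] [Fintype F],
  (∀ f : Module.End F (V8 F), (∀ x, polar (Q8 F) (f x) x = 0) → ∃ g h, Li f g h) ∧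
  (∀ f g h g' h' : Module.End F (V8 F), Li f g h → Li f g' h' → ∃ l : F, g' = g + l • 1 ∧ h' = h - l • 1) ∧
  (∀ (f g h : Module.End F (V8 F)) (l : F), Li f g h → g = l • 1 ∨ h = l • 1 → ∃ m : F, f = m • 1) ∧
  ∀ f g h : Module.End F (V8 F), Li f g h → (∀ x, polar (Q8 F) (f x) x = 0) →
    ∃ c : F, (∀ x, polar (Q8 F) (g x) x = c * Q8 F x) ∧ ∀ x, polar (Q8 F) (h x) x = -c * Q8 F x

/-- [Psi] a graph automorphism of order three inverted by an involution which centralises its fixed points -/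
def BoxPsi : Prop := ∀ (F : Type) [Field F] [Fintype F] (x y : MulAut (G8 F)), x ^ 3 = 1 → x ∉ (Psi (Q8 F)).range →
  y ≠ 1 → y * x * y⁻¹ = x⁻¹ → (∀ g, x g = g → y g = g) →
  ∃ (β : MulAut (G8 F)) (v : V8 F), v ≠ 0 ∧ ∀ (g : G8 F) (a : E8 F), x g = g → β g = a → Fp a v

/-- [SubW] subfield subgroups -/
def BoxSubW : Prop := ∀ (F : Type) [Field F] [Fintype F] (M : Gam (Q8 F)), (orderOf (Psi (Q8 F) M)).Prime →
  (¬ ∀ (c : F) (v : V8 F), M.1 (c • v) = c • M.1 v) → FP3.Good (fxs (Psi (Q8 F) M))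

/-- the boxes without context -/
structure Lm : Prop where
  g44 : BoxG44
  t44 : BoxT44
  sg : BoxSg
  ex3 : BoxEx3
  ex6 : BoxEx6
  g2 : BoxG2
  je : BoxJE
  p2 : BoxP2
  p2k : BoxP2K
  gi2 : BoxGI2
  gn3 : BoxGN3
  gn4 : BoxGN4
  lq : BoxLQ
  qa : BoxQA
  lie : BoxLie
  psi : BoxPsi
  subw : BoxSubW

/-! ### boxes with context -/

/-- [Sig] eight lines with different norms -/
def BoxSig : Prop := ∀ (F : Type) [Field F] [Fintype F] (A : Subgroup (G8 F)) (Γ : Subgroup (MulAut (G8 F)))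
  (M₁ M₂ : Gam (Q8 F)) (e : Fin 8 → V8 F), Cx A Γ M₁ M₂ → (2 : F) ≠ 0 → (∀ i, Q8 F (e i) ≠ 0) →
  (∀ i j, i ≠ j → polar (Q8 F) (e i) (e j) = 0) → (∀ M ∈ LL Γ, ∀ i, ∃ (j : Fin 8) (c : F), M.1 (e i) = c • e j) →
  (∀ i j, ∃ (k : Fin 8) (c : F), pm (M₁⁻¹.1 (e i)) (M₂⁻¹.1 (e j)) = c • e k) →
  (∃ i j, ¬ IsSquare (Q8 F (e i) * Q8 F (e j))) →
  ∃ z : E8 F, z * z = 1 ∧ finrank F (Eg z (-1)) = 4 ∧ ∀ σ ∈ Γ, σ (z : G8 F) = z

/-- a statement about the non-local case -/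
def OnB (X : ∀ (F : Type) [Field F], Subgroup (G8 F) → Subgroup (G8 F) → Prop) : Prop :=
  ∀ (F : Type) [Field F] [Fintype F] (A : Subgroup (G8 F)) (Γ : Subgroup (MulAut (G8 F))) (M₁ M₂ : Gam (Q8 F))
    (N : Subgroup (G8 F)) (𝓣 : Set (Subgroup (G8 F))), Cb A Γ M₁ M₂ N 𝓣 → X F A N

/-- [Loc] the local case -/
def BoxLoc : Prop := Lm → BoxSig → ∀ (F : Type) [Field F] [Fintype F] (A : Subgroup (G8 F))
  (Γ : Subgroup (MulAut (G8 F))) (M₁ M₂ : Gam (Q8 F)) (X : Subgroup (G8 F)), Cx A Γ M₁ M₂ → X ≠ ⊥ → N2.Inv Γ X →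
  (∀ x ∈ X, ∀ y ∈ X, x * y = y * x) → FP3.Good A

/-- [Fix] -/
def BoxFix : Prop := Lm → OnB fun _ _ A N => ¬ NoFix (lf N) → FP3.Good A
/-- [Irr] -/
def BoxIrr : Prop := Lm → OnB fun _ _ _ N => NoFix (lf N) → Rd (lf N)
/-- [35] -/
def Box35 : Prop := Lm → OnB fun F _ _ N => Rd (lf N) → ∀ U, Iv (lf N) U → finrank F U = 3 → C0 (lf N) ∧ HasC N
/-- [44] -/
def Box44 : Prop := Lm → OnB fun F _ A N => NoFix (lf N) → Rd (lf N) → ∀ U, Iv (lf N) U → finrank F U = 4 → FP3.Good A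
/-- [K] -/
def BoxK : Prop := Lm → OnB fun _ _ _ N => (∀ U, Iv (lf N) U → U = ⊥ ∨ U = ⊤) → Spn (lf N)
/-- [Q] -/
def BoxQ : Prop := Lm → OnB fun _ _ _ N => Spn (lf N) → IsSimpleGroup N
/-- [Cen] -/
def BoxCen : Prop := Lm → OnB fun _ _ A N => NoFix (lf N) → C0 (lf N) → HasC N → FP3.Good A

section ring

open Cfsg.Agent.DS.Cl Cfsg.Agent.DS.Cl.Fwd

/-- `Ctx` without maximality -/
structure Cw {A : Type} [Ring A] [StarRing A] (F : FR A) (H : Subgroup (RingAut A)) (p : ℕ) : Prop where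
  cf : Cf
  ss : SS A
  span : F.Span
  simple : IsSimpleGroup F.S
  noncomm : ¬ IsMulCommutative F.S
  le : H ≤ F.Aut
  prime : p.Prime
  char : (p : A) = 0
  not_le : ¬ F.S ≤ H

/-- [WRes] class S without maximality -/
def WRes : Prop := ∀ (K V : Type) [Field K] [Fintype K] [AddCommGroup V] [Module K V] [Finite V] (h : HF K V)
  (F : FR h.EB) (Q : QuadraticForm K V) (H N : Subgroup (RingAut h.EB)) (p : ℕ), TH.Cl.KO h F Q → Cw F H p →
  Res F H N → Gd F H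

end ring

/-- [Res] -/
def BoxRes : Prop := Cf → WRes → OnB fun _ _ A N => Spn (lf N) → IsSimpleGroup N → FP3.Good A ∨ HasC N

/-- the boxes with context -/
structure Bx : Prop where
  sig : BoxSig
  loc : BoxLoc
  fix : BoxFix
  irr : BoxIrr
  b35 : Box35
  b44 : Box44
  k : BoxK
  q : BoxQ
  cen : BoxCen
  res : BoxRes

end Cfsg.Agent.N2C.D4
end

-- part: N2/Cl/D4/Pl
section
prune_inst 0x4000000000000000000000000040000000000000000000000000000000000000000000000000000000000000000000000004000000000000000000000000000000020000000000010000000000000000000000000000000000000000000000000000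
set_option linter.all false
open scoped Cfsg.Agent.FastGrp

-- part: N2/Cl/D4/Core
section
/-!
# N2 (S3519), `PΩ₈⁺(q)` with triality: the core lemma, perfect lifts (helper61)
-/

set_option autoImplicit false
set_option linter.unusedSectionVars false

namespace Cfsg.Agent.N2C.D4

open QuadraticMap Module Cfsg.Agent.LieClassical.QuadForms Cfsg.Agent.LieClassical.OrthCore
  Cfsg.Agent.LieClassical.OrthTrans Cfsg.Agent.ClassicalGeometry.OrthSemi Cfsg.Agent.ClassicalGeometry.OrthAut1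
  Cfsg.Agent.ClassicalGeometry.TrialityOct Cfsg.Agent.ClassicalGeometry.Triality
  Cfsg.Agent.H989.OutOrth.Basic Cfsg.Agent.H989.OutOrth.Tri Cfsg.Agent.SB.D4
open Cfsg.Agent.FP3 (MI)
open scoped commutatorElement

variable {F : Type} [Field F] [Fintype F]

theorem conjE_mul' (M N : Gam (Q8 F)) (a : E8 F) :
    conjE (Q8 F) (M * N) a = conjE (Q8 F) M (conjE (Q8 F) N a) := by
  rw [map_mul]
  rfl

theorem gam_inv_apply (M : Gam (Q8 F)) (v : V8 F) : M⁻¹.1 (M.1 v) = v := _root_.Cfsg.Agent.ClassicalGeometry.OrthSemi.inv_apply M.1 v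

theorem gam_apply_inv (M : Gam (Q8 F)) (v : V8 F) : M.1 (M⁻¹.1 v) = v := apply_inv M.1 v

theorem dim_prp (U : Submodule F (V8 F)) : finrank F U + finrank F (prp (Q8 F) U) = 8 :=
  (finrank_prp nondeg8' U).trans finrank8

theorem nd_gmap (M : Gam (Q8 F)) {U : Submodule F (V8 F)} (h : Nd (Q8 F) U) : Nd (Q8 F) (gmap M U) := fun x hx h1 => by
  obtain ⟨x, rfl⟩ := M.1.surjective x
  obtain ⟨σ, c, hM⟩ := M.2
  rw [h x (apply_mem_gmap.1 hx) fun y hy => ?_, hM.map_zero]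
  have h2 := h1 _ (apply_mem_gmap.2 hy)
  rwa [hM.polar, mul_eq_zero, or_iff_right hM.ne, map_eq_zero] at h2

theorem gmap_prp (M : Gam (Q8 F)) (U : Submodule F (V8 F)) : gmap M (prp (Q8 F) U) = prp (Q8 F) (gmap M U) := by
  refine Submodule.eq_of_le_of_finrank_eq (fun v hv => ?_) ?_
  · rw [← gam_apply_inv M v]
    exact gam_prp M (fun _ hw => apply_mem_gmap.2 hw) (finrank_gmap M U).le hv
  · have h1 := dim_prp U
    have h2 := dim_prp (gmap M U)
    rw [finrank_gmap] at h2 ⊢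
    omega

/-- the stabiliser of a subspace -/
def stS (U : Submodule F (V8 F)) : Subgroup (Gam (Q8 F)) where
  carrier := {M | ∀ v ∈ U, M.1 v ∈ U}
  mul_mem' := fun ha hb v hv => ha _ (hb v hv)
  one_mem' := fun _ hv => hv
  inv_mem' := fun {M} h v hv => by
    obtain ⟨w, hw, rfl⟩ := gam_pre M h le_rfl hv
    rwa [gam_inv_apply]

/-- the stabiliser of the pair `U`, `U^⊥` -/
def stD (U : Submodule F (V8 F)) (h4 : finrank F U = 4) : Subgroup (Gam (Q8 F)) where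
  carrier := {M | (∀ v ∈ U, M.1 v ∈ U) ∨ ∀ v ∈ U, M.1 v ∈ prp (Q8 F) U}
  mul_mem' := by
    have h1 := dim_prp U
    rintro M N (hM | hM) (hN | hN)
    · exact Or.inl fun v hv => hM _ (hN v hv)
    · exact Or.inr fun v hv => gam_prp M hM le_rfl (hN v hv)
    · exact Or.inr fun v hv => hM _ (hN v hv)
    · exact Or.inl fun v hv => (prp_prp nondeg8' U).le (gam_prp M hM (by omega) (hN v hv))
  one_mem' := Or.inl fun _ hv => hv
  inv_mem' := by
    have h1 := dim_prp U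
    rintro M (hM | hM)
    · exact Or.inl ((stS U).inv_mem hM)
    · refine Or.inr fun v hv => ?_
      obtain ⟨w, hw, rfl⟩ := gam_pre M (W := prp (Q8 F) U) (W' := U)
        (fun w hw => (prp_prp nondeg8' U).le (gam_prp M hM (by omega) hw)) (by omega) hv
      rwa [gam_inv_apply]

theorem kp_conj {M : Gam (Q8 F)} {a : E8 F} {U W : Submodule F (V8 F)} :
    Kp (conjE (Q8 F) M a) U W ↔ Kp a (gmap M⁻¹ U) (gmap M⁻¹ W) := by
  refine ⟨fun h v hv => ?_, fun h v hv => ?_⟩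
  · rw [mem_gmap, inv_inv] at hv ⊢
    rw [← conjE_apply]
    exact h _ hv
  · have h1 := h _ (apply_mem_gmap.2 hv)
    rwa [mem_gmap, inv_inv] at h1

theorem st2_conj {M : Gam (Q8 F)} {a : E8 F} {U : Submodule F (V8 F)} :
    St2 (conjE (Q8 F) M a) U ↔ St2 a (gmap M⁻¹ U) := by
  rw [St2, St2, kp_conj, kp_conj, gmap_prp]

theorem Kp.prp {a : E8 F} {U : Submodule F (V8 F)} (h : Kp a U U) : Kp a (prp (Q8 F) U) (prp (Q8 F) U) :=
  fun _ hv => prp_inv (E_le_O a.2) h hv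

theorem st2_prp {a : E8 F} {U : Submodule F (V8 F)} (h4 : finrank F U = 4) : St2 a (prp (Q8 F) U) ↔ St2 a U := by
  have key : ∀ U : Submodule F (V8 F), finrank F U = 4 → St2 a U → St2 a (prp (Q8 F) U) := fun U h4 h => by
    have h1 := dim_prp U
    exact h.imp Kp.prp fun h v hv => gam_prp (og a) h (by omega) hv
  have h1 := dim_prp U
  exact ⟨fun h => prp_prp nondeg8' U ▸ key _ (by omega) h, key U h4⟩

/-- `Ω` is irreducible -/
theorem exists_move {U : Submodule F (V8 F)} (h0 : U ≠ ⊥) (h1 : U ≠ ⊤) : ∃ e : E8 F, og e ∉ stS U := by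
  by_contra hc
  push Not at hc
  obtain ⟨v, hv, hv0⟩ := (Submodule.ne_bot_iff U).1 h0
  have key : ∀ x ∈ U, x ≠ 0 → ∀ y, y ≠ 0 → Q8 F x = Q8 F y → y ∈ U := fun x hx hx0 y hy0 e => by
    obtain ⟨g, hg, rfl⟩ := good8.trans_norm hx0 hy0 e
    exact hc ⟨g, hg⟩ x hx
  obtain ⟨w, hw, hw0, hw1⟩ : ∃ w ∈ U, w ≠ 0 ∧ Q8 F w = 0 := by
    by_cases h2 : Q8 F v = 0
    · exact ⟨v, hv, hv0, h2⟩
    obtain ⟨w, k0, k1, k2⟩ := LieClassical.OrthFinite.exists_sing_perp (Q := Q8 F) ![v] (by rw [finrank8]; omega)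
    have k3 : Q8 F v = Q8 F (v + w) := by rw [Q_add, k1, show polar (Q8 F) v w = 0 from k2 0, add_zero, add_zero]
    have k4 := key v hv hv0 (v + w) (fun e => h2 (by rw [k3, e, map_zero])) k3
    exact ⟨w, (add_mem_cancel_left hv).1 k4, k0, k1⟩
  obtain ⟨x, y, hxy⟩ := (good8 (F := F)).exists_hyp
  refine h1 (eq_top_iff.2 fun z _ => sing_induction hxy (P := (· ∈ U)) (fun _ _ => add_mem) (fun a ha => ?_) z)
  by_cases h3 : a = 0
  · exact h3 ▸ zero_mem U
  · exact key w hw hw0 a h3 (hw1.trans ha.symm)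

theorem exists_move2 {U : Submodule F (V8 F)} (h4 : finrank F U = 4) (hN : Nd (Q8 F) U) :
    ∃ e : E8 F, og e ∉ stD U h4 := by
  have h1 := dim_prp U
  obtain ⟨v, hv, hv0⟩ := hN.exists_nonsing (by rintro rfl; simp at h4)
  obtain ⟨w, hw, hw0, hw1⟩ := LieClassical.OrthFinite.exists_sing_mem (Q := Q8 F) (prp (Q8 F) U) (by omega)
  have k3 : Q8 F v = Q8 F (v + w) := by rw [Q_add, hw1, polar_comm, mem_prp.1 hw v hv, add_zero, add_zero]
  obtain ⟨g, hg, e⟩ := good8.trans_norm (v := v) (v' := v + w) (fun e => hv0 (by rw [e, map_zero]))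
    (fun e => hv0 (by rw [k3, e, map_zero])) k3
  refine ⟨⟨g, hg⟩, ?_⟩
  rintro (h | h) <;> have h2 : g v ∈ _ := h v hv <;> rw [e] at h2
  · exact hw0 (hN w ((add_mem_cancel_left hv).1 h2) (mem_prp.1 hw))
  · exact hv0 (by rw [hN v hv (mem_prp.1 ((add_mem_cancel_right hw).1 h2)), map_zero])

namespace Cx

variable {A : Subgroup (G8 F)} {Γ : Subgroup (MulAut (G8 F))} {M₁ M₂ : Gam (Q8 F)} (h : Cx A Γ M₁ M₂)
include h

theorem le_of_inv {H : Subgroup (G8 F)} (hH : H ≠ ⊤) (hi : N2.Inv Γ H) : H ≤ A :=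
  have := simple8 (F := F)
  N2.mi_le h.mi hi hH

theorem eq_norm {H : Subgroup (G8 F)} (h0 : H ≠ ⊥) (hH : H ≠ ⊤) (hi : N2.Inv Γ H) :
    A = Subgroup.normalizer (H : Set (G8 F)) :=
  have := simple8 (F := F)
  (N2.mi_norm h.mi hi h0 hH).symm

theorem og_mem {a : E8 F} : og a ∈ LL Γ ↔ (a : G8 F) ∈ A := by (rewrite [Subgroup.mem_comap]; simp only [Psi_og]; simp only [h.mi.conj])

/-- the three types of elements of `Γ` -/
theorem act {σ : MulAut (G8 F)} (hσ : σ ∈ Γ) : ∃ M ∈ LL Γ, Psi (Q8 F) M = σ ∨ Ty1 σ (M * M₁) ∨ Ty2 σ (M * M₂) := by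
  (have h_ob := h.e1; revert h_ob; rintro (⟨α, hα, h1⟩))
  (have h_ob := h.e2; revert h_ob; rintro (⟨β, hβ, h2⟩))
  (have h_ob := cosets σ
   revert h_ob; rintro (⟨M, hM | hM | hM⟩))
  · exact ⟨M, by (rewrite [Subgroup.mem_comap]; simp only [hM]; assumption), Or.inl hM⟩
  · refine ⟨M * M₁⁻¹, ?_, Or.inr (Or.inl (by rwa [inv_mul_cancel_right]))⟩
    rw [Subgroup.mem_comap, show Psi (Q8 F) (M * M₁⁻¹) = σ * α⁻¹ from ?_]
    · exact mul_mem hσ (inv_mem hα)
    rw [eq_mul_inv_iff_mul_eq]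
    ext x
    (have h_ob := QuotientGroup.mk_surjective x
     revert h_ob; rintro (⟨a, rfl⟩))
    (have h_ob := exists_T3 a
     revert h_ob; rintro (⟨b, c, ht⟩))
    simp only [MulAut.mul_apply (↥(E (Q8 F)) ⧸ Subgroup.center ↥(E (Q8 F))) ((Psi (Q8 F)) (M * M₁⁻¹)) α (↑a), h1 a b c ht, hM a b c ht, Psi_mk (M * M₁⁻¹) (((conjE (Q8 F)) M₁) b), ← conjE_mul' (M * M₁⁻¹) M₁ b, inv_mul_cancel_right M M₁]
  · refine ⟨M * M₂⁻¹, ?_, Or.inr (Or.inr (by rwa [inv_mul_cancel_right]))⟩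
    rw [Subgroup.mem_comap, show Psi (Q8 F) (M * M₂⁻¹) = σ * β⁻¹ from ?_]
    · exact mul_mem hσ (inv_mem hβ)
    rw [eq_mul_inv_iff_mul_eq]
    ext x
    (have h_ob := QuotientGroup.mk_surjective x
     revert h_ob; rintro (⟨a, rfl⟩))
    (have h_ob := exists_T3 a
     revert h_ob; rintro (⟨b, c, ht⟩))
    simp only [MulAut.mul_apply (↥(E (Q8 F)) ⧸ Subgroup.center ↥(E (Q8 F))) ((Psi (Q8 F)) (M * M₂⁻¹)) β (↑a), h2 a b c ht, hM a b c ht, Psi_mk (M * M₂⁻¹) (((conjE (Q8 F)) M₂) c), ← conjE_mul' (M * M₂⁻¹) M₂ c, inv_mul_cancel_right M M₂]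

theorem sym1 {H : Subgroup (G8 F)} (hi : N2.Inv Γ H) {a b c : E8 F} (ht : T3 a b c) :
    (a : G8 F) ∈ H ↔ ((conjE (Q8 F) M₁ b : E8 F) : G8 F) ∈ H := by
  obtain ⟨α, hα, h1⟩ := h.e1
  have := simple8 (F := F)
  rw [← h1 a b c ht, hi.iff hα]

theorem sym2 {H : Subgroup (G8 F)} (hi : N2.Inv Γ H) {a b c : E8 F} (ht : T3 a b c) :
    (a : G8 F) ∈ H ↔ ((conjE (Q8 F) M₂ c : E8 F) : G8 F) ∈ H := by
  obtain ⟨α, hα, h1⟩ := h.e2
  have := simple8 (F := F)
  rw [← h1 a b c ht, hi.iff hα]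

theorem invA : N2.Inv Γ A := fun σ hσ x hx => (h.mi.inv σ hσ x).2 hx

/-- **core lemma** -/
theorem core {S : Subgroup (Gam (Q8 F))} (hS : LL Γ ≤ S) (h0 : ∃ e : E8 F, og e ∉ S) {a b c : E8 F} (ht : T3 a b c) :
    (a : G8 F) ∈ A ↔ og a ∈ S ∧ og (conjE (Q8 F) M₁ b) ∈ S ∧ og (conjE (Q8 F) M₂ c) ∈ S := by
  refine ⟨fun ha => ⟨hS (h.og_mem.2 ha), hS (h.og_mem.2 ((h.sym1 h.invA ht).1 ha)),
    hS (h.og_mem.2 ((h.sym2 h.invA ht).1 ha))⟩, fun ⟨k0, k1, k2⟩ => ?_⟩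
  have hB : ∀ e : E8 F, (e : G8 F) ∈ (S.comap og).map (QuotientGroup.mk' _) ↔ og e ∈ S := fun e => by
    refine ⟨?_, fun k => ⟨e, k, rfl⟩⟩
    rintro ⟨e', k, he⟩
    have k' : og (e'⁻¹ * e) ∈ LL Γ := h.og_mem.2 (by
      rw [QuotientGroup.mk_mul, QuotientGroup.mk_inv, show (e' : G8 F) = e from he, inv_mul_cancel]
      exact one_mem A)
    simpa only [_root_.MonoidHom.map_mul, _root_.MonoidHom.map_inv, _root_.mul_inv_cancel_left] using S.mul_mem k (hS k')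
  have hc : ∀ M ∈ LL Γ, ∀ e : E8 F, og e ∈ S → og (conjE (Q8 F) M e) ∈ S := fun M hM e k => by
    rw [og_conjE]
    exact S.mul_mem (S.mul_mem (hS hM) k) (S.inv_mem (hS hM))
  set B := (S.comap og).map (QuotientGroup.mk' (Subgroup.center (E8 F)))
  have hm : ∀ y, y ∈ (⨅ s : Γ, B.comap s.1.toMonoidHom) ↔ ∀ s ∈ Γ, s y ∈ B := fun y => by
    simp only [Subgroup.mem_iInf, _root_.MulEquiv.toMonoidHom_eq_coe, _root_.Subgroup.mem_comap, _root_.MonoidHom.coe_coe, _root_.Subtype.forall]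
  refine h.le_of_inv (H := ⨅ s : Γ, B.comap s.1.toMonoidHom) (fun e => ?_)
    (fun s hs y hy => (hm _).2 fun s' hs' => (hm y).1 hy (s' * s) (mul_mem hs' hs)) ((hm _).2 fun σ hσ => ?_)
  · obtain ⟨x, hx⟩ := h0
    exact hx ((hB x).1 ((hm x).1 (e ▸ Subgroup.mem_top _) 1 (one_mem Γ)))
  · obtain ⟨M, hM, rfl | k | k⟩ := h.act hσ
    · exact (hB _).2 (hc M hM a k0)
    · rw [k a b c ht, conjE_mul']
      exact (hB _).2 (hc M hM _ k1)
    · rw [k a b c ht, conjE_mul']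
      exact (hB _).2 (hc M hM _ k2)

/-- the stabiliser of three subspaces -/
theorem core_S {U : Submodule F (V8 F)} (h0 : U ≠ ⊥) (h1 : U ≠ ⊤) (hU : ∀ M ∈ LL Γ, ∀ v ∈ U, M.1 v ∈ U) {a b c : E8 F}
    (ht : T3 a b c) :
    (a : G8 F) ∈ A ↔ Kp a U U ∧ Kp b (gmap M₁⁻¹ U) (gmap M₁⁻¹ U) ∧ Kp c (gmap M₂⁻¹ U) (gmap M₂⁻¹ U) := by
  rw [h.core (S := stS U) hU (exists_move h0 h1) ht, ← kp_conj, ← kp_conj]
  rfl

theorem core_D {U : Submodule F (V8 F)} (h4 : finrank F U = 4) (hN : Nd (Q8 F) U) (hU : LL Γ ≤ stD U h4) {a b c : E8 F}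
    (ht : T3 a b c) : (a : G8 F) ∈ A ↔ St2 a U ∧ St2 b (gmap M₁⁻¹ U) ∧ St2 c (gmap M₂⁻¹ U) := by
  rw [h.core hU (exists_move2 h4 hN) ht, ← st2_conj, ← st2_conj]
  rfl

/-- **`4 + 4`** -/
theorem good_44 (g : BoxG44) (t : BoxT44) {C D₂ D₃ : Submodule F (V8 F)} (h4 : finrank F C = 4) (hN : Nd (Q8 F) C)
    (hU : LL Γ ≤ stD C h4) (h2 : D₂ = gmap M₁⁻¹ C ∨ D₂ = prp (Q8 F) (gmap M₁⁻¹ C))
    (h3 : D₃ = gmap M₂⁻¹ C ∨ D₃ = prp (Q8 F) (gmap M₂⁻¹ C)) (hc : ∀ x ∈ D₂, ∀ y ∈ D₃, pm x y ∈ C) : FP3.Good A := by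
  have k : ∀ (M : Gam (Q8 F)) (D : Submodule F (V8 F)), D = gmap M C ∨ D = prp (Q8 F) (gmap M C) →
      finrank F D = 4 ∧ Nd (Q8 F) D ∧ ∀ b, St2 b D → St2 b (gmap M C) := by
    intro M D hD
    have k1 := (finrank_gmap M C).trans h4
    have k2 := dim_prp (gmap M C)
    rcases hD with rfl | rfl
    · exact ⟨k1, nd_gmap M hN, fun _ => id⟩
    · exact ⟨by omega, (nd_gmap M hN).nd_prp nondeg8', fun _ => (st2_prp k1).1⟩
  obtain ⟨a2, b2, c2⟩ := k _ _ h2
  obtain ⟨a3, b3, c3⟩ := k _ _ h3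
  obtain ⟨t1, t2, t3⟩ := t F C D₂ D₃ h4 a2 a3 hN b2 b3 hc
  refine g F A C h4 hN t1 t2 fun a => ?_
  obtain ⟨b, c, ht⟩ := exists_T3 a
  rw [h.core_D h4 hN hU ht]
  exact ⟨fun k => k.1, fun k => ⟨k, c2 _ (t3 a b c ht k).1, c3 _ (t3 a b c ht k).2⟩⟩

/-- **centralisers of involutions** -/
theorem good_inv (g : BoxG44) (h2 : (2 : F) ≠ 0) {z : E8 F} (hz : z * z = 1) (h4 : finrank F (Eg z (-1)) = 4)
    (hf : ∀ σ ∈ Γ, σ (z : G8 F) = z) : FP3.Good A := by
  have h8 := Eg_dim h2 hz (one_mul (1 : F))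
  have hn : ¬ ∃ d, Sc z d := by
    rintro ⟨d, hd⟩
    rcases sq_cases hd.sq with rfl | rfl
    · have : Eg z 1 = ⊤ := eq_top_iff.2 fun v _ => mem_Eg.2 (hd v)
      rw [this, finrank_top, finrank8] at h8
      omega
    · have : Eg z (-1) = ⊤ := eq_top_iff.2 fun v _ => mem_Eg.2 (hd v)
      rw [this, finrank_top, finrank8] at h4
      omega
  obtain ⟨b, c, ht⟩ := exists_T3 z
  obtain ⟨hb, hc⟩ := Z2 h2 ht hz h4
  have hp : prp (Q8 F) (Eg z 1) = Eg z (-1) := by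
    have := dim_prp (Eg z 1)
    exact (Submodule.eq_of_le_of_finrank_eq (fun v hv => (mem_prp.2 fun w hw =>
      (polar_comm _ _ _).trans (Eg_orth h2 (one_mul 1) hw hv) :)) (by omega)).symm
  have hA : Subgroup.centralizer {(z : G8 F)} = A := by
    have := simple8 (F := F)
    refine N2.mi_eq h.mi (fun σ hσ x hx => ?_) (fun x hx => ?_) fun e => hn (mk_eq_one_iff.1 (conj_inj8 ?_))
    · rw [Subgroup.mem_centralizer_singleton_iff] at hx ⊢
      simpa only [hf σ hσ, _root_.map_mul] using congrArg σ hx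
    · rw [Subgroup.mem_centralizer_singleton_iff, ← mul_inv_eq_iff_eq_mul]
      exact hf _ ((h.mi.conj x).2 hx)
    · ext y
      have h1 : y ∈ Subgroup.centralizer {(z : G8 F)} := e ▸ Subgroup.mem_top y
      simp only [← Subgroup.mem_centralizer_singleton_iff.1 h1, _root_.MulAut.conj_apply, _root_.mul_inv_cancel_right, _root_.map_one, _root_.MulAut.one_apply]
  refine g F A (Eg z 1) (by omega) (Eg_nd h2 hz (one_mul 1)) (Z1_ts h2 ht hz hb hc hn (one_mul 1))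
    (hp ▸ Z1_ts h2 ht hz hb hc hn (by ring)) fun a => ?_
  rw [← hA, Subgroup.mem_centralizer_singleton_iff, ← QuotientGroup.mk_mul, ← QuotientGroup.mk_mul, mk_eq_iff, St2, hp]
  constructor
  · rintro ⟨e, he, k⟩
    rcases sq_cases he with rfl | rfl
    · exact Or.inl fun v hv => mem_Eg.2 (by rw [← e8_mul, k, e8_mul, mem_Eg.1 hv, one_smul, one_smul, one_smul])
    · exact Or.inr fun v hv => mem_Eg.2 (by rw [← e8_mul, k, e8_mul, mem_Eg.1 hv, one_smul])
  · have k0 := dim_prp (Eg z 1)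
    rintro (k | k)
    · refine ⟨1, one_mul 1, fun x => ?_⟩
      obtain ⟨y, hy, w, hw, rfl⟩ := Eg_split h2 hz (one_mul 1) (U := ⊤) (fun _ _ => trivial) (v := x) trivial
      have k1 := hp.le (k.prp w (hp.ge hw.2))
      simp only [one_smul, e8_mul, e8_mul, _root_.LinearEquiv.map_add, _root_.LinearEquiv.map_add, _root_.LinearEquiv.map_add, _root_.LinearEquiv.map_add, mem_Eg.1 (k y hy.2), mem_Eg.1 k1, mem_Eg.1 hy.2,
        mem_Eg.1 hw.2, _root_.LinearEquiv.map_smul, _root_.LinearEquiv.map_smul]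
    · refine ⟨-1, by ring, fun x => ?_⟩
      obtain ⟨y, hy, w, hw, rfl⟩ := Eg_split h2 hz (one_mul 1) (U := ⊤) (fun _ _ => trivial) (v := x) trivial
      have k2 := gam_prp (og a) k (by omega) (hp.ge hw.2)
      rw [← hp, prp_prp nondeg8'] at k2
      have k1 : a.1 w ∈ Eg z 1 := k2
      simp only [e8_mul, e8_mul, _root_.LinearEquiv.map_add, _root_.LinearEquiv.map_add, _root_.LinearEquiv.map_add, _root_.LinearEquiv.map_add, mem_Eg.1 (k y hy.2), mem_Eg.1 k1, mem_Eg.1 hy.2,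
        mem_Eg.1 hw.2, _root_.LinearEquiv.map_smul, _root_.LinearEquiv.map_smul]
      module

end Cx

/-! ### perfect groups -/

theorem perf_hom {G C : Type*} [Group G] [CommGroup C] {L : Subgroup G} (hL : ⁅L, L⁆ = L) (f : L →* C) (a : L) :
    f a = 1 := by
  have h1 : L ≤ f.ker.map L.subtype := by
    conv_lhs => rw [← hL]
    refine Subgroup.commutator_le.2 fun x hx y hy => ⟨⁅(⟨x, hx⟩ : L), (⟨y, hy⟩ : L)⁆, ?_, rfl⟩
    rw [SetLike.mem_coe, MonoidHom.mem_ker, map_commutatorElement, commutatorElement_eq_one_iff_mul_comm, mul_comm]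
  obtain ⟨b, hb, e⟩ := h1 a.2
  rwa [show a = b from Subtype.ext e.symm]

/-- a multiplicative function on a perfect group -/
theorem perf_mul {G : Type*} [Group G] {L : Subgroup G} (hL : ⁅L, L⁆ = L) {R : G → F → Prop}
    (ex : ∀ a ∈ L, ∃ l, R a l) (un : ∀ a l l', R a l → R a l' → l = l') (one : R 1 1)
    (mul : ∀ a b l l', R a l → R b l' → R (a * b) (l * l')) : ∀ a ∈ L, R a 1 := by
  choose f hf using ex
  let φ : L →* F :=
    { toFun := fun a => f a a.2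
      map_one' := un _ _ _ (hf 1 _) one
      map_mul' := fun a b => un _ _ _ (hf _ _) (mul _ _ _ _ (hf a a.2) (hf b b.2)) }
  intro a ha
  have h1 : f a ha = 1 := congrArg Units.val (perf_hom hL φ.toHomUnits ⟨a, ha⟩)
  exact h1 ▸ hf a ha

/-- an additive function on a perfect group -/
theorem perf_add {G : Type*} [Group G] {L : Subgroup G} (hL : ⁅L, L⁆ = L) {R : G → F → Prop}
    (ex : ∀ a ∈ L, ∃ l, R a l) (un : ∀ a l l', R a l → R a l' → l = l') (one : R 1 0)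
    (mul : ∀ a b l l', R a l → R b l' → R (a * b) (l + l')) : ∀ a ∈ L, R a 0 := by
  choose f hf using ex
  let φ : L →* Multiplicative F :=
    { toFun := fun a => Multiplicative.ofAdd (f a a.2)
      map_one' := un _ _ _ (hf 1 _) one
      map_mul' := fun a b => un _ _ _ (hf _ _) (mul _ _ _ _ (hf a a.2) (hf b b.2)) }
  intro a ha
  have h1 : f a ha = 0 := perf_hom hL φ ⟨a, ha⟩
  exact h1 ▸ hf a ha

theorem fix_of_fp {L : Subgroup (E8 F)} (hL : ⁅L, L⁆ = L) {v : V8 F} (h : ∀ a ∈ L, Fp a v) : ∀ a ∈ L, a.1 v = v := by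
  by_cases h0 : v = 0
  · exact fun a _ => by rw [h0, _root_.LinearEquiv.map_zero]
  intro a ha
  simpa using perf_mul hL (R := fun a l => a.1 v = l • v) h
    (fun a l l' k k' => smul_left_injective F h0 (k.symm.trans k')) (one_smul F v).symm
    (fun a b l l' k k' => by rw [e8_mul, k', map_smul, k, smul_smul, mul_comm]) a ha

/-- a linear map which commutes with `L` up to scalars commutes with `L` -/
theorem comm_of_smul {L : Subgroup (E8 F)} (hL : ⁅L, L⁆ = L) {g : GL8 F}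
    (h : ∀ a ∈ L, ∃ l : F, ∀ x, a.1 (g x) = l • g (a.1 x)) : ∀ a ∈ L, ∀ x, a.1 (g x) = g (a.1 x) := by
  intro a ha
  simpa using perf_mul hL (R := fun a l => ∀ x, a.1 (g x) = l • g (a.1 x)) h
    (fun a l l' k k' => smul_left_injective F (g.map_ne_zero_iff.2 (a.1.map_ne_zero_iff.2 e8_ne))
      ((k _).symm.trans (k' _))) (fun x => (one_smul F _).symm)
    (fun a b l l' k k' x => by rw [e8_mul, k', map_smul, k, smul_smul, mul_comm, e8_mul]) a ha

theorem comm_of_add {L : Subgroup (E8 F)} (hL : ⁅L, L⁆ = L) {g : Module.End F (V8 F)}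
    (h : ∀ a ∈ L, ∃ l : F, ∀ x, a.1 (g x) = g (a.1 x) + l • a.1 x) : ∀ a ∈ L, ∀ x, a.1 (g x) = g (a.1 x) := by
  intro a ha
  simpa using perf_add hL (R := fun a l => ∀ x, a.1 (g x) = g (a.1 x) + l • a.1 x) h
    (fun a l l' k k' => smul_left_injective F (a.1.map_ne_zero_iff.2 e8_ne)
      (add_left_cancel ((k _).symm.trans (k' _)))) (fun x => by simp only [_root_.OneMemClass.coe_one, _root_.LinearEquiv.coe_one, _root_.id_eq, _root_.zero_smul, _root_.add_zero])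
    (fun a b l l' k k' x => by rw [e8_mul, k', _root_.LinearEquiv.map_add, _root_.LinearEquiv.map_smul, k, e8_mul, add_smul, add_assoc]) a ha

theorem lf_le {N : Subgroup (G8 F)} {a : E8 F} (ha : a ∈ lf N) : (a : G8 F) ∈ N :=
  Subgroup.commutator_le_self (N.comap (QuotientGroup.mk' _)) ha

theorem lf_map {N : Subgroup (G8 F)} (hN : ⁅N, N⁆ = N) : (lf N).map (QuotientGroup.mk' _) = N := by
  rw [lf, Subgroup.map_commutator, Subgroup.map_comap_eq_self_of_surjective (QuotientGroup.mk'_surjective _), hN]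

theorem lf_onto {N : Subgroup (G8 F)} (hN : ⁅N, N⁆ = N) {n : G8 F} (hn : n ∈ N) : ∃ a ∈ lf N, (a : G8 F) = n :=
  (lf_map hN).ge hn

theorem lf_perfect {N : Subgroup (G8 F)} (hN : ⁅N, N⁆ = N) : ⁅lf N, lf N⁆ = lf N := by
  refine le_antisymm (Subgroup.commutator_le_self _) (Subgroup.commutator_le.2 fun x hx y hy => ?_)
  obtain ⟨a, ha, e⟩ := lf_onto hN hx
  obtain ⟨b, hb, e'⟩ := lf_onto hN hy
  have k1 := Subgroup.mem_center_iff.1 (QuotientGroup.eq.1 e)
  have k2 := Subgroup.mem_center_iff.1 (QuotientGroup.eq.1 e')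
  have k3 : ⁅x, y⁆ = ⁅a, b⁆ := by
    rw [← mul_inv_cancel_left a x, ← mul_inv_cancel_left b y]
    generalize a⁻¹ * x = u at k1
    generalize b⁻¹ * y = w at k2
    simp only [commutatorElement_def, mul_inv_rev]
    calc a * u * (b * w) * (u⁻¹ * a⁻¹) * (w⁻¹ * b⁻¹) = a * (u * (b * w) * u⁻¹) * a⁻¹ * (w⁻¹ * b⁻¹) := by group
      _ = a * b * (w * a⁻¹ * w⁻¹) * b⁻¹ := by rw [← k1, mul_inv_cancel_right]; group
      _ = _ := by rw [← k2, mul_inv_cancel_right]
  exact k3 ▸ Subgroup.commutator_mem_commutator ha hb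

theorem lf_conj {N N' : Subgroup (G8 F)} {M : Gam (Q8 F)} (h : ∀ n ∈ N, Psi (Q8 F) M n ∈ N') {a : E8 F} (ha : a ∈ lf N) :
    conjE (Q8 F) M a ∈ lf N' := by
  have h1 : lf N ≤ (lf N').comap (conjE (Q8 F) M).toMonoidHom := Subgroup.commutator_le.2 fun x hx y hy => by
    rw [Subgroup.mem_comap, map_commutatorElement]
    exact Subgroup.commutator_mem_commutator (h _ hx) (h _ hy)
  exact h1 ha

theorem T3.cm {a b c a' b' c' : E8 F} (h : T3 a b c) (h' : T3 a' b' c') : T3 ⁅a, a'⁆ ⁅b, b'⁆ ⁅c, c'⁆ :=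
  ((h.mul h').mul h.inv).mul h'.inv

/-- triples of perfect lifts -/
theorem tri_lf {N₁ N₂ N₃ : Subgroup (G8 F)} (h : ∀ a b c : E8 F, T3 a b c → (a : G8 F) ∈ N₁ → (b : G8 F) ∈ N₂ ∧ (c : G8 F) ∈ N₃)
    {a : E8 F} (ha : a ∈ lf N₁) : ∃ b ∈ lf N₂, ∃ c ∈ lf N₃, T3 a b c := by
  let H : Subgroup (E8 F) :=
    { carrier := {a | ∃ b ∈ lf N₂, ∃ c ∈ lf N₃, T3 a b c}
      mul_mem' := fun ⟨_, hb, _, hc, t⟩ ⟨_, hb', _, hc', t'⟩ => ⟨_, mul_mem hb hb', _, mul_mem hc hc', t.mul t'⟩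
      one_mem' := ⟨1, one_mem _, 1, one_mem _, T3.one⟩
      inv_mem' := fun ⟨_, hb, _, hc, t⟩ => ⟨_, inv_mem hb, _, inv_mem hc, t.inv⟩ }
  have h1 : lf N₁ ≤ H := Subgroup.commutator_le.2 fun x hx y hy => by
    obtain ⟨b, c, t⟩ := exists_T3 x
    obtain ⟨b', c', t'⟩ := exists_T3 y
    exact ⟨_, Subgroup.commutator_mem_commutator (h _ _ _ t hx).1 (h _ _ _ t' hy).1, _,
      Subgroup.commutator_mem_commutator (h _ _ _ t hx).2 (h _ _ _ t' hy).2, T3.cm t t'⟩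
  exact h1 ha

/-- the conjugate `M⁻¹ L M` -/
def cL (M : Gam (Q8 F)) (L : Subgroup (E8 F)) : Subgroup (E8 F) := L.comap (conjE (Q8 F) M).toMonoidHom

theorem mem_cL {M : Gam (Q8 F)} {L : Subgroup (E8 F)} {b : E8 F} : b ∈ cL M L ↔ conjE (Q8 F) M b ∈ L := Iff.rfl

theorem cL_lf (M : Gam (Q8 F)) (N : Subgroup (G8 F)) : cL M (lf N) = lf (N.comap (Psi (Q8 F) M).toMonoidHom) := by
  refine le_antisymm (fun b hb => ?_) fun b hb => lf_conj (fun _ => id) hb
  rw [← conjE_inv_conjE M b]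
  refine lf_conj (fun n hn => ?_) hb
  (simp only [Subgroup.mem_comap, map_inv, MulEquiv.coe_toMonoidHom, MulAut.apply_inv_self]; assumption)

theorem cL_perfect (M : Gam (Q8 F)) {L : Subgroup (E8 F)} (hL : ⁅L, L⁆ = L) : ⁅cL M L, cL M L⁆ = cL M L := by
  rw [cL, Subgroup.comap_equiv_eq_map_symm', ← Subgroup.map_commutator, hL]

theorem Iv.cL {L : Subgroup (E8 F)} {U : Submodule F (V8 F)} (M : Gam (Q8 F)) : Iv (cL M L) (gmap M⁻¹ U) ↔ Iv L U :=
  ⟨fun h a ha => by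
    rw [← conjE_conjE_inv M a]
    exact kp_conj.2 (h _ (by rwa [mem_cL, conjE_conjE_inv])), fun h _ ha => kp_conj.1 (h _ ha)⟩

theorem gmap_inv_gmap (M : Gam (Q8 F)) (U : Submodule F (V8 F)) : gmap M⁻¹ (gmap M U) = U :=
  Submodule.ext fun v => by rw [mem_gmap, inv_inv, apply_mem_gmap]

theorem NoFix.cL {L : Subgroup (E8 F)} (h : NoFix L) (M : Gam (Q8 F)) : NoFix (cL M L) := fun v hv => by
  have h1 := h (M.1 v) fun a ha => by
    rw [← conjE_conjE_inv M a, conjE_apply, hv _ (by rwa [mem_cL, conjE_conjE_inv])]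
  exact by_contra fun h0 => gam_ne M h0 h1

theorem Rd.cL {L : Subgroup (E8 F)} (h : Rd L) (M : Gam (Q8 F)) : Rd (cL M L) := fun U hU => by
  rw [← gmap_inv_gmap M U] at hU ⊢
  have h1 := h _ ((Iv.cL M).1 hU)
  rw [finrank_gmap]
  exact ⟨nd_gmap _ h1.1, h1.2⟩

theorem Iv.prp {L : Subgroup (E8 F)} {U : Submodule F (V8 F)} (h : Iv L U) : Iv L (prp (Q8 F) U) :=
  fun a ha => (h a ha).prp

namespace Cb

variable {A : Subgroup (G8 F)} {Γ : Subgroup (MulAut (G8 F))} {M₁ M₂ : Gam (Q8 F)} {N : Subgroup (G8 F)}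
  {𝓣 : Set (Subgroup (G8 F))} (h : Cb A Γ M₁ M₂ N 𝓣)
include h

theorem perf_mem {S : Subgroup (G8 F)} (hS : S ∈ 𝓣) : ⁅S, S⁆ = S := by
  obtain ⟨h1, h2⟩ := h.simple S hS
  rcases (inferInstance : (commutator S).Normal).eq_bot_or_eq_top with k | k
  · exact (h2 ⟨⟨fun a b => by
      have := Subgroup.commutator_eq_bot_iff_le_centralizer.1 k (Subgroup.mem_top b)
      exact this a (Subgroup.mem_top a)⟩⟩).elim
  · have := congrArg (Subgroup.map S.subtype) k
    rwa [commutator_def, Subgroup.map_commutator, ← MonoidHom.range_eq_map, Subgroup.range_subtype] at this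

theorem le_N {S : Subgroup (G8 F)} (hS : S ∈ 𝓣) : S ≤ N := h.sup ▸ le_sSup hS

theorem perfN : ⁅N, N⁆ = N := by
  refine le_antisymm (Subgroup.commutator_le_self _) ?_
  conv_lhs => rw [← h.sup]
  exact sSup_le fun S hS => (h.perf_mem hS).ge.trans (Subgroup.commutator_mono (h.le_N hS) (h.le_N hS))

theorem perf : ⁅lf N, lf N⁆ = lf N := lf_perfect h.perfN

theorem conj_lf {M : Gam (Q8 F)} (hM : M ∈ LL Γ) {a : E8 F} (ha : a ∈ lf N) : conjE (Q8 F) M a ∈ lf N :=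
  lf_conj (h.inv _ hM) ha

theorem tri {a : E8 F} (ha : a ∈ lf N) : ∃ b ∈ cL M₁ (lf N), ∃ c ∈ cL M₂ (lf N), T3 a b c := by
  simp only [cL_lf, cL_lf]
  exact tri_lf (fun a b c t k => ⟨(h.toCx.sym1 h.inv t).1 k, (h.toCx.sym2 h.inv t).1 k⟩) ha

theorem tri₁ {b : E8 F} (hb : b ∈ cL M₁ (lf N)) : ∃ a ∈ lf N, ∃ c ∈ cL M₂ (lf N), T3 a b c := by
  rw [cL_lf] at hb ⊢
  (have h_ob := tri_lf (N₂ := N.comap (Psi (Q8 F) M₂).toMonoidHom) (N₃ := N) (fun b c a t k =>
    have k1 := (h.toCx.sym1 h.inv t.rot.rot).2 k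
    ⟨(h.toCx.sym2 h.inv t.rot.rot).1 k1, k1⟩) hb
   revert h_ob; rintro (⟨c, hc, a, ha, t⟩))
  exact ⟨a, ha, c, hc, t.rot.rot⟩

theorem tri₂ {c : E8 F} (hc : c ∈ cL M₂ (lf N)) : ∃ a ∈ lf N, ∃ b ∈ cL M₁ (lf N), T3 a b c := by
  rw [cL_lf] at hc ⊢
  (have h_ob := tri_lf (N₂ := N) (N₃ := N.comap (Psi (Q8 F) M₁).toMonoidHom) (fun c a b t k =>
    have k1 := (h.toCx.sym2 h.inv t.rot).2 k
    ⟨k1, (h.toCx.sym1 h.inv t.rot).1 k1⟩) hc
   revert h_ob; rintro (⟨a, ha, b, hb, t⟩))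
  exact ⟨a, ha, b, hb, t.rot⟩

/-- elements of `Ω` which commute with a conjugate of `L` are scalars -/
theorem sc_of_comm (M : Gam (Q8 F)) {g : E8 F} (hg : ∀ l ∈ cL M (lf N), l * g = g * l) : ∃ d, Sc g d := by
  obtain ⟨d, hd⟩ := mk_eq_one_iff.1 (h.cen ((conjE (Q8 F) M g : E8 F) : G8 F) fun n hn => by
    obtain ⟨a, ha, rfl⟩ := lf_onto h.perfN hn
    ((conv => enter [@2]; rw [← QuotientGroup.mk_mul]); (conv => enter [@3]; rw [← QuotientGroup.mk_mul]); rewrite [← conjE_conjE_inv M a]; (conv => enter [@2, @4]; rw [← _root_.MulEquiv.map_mul]); (conv => enter [@3, @4]; rw [← map_mul]); simp only [hg _ (by rwa [mem_cL, conjE_conjE_inv])]))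
  exact ⟨d, conjE_inv_conjE M g ▸ hd.conj M⁻¹⟩

omit h in
theorem cL_one (L : Subgroup (E8 F)) : cL 1 L = L := Subgroup.ext fun b => by
  rw [mem_cL, map_one]
  rfl

theorem sc_of_comm' {g : E8 F} (hg : ∀ l ∈ lf N, l * g = g * l) : ∃ d, Sc g d :=
  h.sc_of_comm 1 (by rwa [cL_one])

/-- **CI**: isometries which commute with a conjugate of `L` are involutions -/
theorem ci (je : BoxJE) (M : Gam (Q8 F)) {g : GL8 F} (hg : g ∈ O (Q8 F))
    (hc : ∀ l ∈ cL M (lf N), ∀ x, l.1 (g x) = g (l.1 x)) (x : V8 F) : g (g x) = x := by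
  obtain ⟨d, hd⟩ := h.sc_of_comm M (g := ⟨g * g, H206.OrthBal.sq_mem_E good8 hg⟩) fun l hl => e8_ext fun v => by
    change l.1 (g (g v)) = g (g (l.1 v))
    rw [hc l hl, hc l hl]
  have h1 : ∀ v, g (g v) = d • v := hd
  by_cases h2 : d = 1
  · rw [h1, h2, one_smul]
  have h3 : d = -1 := (sq_cases hd.sq).resolve_left h2
  obtain ⟨e, he⟩ := h.sc_of_comm M (g := ⟨g, je F g (fun k => h2 (by rw [h3]; linear_combination -k)) hg
    fun v => by rw [h1, h3, neg_one_smul]⟩) fun l hl => e8_ext (hc l hl)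
  have h4 : ∀ v, g v = e • v := he
  rw [h4, h4, smul_smul, he.sq, one_smul]

/-- the partners of a map which commutes with `L` -/
theorem tr_comm {s g k : GL8 F} (t : Tr s g k) (hc : ∀ l ∈ lf N, ∀ x, l.1 (s x) = s (l.1 x)) :
    (∀ l ∈ cL M₁ (lf N), ∀ x, l.1 (g x) = g (l.1 x)) ∧ ∀ l ∈ cL M₂ (lf N), ∀ x, l.1 (k x) = k (l.1 x) := by
  have key : ∀ a ∈ lf N, ∀ b c : E8 F, T3 a b c → ∃ e : F, (∀ x, b.1 (g x) = e • g (b.1 x)) ∧
      ∀ x, c.1 (k x) = e⁻¹ • k (c.1 x) := fun a ha b c t' => by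
    have h1 : a.1 * s = s * a.1 := LinearEquiv.ext (hc a ha)
    obtain ⟨e, -, k1, k2⟩ := Tr.unique (t.mul t') (h1 ▸ Tr.mul t' t)
    exact ⟨e, k1, k2⟩
  refine ⟨comm_of_smul (cL_perfect _ h.perf) fun b hb => ?_, comm_of_smul (cL_perfect _ h.perf) fun c hc => ?_⟩
  · obtain ⟨a, ha, c, -, t'⟩ := h.tri₁ hb
    exact (key a ha b c t').imp fun _ k => k.1
  · obtain ⟨a, ha, b, -, t'⟩ := h.tri₂ hc
    obtain ⟨e, -, k⟩ := key a ha b c t'
    exact ⟨_, k⟩

theorem li_comm (lie : BoxLie) {s g k : Module.End F (V8 F)} (t : Li s g k)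
    (hc : ∀ l ∈ lf N, ∀ x, l.1 (s x) = s (l.1 x)) :
    (∀ l ∈ cL M₁ (lf N), ∀ x, l.1 (g x) = g (l.1 x)) ∧ ∀ l ∈ cL M₂ (lf N), ∀ x, l.1 (k x) = k (l.1 x) := by
  have key : ∀ a ∈ lf N, ∀ b c : E8 F, T3 a b c → ∃ e : F, (∀ x, b.1 (g x) = g (b.1 x) + e • b.1 x) ∧
      ∀ x, c.1 (k x) = k (c.1 x) + -e • c.1 x := fun a ha b c t' => by
    obtain ⟨e, k1, k2⟩ := (lie F).2.1 s g k (b.1.toLinearMap ∘ₗ g ∘ₗ b.1.symm.toLinearMap)
      (c.1.toLinearMap ∘ₗ k ∘ₗ c.1.symm.toLinearMap) t fun x y => by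
        obtain ⟨x, rfl⟩ := b.1.surjective x
        obtain ⟨y, rfl⟩ := c.1.surjective y
        simp only [LinearMap.comp_apply, LinearEquiv.coe_coe, LinearEquiv.symm_apply_apply]
        rw [← t', ← t', ← t', ← hc a ha, t, map_add]
    refine ⟨e, fun x => ?_, fun x => ?_⟩
    · simpa only [_root_.LinearMap.coe_comp, _root_.LinearEquiv.coe_coe, _root_.Function.comp_apply, _root_.LinearEquiv.symm_apply_apply, _root_.LinearMap.add_apply, _root_.LinearMap.smul_apply, _root_.Module.End.one_apply] using LinearMap.congr_fun k1 (b.1 x)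
    · simpa only [sub_eq_add_neg, _root_.neg_smul, _root_.LinearMap.coe_comp, _root_.LinearEquiv.coe_coe, _root_.Function.comp_apply, _root_.LinearEquiv.symm_apply_apply, _root_.LinearMap.add_apply, _root_.LinearMap.neg_apply, _root_.LinearMap.smul_apply, _root_.Module.End.one_apply] using LinearMap.congr_fun k2 (c.1 x)
  refine ⟨comm_of_add (cL_perfect _ h.perf) fun b hb => ?_, comm_of_add (cL_perfect _ h.perf) fun c hc => ?_⟩
  · obtain ⟨a, ha, c, -, t'⟩ := h.tri₁ hb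
    exact (key a ha b c t').imp fun _ k => k.1
  · obtain ⟨a, ha, b, -, t'⟩ := h.tri₂ hc
    obtain ⟨e, -, k⟩ := key a ha b c t'
    exact ⟨_, k⟩

end Cb

end Cfsg.Agent.N2C.D4
end

-- part: N2/Cl/D4/Pl
section
/-!
# N2 (S3519), `PΩ₈⁺(q)` with triality: the stabiliser of three planes (helper61)
-/

set_option autoImplicit false
set_option linter.unusedSectionVars false

namespace Cfsg.Agent.N2C.D4

open QuadraticMap Module Cfsg.Agent.LieClassical.QuadForms Cfsg.Agent.LieClassical.OrthCore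
  Cfsg.Agent.LieClassical.OrthTrans Cfsg.Agent.ClassicalGeometry.OrthSemi Cfsg.Agent.ClassicalGeometry.OrthAut1
  Cfsg.Agent.ClassicalGeometry.TrialityOct Cfsg.Agent.ClassicalGeometry.Triality
  Cfsg.Agent.H989.OutOrth.Basic Cfsg.Agent.H989.OutOrth.Tri Cfsg.Agent.SB.D4

variable {F : Type} [Field F] [Fintype F]

theorem ord_dvd {r : ℕ} (hr : r.Prime) (hc : (r : F) ≠ 0) : orderOf (Nat.card F : ZMod r) ∣ r - 1 :=
  have := Fact.mk hr
  orderOf_dvd_of_pow_eq_one (ZMod.pow_card_sub_one_eq_one (card_ne_zero_zmod hr hc))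

theorem odd_of_three {r : ℕ} (hr : r.Prime) (hc : (r : F) ≠ 0) (h3 : 3 ∣ orderOf (Nat.card F : ZMod r)) : Odd r :=
  hr.odd_of_ne_two fun e => by
    have := h3.trans (ord_dvd hr hc)
    omega

/-- the space moved by an element of odd prime order -/
theorem fx_dim' {r : ℕ} (hr : r.Prime) (ho : Odd r) (hc : (r : F) ≠ 0) {x : GL8 F} (hO : x ∈ O (Q8 F)) (hx : x ^ r = 1)
    (hx1 : x ≠ 1) : ∃ m, finrank F (Fx (Subgroup.zpowers x)) + m = 8 ∧ Even m ∧ m ≠ 0 ∧
      orderOf (Nat.card F : ZMod r) ∣ m := by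
  have := finite_sub (Subgroup.zpowers x)
  have hN := nd_Fx nondeg8' hr hc ((Subgroup.zpowers_le (H := O (Q8 F))).2 hO) fun a ha => by
    obtain ⟨k, rfl⟩ := ha
    rw [← zpow_natCast, ← zpow_mul, mul_comm, zpow_mul, zpow_natCast, hx, one_zpow]
  obtain ⟨m, hm, hk⟩ := order_dvd_one hr hc hx (U := ⊤) fun _ _ => trivial
  rw [top_inf_eq, finrank_top, finrank8] at hm
  have h1 := dim_prp (Fx (Subgroup.zpowers x))
  have h2 := even_of_fpf hr ho hO hx (hN.nd_prp nondeg8')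
    (fun v hv => prp_inv hO (fun w hw => by rwa [mem_Fx_zpowers.1 hw]) hv)
    fun v hv hv' => hN v (mem_Fx_zpowers.2 hv') (mem_prp.1 hv)
  refine ⟨m, hm.symm, by rwa [show m = finrank F (prp (Q8 F) (Fx (Subgroup.zpowers x))) by omega], ?_, hk⟩
  rintro rfl
  have h3 : Fx (Subgroup.zpowers x) = ⊤ := Submodule.eq_top_of_finrank_eq (by rw [finrank8]; omega)
  exact hx1 (LinearEquiv.ext fun v => mem_Fx_zpowers.1 (h3 ▸ Submodule.mem_top))

theorem Rp.fx_dim {a : E8 F} (h : Rp a) : finrank F (Fx (Subgroup.zpowers a.1)) = 2 := by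
  obtain ⟨h1, r, hr, hc, h3, ha⟩ := h
  obtain ⟨m, k1, ⟨n, rfl⟩, k2, k4⟩ := fx_dim' hr (odd_of_three hr hc h3) hc (E_le_O a.2) (congrArg Subtype.val ha)
    fun e => h1 (Subtype.ext e)
  have := h3.trans k4
  omega

/-- small invariant subspaces are fixed -/
theorem Rp.fix {a : E8 F} (h : Rp a) {U : Submodule F (V8 F)} (h2 : finrank F U ≤ 2) (hU : Kp a U U) :
    ∀ v ∈ U, a.1 v = v := by
  obtain ⟨-, r, hr, hc, h3, ha⟩ := h
  obtain ⟨m, k1, k2⟩ := order_dvd_one hr hc (congrArg Subtype.val ha) hU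
  have := h3.trans k2
  exact fun v hv => mem_Fx_zpowers.1 (inf_eq_left.1 (Submodule.eq_of_le_of_finrank_eq inf_le_left (by omega)) hv)

theorem T3.ne_one {a b c : E8 F} {r : ℕ} (ho : Odd r) (h : T3 a b c) (ha : a ^ r = 1) (h1 : a ≠ 1) : b ≠ 1 ∧ c ≠ 1 := by
  constructor <;> rintro rfl
  · obtain ⟨d, d', -, k, -⟩ := h.rot.sc Sc.one
    exact h1 (odd_sc ho k ha)
  · obtain ⟨d, d', k, -⟩ := h.rot.rot.sc Sc.one
    exact h1 (odd_sc ho k ha)

theorem Rp.t3 {a : E8 F} (h : Rp a) : ∃ b c, T3 a b c ∧ Rp b ∧ Rp c := by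
  obtain ⟨h1, r, hr, hc, h3, ha⟩ := h
  have ho := odd_of_three hr hc h3
  obtain ⟨b, c, t, k1, k2⟩ := exists_T3_odd ho ha
  obtain ⟨k3, k4⟩ := T3.ne_one ho t ha h1
  exact ⟨b, c, t, ⟨k3, r, hr, hc, h3, k1⟩, k4, r, hr, hc, h3, k2⟩

theorem Rg.t3 {a : E8 F} (h : Rg a) : ∃ b c, T3 a b c ∧ Rg b ∧ Rg c := by
  rcases h with h | ⟨hq, h9, h3⟩
  · obtain ⟨b, c, t, k1, k2⟩ := h.t3
    exact ⟨b, c, t, Or.inl k1, Or.inl k2⟩
  · obtain ⟨b, c, t, k1, k2⟩ := exists_T3_odd (by decide) h9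
    obtain ⟨k3, k4⟩ := T3.ne_one (r := 3) (by decide) (t.pow 3) (by rw [← pow_mul, h9]) h3
    exact ⟨b, c, t, Or.inr ⟨hq, k1, k3⟩, Or.inr ⟨hq, k2, k4⟩⟩

theorem nine_dvd {a : GL8 F} (h9 : a ^ 9 = 1) (h3 : a ^ 3 ≠ 1) {W : Submodule F (V8 F)} (hW : ∀ v ∈ W, a v ∈ W)
    (hf : ∀ v ∈ W, (a ^ 3) v = v → v = 0) : 9 ∣ Nat.card W - 1 := by
  have : Fact (Nat.Prime 3) := ⟨Nat.prime_three⟩
  have ho : orderOf a = 9 := orderOf_eq_prime_pow (p := 3) (n := 1) h3 h9
  have hk : ∀ g : Subgroup.zpowers a, ∃ k < 9, a ^ k = g := fun g => by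
    classical
    have h1 := (isOfFinOrder_iff_pow_eq_one.2 ⟨9, by norm_num, h9⟩).mem_zpowers_iff_mem_range_orderOf.1 g.2
    rw [ho] at h1
    simpa using h1
  let S : SubMulAction (Subgroup.zpowers a) (V8 F) :=
    ⟨{w | w ∈ W ∧ w ≠ 0}, fun g w hw => by
      obtain ⟨k, -, e⟩ := hk g
      exact ⟨show g.1 w ∈ W from e ▸ pow_inv hW k w hw.1, g.1.map_ne_zero_iff.2 hw.2⟩⟩
  have h1 := Nat.card_congr (MulAction.selfEquivOrbitsQuotientProd (G := Subgroup.zpowers a) (X := S) fun w =>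
    eq_bot_iff.2 fun g hg => by
      obtain ⟨k, k9, e⟩ := hk g
      have h2 : (a ^ k) w.1 = w.1 := e ▸ congrArg Subtype.val hg
      by_contra h4
      have h5 : ∃ j, k * j % 9 = 3 := by
        interval_cases k
        · exact (h4 (Subtype.ext e.symm)).elim
        exacts [⟨3, rfl⟩, ⟨6, rfl⟩, ⟨1, rfl⟩, ⟨3, rfl⟩, ⟨6, rfl⟩, ⟨2, rfl⟩, ⟨3, rfl⟩, ⟨6, rfl⟩]
      obtain ⟨j, hj⟩ := h5
      have h6 := pow_fix h2 j
      rw [← pow_mul, pow_eq_pow_mod _ h9, hj] at h6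
      exact w.2.2 (hf _ w.2.1 h6))
  rw [Nat.card_prod, Nat.card_zpowers, ho] at h1
  have h2 : Nat.card S = Nat.card {w : W // w ≠ 0} := Nat.card_congr
    ⟨fun w => ⟨⟨w.1, w.2.1⟩, fun e => w.2.2 (congrArg Subtype.val e)⟩, fun w => ⟨w.1.1, w.1.2, fun e => w.2 (Subtype.ext e)⟩,
      fun _ => rfl, fun _ => rfl⟩
  classical
  have := Fintype.ofFinite W
  rw [h2, Nat.card_eq_fintype_card, Fintype.card_subtype_compl, Fintype.card_subtype_eq, ← Nat.card_eq_fintype_card] at h1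
  exact ⟨_, h1.trans (mul_comm _ _)⟩

theorem Rg.plane {a : E8 F} (h : Rg a) {U U' : Submodule F (V8 F)} (h2 : finrank F U = 2) (h2' : finrank F U' = 2)
    (hU : Kp a U U) (hU' : Kp a U' U') : U = U' := by
  suffices k : ∃ P : Submodule F (V8 F), finrank F P ≤ 2 ∧ ∀ U : Submodule F (V8 F), finrank F U = 2 → Kp a U U → U ≤ P by
    obtain ⟨P, k1, k2⟩ := k
    exact (Submodule.eq_of_le_of_finrank_le (k2 U h2 hU) (by omega)).trans
      (Submodule.eq_of_le_of_finrank_le (k2 U' h2' hU') (by omega)).symm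
  rcases h with h | ⟨hq, h9, h3⟩
  · exact ⟨_, h.fx_dim.le, fun U k1 k2 v hv => mem_Fx_zpowers.2 (h.fix k1.le k2 v hv)⟩
  have h9' : a.1 ^ 9 = 1 := congrArg Subtype.val h9
  have h3' : a.1 ^ 3 ≠ 1 := fun e => h3 (Subtype.ext e)
  have hO : a.1 ^ 3 ∈ O (Q8 F) := pow_mem (E_le_O a.2) 3
  have hc : ((3 : ℕ) : F) ≠ 0 := fun e => by
    have h4 : ((2 : ℕ) : F) = 0 := by rw [← hq, Nat.card_eq_fintype_card]; exact FiniteField.cast_card_eq_zero F
    exact one_ne_zero (α := F) (by push_cast at e h4; linear_combination e - h4)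
  have hcm : ∀ v, (a.1 ^ 3) (a.1 v) = a.1 ((a.1 ^ 3) v) := fun v =>
    LinearEquiv.congr_fun ((pow_succ a.1 3).symm.trans (pow_succ' a.1 3)) v
  have key : ∀ W : Submodule F (V8 F), Kp a W W → (∀ v ∈ W, (a.1 ^ 3) v = v → v = 0) → 9 ∣ 2 ^ finrank F W - 1 :=
    fun W k1 k2 => by
      have h4 := nine_dvd h9' h3' k1 k2
      rwa [Module.natCard_eq_pow_finrank (K := F), hq] at h4
  have := finite_sub (Subgroup.zpowers (a.1 ^ 3))
  have hN := nd_Fx nondeg8' Nat.prime_three hc ((Subgroup.zpowers_le (H := O (Q8 F))).2 hO) fun g hg => by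
    obtain ⟨k, rfl⟩ := hg
    rw [← zpow_natCast, ← zpow_mul, mul_comm, zpow_mul, zpow_natCast, ← pow_mul, h9', one_zpow]
  have hP : Kp a (Fx (Subgroup.zpowers (a.1 ^ 3))) (Fx (Subgroup.zpowers (a.1 ^ 3))) := fun v hv =>
    mem_Fx_zpowers.2 (by rw [hcm, mem_Fx_zpowers.1 hv])
  refine ⟨Fx (Subgroup.zpowers (a.1 ^ 3)), ?_, fun U k1 k2 => ?_⟩
  · have k1 := key _ hP.prp fun v hv hv' => hN v (mem_Fx_zpowers.2 hv') (mem_prp.1 hv)
    have k2 := dim_prp (Fx (Subgroup.zpowers (a.1 ^ 3)))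
    have k3 : finrank F (Fx (Subgroup.zpowers (a.1 ^ 3))) ≠ 8 := fun e => h3' (LinearEquiv.ext fun v =>
      mem_Fx_zpowers.1 (Submodule.eq_top_of_finrank_eq (e.trans finrank8.symm) ▸ Submodule.mem_top))
    by_contra k4
    generalize finrank F (prp (Q8 F) (Fx (Subgroup.zpowers (a.1 ^ 3)))) = m at *
    have k5 : m ≤ 5 := by omega
    have k6 : 0 < m := by (clear * - k3 k2; omega)
    interval_cases m <;> omega
  · obtain ⟨m, k3, k4⟩ := order_dvd_one Nat.prime_three hc (x := a.1 ^ 3) (by rw [← pow_mul, h9']) (pow_inv k2 3)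
    have k5 : orderOf (Nat.card F : ZMod 3) = 2 := by
      rw [hq]
      exact orderOf_eq_prime (by decide) (by decide)
    by_cases k6 : m = 0
    · exact inf_eq_left.1 (Submodule.eq_of_le_of_finrank_eq inf_le_left (by omega))
    have k9 : finrank F ↥(U ⊓ Fx (Subgroup.zpowers (a.1 ^ 3))) = 0 := by
      rw [k5] at k4
      omega
    have k7 : U ⊓ Fx (Subgroup.zpowers (a.1 ^ 3)) = ⊥ := Submodule.finrank_eq_zero.1 k9
    have k8 := key U k2 fun v hv hv' => k7.le ⟨hv, mem_Fx_zpowers.2 hv'⟩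
    rw [k1] at k8
    omega

theorem kp_of_conj {a t : E8 F} {P : Submodule F (V8 F)} (hr : Rg a) (h2 : finrank F P = 2) (h : Kp a P P)
    (h' : Kp (t⁻¹ * a * t) P P) : Kp t P P := by
  have h1 : gmap (og t) P = P := hr.plane ((finrank_gmap _ _).trans h2) h2 (fun v hv => by
    obtain ⟨w, rfl⟩ := (og t).1.surjective v
    exact h' w (apply_mem_gmap.1 hv)) h
  exact fun v hv => h1.le (apply_mem_gmap (M := og t).2 hv)

/-- **three planes** -/
theorem Cx.good_12 {A : Subgroup (G8 F)} {Γ : Subgroup (MulAut (G8 F))} {M₁ M₂ : Gam (Q8 F)} (h : Cx A Γ M₁ M₂)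
    {P : Submodule F (V8 F)} (h2 : finrank F P = 2) (hP : ∀ M ∈ LL Γ, ∀ v ∈ P, M.1 v ∈ P) {s : E8 F}
    (hs : (s : G8 F) ∈ A) (hr : Rg s) : FP3.Good A := by
  have := finite8 (F := F)
  have hc := fun (a b c : E8 F) (ht : T3 a b c) => h.core_S (U := P) (by rintro rfl; simp at h2)
    (by rintro rfl; rw [finrank_top, finrank8] at h2; omega) hP ht
  obtain ⟨b, c, ht, hb, hc'⟩ := hr.t3
  obtain ⟨k1, k2, k3⟩ := (hc _ _ _ ht).1 hs
  refine N2.good_of_one hs (N2.fx_le_one fun t k => ?_)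
  obtain ⟨t, rfl⟩ := QuotientGroup.mk_surjective t
  obtain ⟨u, w, ht'⟩ := exists_T3 t
  obtain ⟨j1, j2, j3⟩ := (hc _ _ _ ((ht'.inv.mul ht).mul ht')).1 k
  exact (hc _ _ _ ht').2 ⟨kp_of_conj hr h2 k1 j1, kp_of_conj hb ((finrank_gmap _ _).trans h2) k2 j2,
    kp_of_conj hc' ((finrank_gmap _ _).trans h2) k3 j3⟩

end Cfsg.Agent.N2C.D4
end

private theorem dce_43642a833c56 : _root_.True := by
  try have : _root_.True := by simp only [_root_.Cfsg.Agent.N2C.D4.lf.eq_1]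
  try have : _root_.True := by simp only [_root_.Cfsg.Agent.N2C.D4.cL.eq_1]
  try have : _root_.True := by simp only [_root_.Cfsg.Agent.N2C.D4.St2.eq_1]
  exact _root_.True.intro
end
end

-- part: N2/Cl/D4/Cy
section
prune_inst 0x2
set_option linter.all false
open scoped Cfsg.Agent.FastGrp

/-!
# N2 (S3519), `PΩ₈⁺(q)` with triality: minimal invariant elementary abelian subgroups, odd order (helper61)

The lemmas of `SB/D4` (helper97) for a group of automorphisms which need not be solvable.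
-/

set_option autoImplicit false
set_option linter.unusedSectionVars false

namespace Cfsg.Agent.N2C.D4

open QuadraticMap Module Cfsg.Agent.LieClassical.QuadForms Cfsg.Agent.LieClassical.OrthCore
  Cfsg.Agent.LieClassical.OrthTrans Cfsg.Agent.ClassicalGeometry.OrthSemi Cfsg.Agent.ClassicalGeometry.OrthAut1
  Cfsg.Agent.ClassicalGeometry.TrialityOct Cfsg.Agent.ClassicalGeometry.Triality
  Cfsg.Agent.H989.OutOrth.Basic Cfsg.Agent.H989.OutOrth.Tri Cfsg.Agent.H786.FC Cfsg.Agent.SB.D4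

variable {F : Type} [Field F] [Fintype F]

/-- `S` involves triality, `X` is a minimal `S`-invariant subgroup of exponent `r` -/
structure Cy (S : Subgroup (MulAut (G8 F))) (X : Subgroup (G8 F)) (r : ℕ) : Prop where
  mx : ∀ H : Subgroup (G8 F), H ≠ ⊤ → (∀ s ∈ S, ∀ y ∈ H, s y ∈ H) → ∀ g ∈ H, MulAut.conj g ∈ S
  t1 : ∃ α ∈ S, ∃ M, Ty1 α M
  t2 : ∃ α ∈ S, ∃ M, Ty2 α M
  ne : X ≠ ⊥
  inv : ∀ s ∈ S, ∀ x ∈ X, s x ∈ X
  min : ∀ Y ≤ X, (∀ s ∈ S, ∀ y ∈ Y, s y ∈ Y) → Y = ⊥ ∨ Y = X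
  comm : ∀ x ∈ X, ∀ y ∈ X, x * y = y * x
  prime : r.Prime
  pow : ∀ x ∈ X, x ^ r = 1
  char : (r : F) ≠ 0

namespace Cy

variable {S : Subgroup (MulAut (G8 F))} {X : Subgroup (G8 F)} {r : ℕ} (h : Cy S X r)
include h

theorem le_of_inv {H : Subgroup (G8 F)} (hH : H ≠ ⊤) (hinv : ∀ s ∈ S, ∀ y ∈ H, s y ∈ H) {g : G8 F} (hg : g ∈ H) :
    MulAut.conj g ∈ S := h.mx H hH hinv g hg

theorem cent {g : G8 F} (hg : ∀ x ∈ X, x * g = g * x) : MulAut.conj g ∈ S := by
  refine h.le_of_inv (H := Subgroup.centralizer (X : Set (G8 F))) (fun e => h.ne ?_) (fun s hs y hy x hx => ?_) hg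
  · have := simple8 (F := F)
    rw [eq_bot_iff]
    intro x hx
    apply conj_inj8
    ext y
    have h1 : y ∈ Subgroup.centralizer (X : Set (G8 F)) := e ▸ Subgroup.mem_top y
    simp only [h1 x hx, _root_.MulAut.conj_apply, _root_.mul_inv_cancel_right, _root_.map_one, _root_.MulAut.one_apply]
  · have h1 := congrArg s (hy _ (h.inv s⁻¹ (inv_mem hs) x hx))
    simpa only [_root_.MulAut.inv_apply, _root_.map_mul, _root_.MulEquiv.apply_symm_apply] using h1

theorem norm {g : G8 F} (hg : MulAut.conj g ∈ S) {x : G8 F} (hx : x ∈ X) : g * x * g⁻¹ ∈ X := h.inv _ hg x hx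

theorem conjE_mem {M : Gam (Q8 F)} (hM : M ∈ LL S) {a : E8 F} (ha : (a : G8 F) ∈ X) :
    ((conjE (Q8 F) M a : E8 F) : G8 F) ∈ X := h.inv _ hM _ ha

theorem og_mem {y : E8 F} (hy : ∀ x ∈ X, ∃ a : E8 F, (a : G8 F) = x ∧ a * y = y * a) : og y ∈ LL S := by
  simp only [Subgroup.mem_comap, Psi_og]
  refine h.cent fun x hx => ?_
  obtain ⟨a, rfl, ha⟩ := hy x hx
  exact congrArg (QuotientGroup.mk : E8 F → G8 F) ha

theorem sg_mem {e e' : V8 F} (he : Q8 F e = 0) (he' : Q8 F e' = 0)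
    (hy : ∀ x ∈ X, ∃ a : E8 F, (a : G8 F) = x ∧ wd (Q8 F) (a.1 e) (a.1 e') = wd (Q8 F) e e') (c : F)
    (hc : polar (Q8 F) e (c • e') = 0) :
    ((⟨siegel (Q8 F) e (c • e') he hc, siegel_mem_E he hc⟩ : E8 F) : G8 F) ∈
      Subgroup.centralizer (X : Set (G8 F)) := by
  intro x hx
  obtain ⟨a, rfl, ha⟩ := hy x hx
  refine congrArg (QuotientGroup.mk : E8 F → G8 F) (Subtype.ext (LinearEquiv.ext fun v => ?_))
  have hO := E_le_O a.2
  have h1 := congrFun ha (a.1 v)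
  rw [wd, wd, polar_map hO, polar_map hO] at h1
  show a.1 (siegel (Q8 F) e (c • e') he hc v) = siegel (Q8 F) e (c • e') he hc (a.1 v)
  simp only [siegel_apply, QuadraticMap.map_smul, he', smul_eq_mul, mul_zero, zero_mul, zero_smul, sub_zero, map_add,
    map_sub, map_smul, polar_smul_left]
  linear_combination (norm := module) c • h1

theorem mem_iff {s : MulAut (G8 F)} (hs : s ∈ S) {x : G8 F} : s x ∈ X ↔ x ∈ X :=
  ⟨fun hx => by simpa only [_root_.MulAut.inv_apply, _root_.MulEquiv.symm_apply_apply] using h.inv s⁻¹ (inv_mem hs) _ hx, h.inv s hs x⟩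

theorem sym1 : ∃ M : Gam (Q8 F), ∀ a b c : E8 F, T3 a b c →
    ((a : G8 F) ∈ X ↔ ((conjE (Q8 F) M b : E8 F) : G8 F) ∈ X) := by
  obtain ⟨α, hα, M, hM⟩ := h.t1
  exact ⟨M, fun a b c ht => by rw [← hM a b c ht, h.mem_iff hα]⟩

theorem sym2 : ∃ M : Gam (Q8 F), ∀ a b c : E8 F, T3 a b c →
    ((a : G8 F) ∈ X ↔ ((conjE (Q8 F) M c : E8 F) : G8 F) ∈ X) := by
  obtain ⟨α, hα, M, hM⟩ := h.t2
  exact ⟨M, fun a b c ht => by rw [← hM a b c ht, h.mem_iff hα]⟩

/-- a fixed singular point gives an invariant totally singular solid -/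
theorem tf1 {e : V8 F} (he : Q8 F e = 0) (he0 : e ≠ 0)
    (hfix : ∀ x ∈ X, ∃ a : E8 F, (a : G8 F) = x ∧ ∃ l : F, a.1 e = l • e) :
    ∃ U : Submodule F (V8 F), finrank F U = 4 ∧ (∀ u ∈ U, Q8 F u = 0) ∧
      ∀ a : E8 F, (a : G8 F) ∈ X → ∀ u ∈ U, a.1 u ∈ U := by
  obtain ⟨M, hM⟩ := h.sym2
  refine ⟨LinearMap.range (pr (M⁻¹.1 e)), finrank_pr (gam_sing _ he) (gam_ne _ he0), ?_, fun a ha => ?_⟩
  · rintro _ ⟨t, rfl⟩
    rw [pr_apply, norm_pm, gam_sing _ he, mul_zero]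
  rintro _ ⟨t, rfl⟩
  obtain ⟨b, c, ht⟩ := exists_T3 a
  obtain ⟨a', ha', l, hl⟩ := hfix _ ((hM a b c ht).1 ha)
  obtain ⟨d, -, hd⟩ := mk_eq_iff.1 ha'
  have h1 : (conjE (Q8 F) M c).1 e = (d * l) • e := by rw [hd, hl, smul_smul]
  obtain ⟨l', hl'⟩ := conjE_eig (M := M⁻¹) h1
  rw [conjE_inv_conjE] at hl'
  refine ⟨l' • b.1 t, ?_⟩
  rw [pr_apply, pr_apply, ht, hl', smul_pm, pm_smul]

/-- an invariant totally singular solid gives a fixed singular point -/
theorem tf2 {U : Submodule F (V8 F)} (h4 : finrank F U = 4) (hs : ∀ u ∈ U, Q8 F u = 0)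
    (hinv : ∀ x ∈ X, ∃ a : E8 F, (a : G8 F) = x ∧ ∀ u ∈ U, a.1 u ∈ U) :
    ∃ e : V8 F, Q8 F e = 0 ∧ e ≠ 0 ∧ ∀ a : E8 F, (a : G8 F) ∈ X → ∃ l : F, a.1 e = l • e := by
  have hinv' : ∀ a : E8 F, (a : G8 F) ∈ X → ∀ u ∈ U, a.1 u ∈ U := fun a ha u hu => by
    obtain ⟨a', ha', h1⟩ := hinv _ ha
    obtain ⟨d, -, hd⟩ := mk_eq_iff.1 ha'
    rw [hd]
    exact U.smul_mem _ (h1 u hu)
  obtain ⟨x, hx, hx0, hU⟩ := ClassicalGeometry.TrialitySpaces.isOct_of_singular hs h4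
  have hy : Q8 F (oconj x) = 0 := by rwa [norm_oconj]
  have hy0 := ClassicalGeometry.TrialitySpaces.oconj_ne_zero hx0
  rw [← oconj_oconj x, ← range_pl, ← range_pr] at hU
  set! y := oconj x with hset8; rewrite [← hset8] at hy0 hy hU; clear hset8
  rcases hU with rfl | rfl
  · obtain ⟨M, hM⟩ := h.sym1
    refine ⟨M.1 y, gam_sing _ hy, gam_ne _ hy0, fun a' ha' => ?_⟩
    rw [← conjE_conjE_inv M a'] at ha' ⊢
    obtain ⟨a, c, ht⟩ := exists_T3₁ (conjE (Q8 F) M⁻¹ a')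
    set! b := conjE (Q8 F) M⁻¹ a' with hset8; rewrite [← hset8] at ht ha' ⊢; clear hset8
    obtain ⟨l, hl⟩ := pl_line hy hy0 ((mem_O.1 (E_le_O b.2) y).trans hy) (b.1.map_ne_zero_iff.2 hy0) fun t => by
      obtain ⟨t, rfl⟩ := c.1.surjective t
      rw [← ht]
      exact hinv' a ((hM a b c ht).2 ha') _ ⟨t, rfl⟩
    exact conjE_eig hl
  · obtain ⟨M, hM⟩ := h.sym2
    refine ⟨M.1 y, gam_sing _ hy, gam_ne _ hy0, fun a' ha' => ?_⟩
    rw [← conjE_conjE_inv M a'] at ha' ⊢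
    obtain ⟨a, b, ht⟩ := exists_T3₂ (conjE (Q8 F) M⁻¹ a')
    set! c := conjE (Q8 F) M⁻¹ a' with hset8; rewrite [← hset8] at ht ha' ⊢; clear hset8
    obtain ⟨l, hl⟩ := pr_line hy hy0 ((mem_O.1 (E_le_O c.2) y).trans hy) (c.1.map_ne_zero_iff.2 hy0) fun t => by
      obtain ⟨t, rfl⟩ := b.1.surjective t
      rw [← ht]
      exact hinv' a ((hM a b c ht).2 ha') _ ⟨t, rfl⟩
    exact conjE_eig hl

end Cy

namespace Cy

variable {S : Subgroup (MulAut (G8 F))} {X : Subgroup (G8 F)} {r : ℕ} (h : Cy S X r) (ho : Odd r)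
include h

/-- the order of `q` modulo `r` -/
theorem order_cases : orderOf (Nat.card F : ZMod r) ∣ 4 ∨ orderOf (Nat.card F : ZMod r) ∣ 6 := by
  have : Fact r.Prime := ⟨h.prime⟩
  obtain ⟨⟨x, hx⟩, hx1⟩ := Subgroup.ne_bot_iff_exists_ne_one.1 h.ne
  have h1 : r ∣ Nat.card (G8 F) := by
    rw [← orderOf_eq_prime (h.pow x hx) fun e => hx1 (Subtype.ext e)]
    exact orderOf_dvd_natCard x
  have h2 := S0293.result (F := F) rfl 4 le_rfl
  rw [Cfsg.Agent.H989.OutOrth.Forms.card_P good8, coe_plusForm] at h1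
  have h3 := h2 ▸ h1.mul_left (Nat.gcd 4 (Fintype.card F ^ 4 - 1))
  have hq := card_ne_zero_zmod h.prime h.char
  have hq1 : 0 < Fintype.card F := Fintype.card_pos
  rw [Nat.card_eq_fintype_card] at hq ⊢
  have key : ∀ n, r ∣ Fintype.card F ^ n - 1 → orderOf (Fintype.card F : ZMod r) ∣ n := fun n hn => by
    refine orderOf_dvd_of_pow_eq_one ?_
    rw [← ZMod.natCast_eq_zero_iff, Nat.cast_sub (Nat.one_le_pow _ _ hq1), Nat.cast_pow, Nat.cast_one] at hn
    exact sub_eq_zero.1 hn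
  simp only [Finset.prod_range_succ, Finset.prod_range_zero, one_mul, h.prime.dvd_mul, Nat.reduceSub] at h3
  rcases h3 with (h3 | h3) | (h3 | h3) | h3
  · exact (hq ((ZMod.natCast_eq_zero_iff _ _).2 (h.prime.dvd_of_dvd_pow h3))).elim
  · exact Or.inl (key _ h3)
  · exact Or.inl ((key _ h3).trans (by norm_num))
  · exact Or.inl (key _ h3)
  · exact Or.inr (key _ h3)

include ho

theorem comm_odd {a b : E8 F} (ha : (a : G8 F) ∈ X) (hb : (b : G8 F) ∈ X) (hbr : b ^ r = 1) : a * b = b * a := by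
  have h1 : ((a * b * a⁻¹ * b⁻¹ : E8 F) : G8 F) = 1 := by
    rw [QuotientGroup.mk_mul, QuotientGroup.mk_mul, QuotientGroup.mk_mul, h.comm _ ha _ hb]
    simp only [_root_.QuotientGroup.mk_inv, _root_.mul_inv_cancel_right, _root_.mul_inv_cancel]
  have h2 := Subgroup.mem_center_iff.1 ((QuotientGroup.eq_one_iff _).1 h1)
  obtain ⟨e, he⟩ := mk_eq_one_iff.1 h1
  have h3 := odd_sc ho he (by
    have h4 : Commute (a * b * a⁻¹ * b⁻¹) b := (h2 b).symm
    have h5 := h4.mul_pow r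
    rwa [inv_mul_cancel_right, conj_pow, hbr, mul_one, mul_one, mul_inv_cancel, eq_comm] at h5)
  rwa [mul_inv_eq_one, mul_inv_eq_iff_eq_mul] at h3

/-- the lifts of odd order -/
def Y : Subgroup (GL8 F) where
  carrier := {g | ∃ a : E8 F, a.1 = g ∧ (a : G8 F) ∈ X ∧ a ^ r = 1}
  mul_mem' := by
    rintro _ _ ⟨a, rfl, ha, ha'⟩ ⟨b, rfl, hb, hb'⟩
    refine ⟨a * b, rfl, mul_mem ha hb, ?_⟩
    rw [Commute.mul_pow (h.comm_odd ho ha hb hb'), ha', hb', one_mul]
  one_mem' := ⟨1, rfl, one_mem X, one_pow r⟩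
  inv_mem' := by
    rintro _ ⟨a, rfl, ha, ha'⟩
    exact ⟨a⁻¹, rfl, (inv_mem ha :), by rw [inv_pow, ha', inv_one]⟩

theorem coe_mem_Y {a : E8 F} : a.1 ∈ h.Y ho ↔ (a : G8 F) ∈ X ∧ a ^ r = 1 :=
  ⟨fun ⟨_, e, h1⟩ => Subtype.ext e ▸ h1, fun h1 => ⟨a, rfl, h1⟩⟩

theorem lift (x : G8 F) (hx : x ∈ X) : ∃ a : E8 F, (a : G8 F) = x ∧ a.1 ∈ h.Y ho := by
  obtain ⟨a, rfl⟩ := QuotientGroup.mk_surjective x
  have h1 : ((a ^ (r + 1) : E8 F) : G8 F) = a := by rw [QuotientGroup.mk_pow, pow_succ, h.pow _ hx, one_mul]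
  obtain ⟨e, he⟩ := mk_eq_one_iff.1 (show ((a ^ r : E8 F) : G8 F) = 1 from h.pow _ hx)
  exact ⟨_, h1, (h.coe_mem_Y ho).2 ⟨h1 ▸ hx, odd_lift ho he⟩⟩

theorem Y_le : h.Y ho ≤ O (Q8 F) := by
  rintro _ ⟨a, rfl, -⟩
  exact E_le_O a.2

theorem Y_pow : ∀ g ∈ h.Y ho, g ^ r = 1 := by
  rintro _ ⟨a, rfl, -, ha⟩
  exact congrArg Subtype.val ha

theorem Y_comm : ∀ g ∈ h.Y ho, ∀ g' ∈ h.Y ho, g * g' = g' * g := by
  rintro _ ⟨a, rfl, ha, -⟩ _ ⟨b, rfl, hb, hb'⟩
  exact congrArg Subtype.val (h.comm_odd ho ha hb hb')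

theorem Y_conj : ∀ M ∈ LL S, ∀ g ∈ h.Y ho, conjLin M g ∈ h.Y ho := by
  rintro M hM _ ⟨a, rfl, ha, ha'⟩
  exact ⟨conjE (Q8 F) M a, rfl, h.conjE_mem hM ha, by rw [← map_pow, ha', map_one]⟩

theorem Y_ne : ∃ g ∈ h.Y ho, g ≠ 1 := by
  obtain ⟨⟨x, hx⟩, hx1⟩ := Subgroup.ne_bot_iff_exists_ne_one.1 h.ne
  obtain ⟨a, rfl, ha⟩ := h.lift ho x hx
  exact ⟨_, ha, fun e => hx1 (Subtype.ext (congrArg (QuotientGroup.mk : E8 F → G8 F) (Subtype.ext e : a = 1)))⟩

theorem Fx_ne_top : Fx (h.Y ho) ≠ ⊤ := fun e => by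
  obtain ⟨g, hg, hg1⟩ := h.Y_ne ho
  exact hg1 (LinearEquiv.ext fun v => mem_Fx.1 (e ▸ Submodule.mem_top) g hg)

theorem nd_FxY : Nd (Q8 F) (Fx (h.Y ho)) :=
  have := finite_sub (h.Y ho)
  nd_Fx nondeg8' h.prime h.char (h.Y_le ho) (h.Y_pow ho)

theorem conjE_mem_Y {M : Gam (Q8 F)} {a b : E8 F} (ha : a ^ r = 1) (hb : b ^ r = 1)
    (hM : (a : G8 F) ∈ X ↔ ((conjE (Q8 F) M b : E8 F) : G8 F) ∈ X) : a.1 ∈ h.Y ho ↔ conjLin M b.1 ∈ h.Y ho := by
  simp only [h.coe_mem_Y ho, ← coe_conjE, h.coe_mem_Y ho, ← map_pow, hb, map_one, hM, ha]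

theorem tf1Y {e : V8 F} (he : Q8 F e = 0) (he0 : e ≠ 0) (hfix : e ∈ Fx (h.Y ho)) :
    ∃ U : Submodule F (V8 F), finrank F U = 4 ∧ (∀ u ∈ U, Q8 F u = 0) ∧ ∀ g ∈ h.Y ho, ∀ u ∈ U, g u ∈ U := by
  obtain ⟨U, h1, h2, h3⟩ := h.tf1 he he0 fun x hx => (h.lift ho x hx).imp fun a ha =>
    ⟨ha.1, 1, by rw [mem_Fx.1 hfix _ ha.2, one_smul]⟩
  refine ⟨U, h1, h2, ?_⟩
  rintro _ ⟨a, rfl, ha, -⟩
  exact h3 a ha

theorem tf2Y {U : Submodule F (V8 F)} (h4 : finrank F U = 4) (hs : ∀ u ∈ U, Q8 F u = 0)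
    (hinv : ∀ g ∈ h.Y ho, ∀ u ∈ U, g u ∈ U) :
    ∃ e : V8 F, Q8 F e = 0 ∧ e ≠ 0 ∧ ∀ g ∈ h.Y ho, ∃ l : F, g e = l • e := by
  obtain ⟨e, h1, h2, h3⟩ := h.tf2 h4 hs fun x hx => (h.lift ho x hx).imp fun a ha => ⟨ha.1, hinv _ ha.2⟩
  refine ⟨e, h1, h2, ?_⟩
  rintro _ ⟨a, rfl, ha, -⟩
  exact h3 a ha

end Cy

namespace Cy

variable {S : Subgroup (MulAut (G8 F))} {X : Subgroup (G8 F)} {r : ℕ} (h : Cy S X r) (ho : Odd r)
include h

theorem core {H : Subgroup (G8 F)} (hH : H ≠ ⊤) {g : G8 F} (hg : ∀ s ∈ S, s g ∈ H) : MulAut.conj g ∈ S := by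
  have hm : ∀ y, y ∈ (⨅ s : S, H.comap s.1.toMonoidHom) ↔ ∀ s ∈ S, s y ∈ H := fun y => by
    simp only [Subgroup.mem_iInf, _root_.MulEquiv.toMonoidHom_eq_coe, _root_.Subgroup.mem_comap, _root_.MonoidHom.coe_coe, _root_.Subtype.forall]
  refine h.le_of_inv (H := ⨅ s : S, H.comap s.1.toMonoidHom) (fun e => hH (eq_top_iff.2 fun y _ => ?_))
    (fun s hs y hy => (hm _).2 fun s' hs' => (hm y).1 hy (s' * s) (mul_mem hs' hs)) ((hm g).2 hg)
  exact (hm y).1 (e ▸ Subgroup.mem_top y) 1 (one_mem S)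

include ho

theorem fx_dim {x : GL8 F} (hx : x ∈ h.Y ho) (hx1 : x ≠ 1) : ∃ m, finrank F (Fx (Subgroup.zpowers x)) + m = 8 ∧
    Even m ∧ m ≠ 0 ∧ orderOf (Nat.card F : ZMod r) ∣ m := by
  have := finite_sub (Subgroup.zpowers x)
  have hle := (Subgroup.zpowers_le (H := h.Y ho)).2 hx
  have hN := nd_Fx nondeg8' h.prime h.char (hle.trans (h.Y_le ho)) fun a ha => h.Y_pow ho a (hle ha)
  obtain ⟨m, hm, hk⟩ := order_dvd_one h.prime h.char (h.Y_pow ho x hx) (U := ⊤) fun _ _ => trivial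
  rw [top_inf_eq, finrank_top, finrank8] at hm
  have h1 := finrank_prp nondeg8' (Fx (Subgroup.zpowers x))
  have h2 := even_of_fpf h.prime ho (h.Y_le ho hx) (h.Y_pow ho x hx) (hN.nd_prp nondeg8')
    (fun v hv => prp_inv (h.Y_le ho hx) (fun w hw => by rwa [mem_Fx_zpowers.1 hw]) hv)
    fun v hv hv' => hN v (mem_Fx_zpowers.2 hv') (mem_prp.1 hv)
  rw [finrank8] at h1
  refine ⟨m, hm.symm, by rwa [show m = finrank F (prp (Q8 F) (Fx (Subgroup.zpowers x))) by omega], ?_, hk⟩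
  rintro rfl
  have h3 : Fx (Subgroup.zpowers x) = ⊤ := Submodule.eq_top_of_finrank_eq (by rw [finrank8]; omega)
  exact hx1 (LinearEquiv.ext fun v => mem_Fx_zpowers.1 (h3 ▸ Submodule.mem_top))

theorem fx_inv {x g : GL8 F} (hx : x ∈ h.Y ho) (hg : g ∈ h.Y ho) {v : V8 F} (hv : v ∈ Fx (Subgroup.zpowers x)) :
    g v ∈ Fx (Subgroup.zpowers x) := by
  rw [mem_Fx_zpowers] at hv ⊢
  rw [comm_apply (h.Y_comm ho) hx hg, hv]

theorem ty1_fx {s : MulAut (G8 F)} (hs : s ∈ S) {M : Gam (Q8 F)} (hM : Ty1 s M) {v : V8 F} :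
    M.1 v ∈ Fx (h.Y ho) ↔ ∀ a b c : E8 F, T3 a b c → a.1 ∈ h.Y ho → b ^ r = 1 → b.1 v = v := by
  have key : ∀ a b c : E8 F, T3 a b c → a ^ r = 1 → b ^ r = 1 → (a.1 ∈ h.Y ho ↔ conjLin M b.1 ∈ h.Y ho) :=
    fun a b c ht ha hb => h.conjE_mem_Y ho ha hb (by rw [← hM a b c ht, h.mem_iff hs])
  refine ⟨fun hv a b c ht ha hb => M.1.injective ?_, fun hv => mem_Fx.2 ?_⟩
  · rw [← conjLin_apply', mem_Fx.1 hv _ ((key a b c ht ((h.coe_mem_Y ho).1 ha).2 hb).1 ha)]
  · rintro _ ⟨a', rfl, ha', hr⟩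
    have h1 : conjE (Q8 F) M⁻¹ a' ^ r = 1 := by rw [← map_pow, hr, map_one]
    obtain ⟨c, a, ht, -, ha⟩ := exists_T3_odd ho h1
    have h2 := hv a _ c ht.rot.rot ((key a _ c ht.rot.rot ha h1).2 (by
      rw [← coe_conjE, conjE_conjE_inv]; exact ⟨a', rfl, ha', hr⟩)) h1
    rw [← conjE_conjE_inv M a', conjE_apply, h2]

theorem ty2_fx {s : MulAut (G8 F)} (hs : s ∈ S) {M : Gam (Q8 F)} (hM : Ty2 s M) {v : V8 F} :
    M.1 v ∈ Fx (h.Y ho) ↔ ∀ a b c : E8 F, T3 a b c → a.1 ∈ h.Y ho → c ^ r = 1 → c.1 v = v := by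
  have key : ∀ a b c : E8 F, T3 a b c → a ^ r = 1 → c ^ r = 1 → (a.1 ∈ h.Y ho ↔ conjLin M c.1 ∈ h.Y ho) :=
    fun a b c ht ha hb => h.conjE_mem_Y ho ha hb (by rw [← hM a b c ht, h.mem_iff hs])
  refine ⟨fun hv a b c ht ha hb => M.1.injective ?_, fun hv => mem_Fx.2 ?_⟩
  · rw [← conjLin_apply', mem_Fx.1 hv _ ((key a b c ht ((h.coe_mem_Y ho).1 ha).2 hb).1 ha)]
  · rintro _ ⟨a', rfl, ha', hr⟩
    have h1 : conjE (Q8 F) M⁻¹ a' ^ r = 1 := by rw [← map_pow, hr, map_one]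
    obtain ⟨a, b, ht, ha, -⟩ := exists_T3_odd ho h1
    have h2 := hv a b _ ht.rot ((key a b _ ht.rot ha h1).2 (by
      rw [← coe_conjE, conjE_conjE_inv]; exact ⟨a', rfl, ha', hr⟩)) h1
    rw [← conjE_conjE_inv M a', conjE_apply, h2]

theorem L_fx {M : Gam (Q8 F)} (hM : M ∈ LL S) {v : V8 F} (hv : v ∈ Fx (h.Y ho)) : M.1 v ∈ Fx (h.Y ho) :=
  mem_Fx.2 fun g hg => by
    rw [← conjLin_inv_left M g, conjLin_apply', mem_Fx.1 hv _ (h.Y_conj ho _ (inv_mem hM) g hg)]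

theorem three (h3 : 3 ∣ orderOf (Nat.card F : ZMod r)) : False := by
  have hdim : ∀ x ∈ h.Y ho, x ≠ 1 → finrank F (Fx (Subgroup.zpowers x)) = 2 := fun x hx hx1 => by
    obtain ⟨m, h1, ⟨n, rfl⟩, h2, h4⟩ := h.fx_dim ho hx hx1
    have := h3.trans h4
    omega
  obtain ⟨x, hx, hx1⟩ := h.Y_ne ho
  have hC : Fx (Subgroup.zpowers x) = Fx (h.Y ho) := by
    obtain ⟨m, h1, h2⟩ := order_dvd h.prime h.char (h.Y_pow ho) (U := Fx (Subgroup.zpowers x))
      fun g hg v hv => h.fx_inv ho hx hg hv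
    have h4 := h3.trans h2
    have h5 := hdim x hx hx1
    refine le_antisymm (inf_eq_left.1 (Submodule.eq_of_le_of_finrank_eq inf_le_left (by omega))) fun v hv => ?_
    exact mem_Fx_zpowers.2 (mem_Fx.1 hv x hx)
  have hN := h.nd_FxY ho
  have hC2 := hdim x hx hx1
  rw [hC] at hC2
  set C := Fx (h.Y ho)
  have hW := finrank_prp nondeg8' C
  rw [finrank8] at hW
  obtain ⟨c₀, hc₀, hc₀'⟩ := hN.exists_nonsing (by rintro e; rw [e, finrank_bot] at hC2; omega)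
  obtain ⟨e, heW, he0, he⟩ := LieClassical.OrthFinite.exists_sing_mem (Q := Q8 F) (prp (Q8 F) C) (by omega)
  obtain ⟨s₁, hs₁, M₁, hM₁⟩ := h.t1
  obtain ⟨s₂, hs₂, M₂, hM₂⟩ := h.t2
  have hb₀ := (h.ty1_fx ho hs₁ hM₁ (v := M₁⁻¹.1 c₀)).1 ((apply_inv M₁.1 c₀).symm ▸ hc₀)
  have hd₀ := (h.ty2_fx ho hs₂ hM₂ (v := M₂⁻¹.1 c₀)).1 ((apply_inv M₂.1 c₀).symm ▸ hc₀)
  have hb₀' := Q_ne M₁⁻¹ hc₀'
  have hd₀' := Q_ne M₂⁻¹ hc₀'
  generalize M₁⁻¹.1 c₀ = b₀ at hb₀ hb₀'
  generalize M₂⁻¹.1 c₀ = d₀ at hd₀ hd₀'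
  have hy : Q8 F (pm e b₀) = 0 := by rw [norm_pm, he, zero_mul]
  have hR := finrank_pr hy fun e0 => he0 (pr_injective hb₀' (e0.trans (map_zero _).symm))
  have hR2 := Submodule.finrank_sup_add_finrank_inf_eq (LinearMap.range (pr (pm e b₀))) (prp (Q8 F) C)
  have hR3 := (LinearMap.range (pr (pm e b₀)) ⊔ prp (Q8 F) C).finrank_le
  rw [finrank8] at hR3
  obtain ⟨w, ⟨⟨t, ht⟩, hwW⟩, hwe⟩ := exists_indep2 (U := LinearMap.range (pr (pm e b₀)) ⊓ prp (Q8 F) C) (by omega)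
    (e := e)
  have hw : Q8 F w = 0 := by rw [← ht, pr_apply, norm_pm, hy, mul_zero]
  have hyw : pm (pm e b₀) w = 0 := by rw [← ht, pr_apply, pm_pm_right, hy, zero_smul]
  have hew : polar (Q8 F) e w = 0 := by
    have h1 := polar_pm b₀ (pm e b₀) w
    rw [hyw, pm_pm_right, polar_smul_left, polar_zero_right] at h1
    exact (smul_eq_zero.1 h1).resolve_left hb₀'
  let u : E8 F := ⟨siegel (Q8 F) e w he hew, siegel_mem_E he hew⟩
  have hu : ∀ v, u.1 v = v + polar (Q8 F) e v • w - polar (Q8 F) w v • e := fun v => by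
    show siegel (Q8 F) e w he hew v = _
    rw [siegel_apply, hw, zero_mul, zero_smul, sub_zero]
  have hu0 : ∀ v, polar (Q8 F) e v = 0 → polar (Q8 F) w v = 0 → u.1 v = v := fun v h1 h2 => by
    rw [hu, h1, h2, zero_smul, zero_smul, add_zero, sub_zero]
  have huC : ∀ v ∈ C, u.1 v = v := fun v hv => hu0 v (mem_prp.1 heW v hv) (mem_prp.1 hwW v hv)
  have hpm := siegel_pm he hw hew
  obtain ⟨b, c, hT⟩ := exists_T3 u
  obtain ⟨ε, -, hb, hc⟩ := Tr.lin hT (f := LinearMap.id + pr w ∘ₗ pl e) (g := LinearMap.id - pl e ∘ₗ pr w)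
    fun x y => by
      simp only [LinearMap.add_apply, LinearMap.sub_apply, LinearMap.id_apply, LinearMap.comp_apply, pl_apply, pr_apply]
      exact hpm x y
  have hfix : ∀ v v', (∀ a b c : E8 F, T3 a b c → a.1 ∈ h.Y ho → b ^ r = 1 → b.1 v = v) →
      (∀ a b c : E8 F, T3 a b c → a.1 ∈ h.Y ho → c ^ r = 1 → c.1 v' = v') →
      pm (v + pm (pm e v) w) (v' - pm e (pm v' w)) = pm v v' := fun v v' h1 h2 => by
    rw [← hpm]
    refine huC _ (mem_Fx.2 ?_)
    rintro _ ⟨a, rfl, ha, ha'⟩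
    obtain ⟨b, c, ht, hb, hc⟩ := exists_T3_odd ho ha'
    rw [ht, h1 a b c ht ⟨a, rfl, ha, ha'⟩ hb, h2 a b c ht ⟨a, rfl, ha, ha'⟩ hc]
  have hg : ∀ v', (∀ a b c : E8 F, T3 a b c → a.1 ∈ h.Y ho → c ^ r = 1 → c.1 v' = v') →
      v' - pm e (pm v' w) = v' := fun v' h2 => by
    have h1 := hfix b₀ v' hb₀ h2
    rw [hyw, add_zero] at h1
    exact pl_injective hb₀' h1
  have hf : ∀ v, (∀ a b c : E8 F, T3 a b c → a.1 ∈ h.Y ho → b ^ r = 1 → b.1 v = v) →
      v + pm (pm e v) w = v := fun v h2 => by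
    have h1 := hfix v d₀ h2 hd₀
    rw [hg d₀ hd₀] at h1
    exact pr_injective hd₀' h1
  have huS : og u ∈ LL S := by
    simp only [Subgroup.mem_comap, Psi_og]
    refine h.core (H := (scOn C).map (QuotientGroup.mk' _)) (fun e1 => ?_) fun s hs => ?_
    · obtain ⟨w', hw', h1⟩ := hN.exists_one hc₀ (by rintro rfl; exact hc₀' (map_zero _))
      have h2 := mem_prp.1 heW w' hw'
      obtain ⟨a, ⟨l, hl⟩, ha⟩ : ((⟨siegel (Q8 F) e w' he h2, siegel_mem_E he h2⟩ : E8 F) : G8 F) ∈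
        (scOn C).map (QuotientGroup.mk' _) := e1 ▸ Subgroup.mem_top _
      obtain ⟨d, -, hd⟩ := mk_eq_iff.1 ha
      have h4 : siegel (Q8 F) e w' he h2 c₀ = _ := hd c₀
      rw [siegel_apply, mem_prp.1 heW c₀ hc₀, polar_comm, h1, hl c₀ hc₀] at h4
      refine he0 (hN e ?_ (mem_prp.1 heW))
      rw [show e = c₀ - d • l • c₀ by rw [← h4]; simp]
      exact sub_mem hc₀ (C.smul_mem _ (C.smul_mem _ hc₀))
    · have key : ∀ (M : Gam (Q8 F)) (z : E8 F) (l : F), (∀ v, M.1 v ∈ C → z.1 v = l • v) →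
          ((conjE (Q8 F) M z : E8 F) : G8 F) ∈ (scOn C).map (QuotientGroup.mk' _) := fun M z l hz => by
        obtain ⟨σ, hσ⟩ := gam_smul M
        refine ⟨_, ⟨σ l, fun v hv => ?_⟩, rfl⟩
        obtain ⟨v, rfl⟩ := M.1.surjective v
        rw [conjE_apply, hz v hv, hσ]
      obtain ⟨M, hM | hM | hM⟩ := cosets s
      · have hM' : M ∈ LL S := by (simp only [Subgroup.mem_comap, hM]; assumption)
        rw [← hM]
        refine key M u 1 fun v hv => ?_
        rw [one_smul]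
        exact huC v ((inv_apply M.1 v) ▸ h.L_fx ho (inv_mem hM') hv)
      · rw [hM u b c hT]
        refine key M b ε fun v hv => ?_
        rw [hb]
        exact (congrArg _ (hf v ((h.ty1_fx ho hs hM).1 hv)) :)
      · rw [hM u b c hT]
        refine key M c ε⁻¹ fun v hv => ?_
        rw [hc]
        exact (congrArg _ (hg v ((h.ty2_fx ho hs hM).1 hv)) :)
  have hz : u.1 * x * u.1⁻¹ * x⁻¹ ∈ h.Y ho := mul_mem (h.Y_conj ho _ huS x hx) (inv_mem hx)
  have hz1 : u.1 * x * u.1⁻¹ * x⁻¹ = 1 := by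
    by_contra h1
    have h2 := finrank_prp nondeg8' (Submodule.span F (Set.range ![e, w, x e, x w]))
    have h4 : finrank F (Submodule.span F (Set.range ![e, w, x e, x w])) ≤ 4 := finrank_range_le_card _
    have h5 : prp (Q8 F) (Submodule.span F (Set.range ![e, w, x e, x w])) ≤
        Fx (Subgroup.zpowers (u.1 * x * u.1⁻¹ * x⁻¹)) := fun v hv => by
      have h6 : ∀ i, polar (Q8 F) (![e, w, x e, x w] i) v = 0 := fun i =>
        (polar_comm _ _ _).trans (mem_prp.1 hv _ (Submodule.subset_span ⟨i, rfl⟩))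
      have h7 := hu0 (x⁻¹ v) ((polar_inv (h.Y_le ho hx) e v).symm.trans (h6 2))
        ((polar_inv (h.Y_le ho hx) w v).symm.trans (h6 3))
      rw [mem_Fx_zpowers]
      show u.1 (x (u.1.symm (x⁻¹ v))) = v
      rw [u.1.symm_apply_eq.2 h7.symm]
      exact (congrArg u.1 (x.apply_symm_apply v)).trans (hu0 v (h6 0) (h6 1))
    have h8 := Submodule.finrank_mono h5
    rw [hdim _ hz h1] at h8
    rw [finrank8] at h2
    omega
  rw [mul_inv_eq_one, mul_inv_eq_iff_eq_mul] at hz1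
  have hU : LinearMap.range (u.1.toLinearMap - 1) ≤ Submodule.span F (Set.range ![e, w]) := by
    rintro _ ⟨v, rfl⟩
    show u.1 v - v ∈ _
    rw [hu, add_sub_assoc, add_sub_cancel_left]
    exact sub_mem (Submodule.smul_mem _ _ (Submodule.subset_span ⟨1, rfl⟩))
      (Submodule.smul_mem _ _ (Submodule.subset_span ⟨0, rfl⟩))
  obtain ⟨m, h1, h2⟩ := order_dvd_one h.prime h.char (h.Y_pow ho x hx) (U := LinearMap.range (u.1.toLinearMap - 1)) (by
    rintro _ ⟨v, rfl⟩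
    refine ⟨x v, ?_⟩
    show u.1 (x v) - x v = x (u.1 v - v)
    rw [map_sub]
    exact congrArg (· - x v) (LinearEquiv.congr_fun hz1 v))
  have h4 : finrank F (LinearMap.range (u.1.toLinearMap - 1)) ≤ 2 :=
    (Submodule.finrank_mono hU).trans (finrank_range_le_card _)
  have h5 := h3.trans h2
  have h6 := inf_eq_left.1 (Submodule.eq_of_le_of_finrank_eq (inf_le_left (b := Fx (Subgroup.zpowers x)))
    (show _ = finrank F (LinearMap.range (u.1.toLinearMap - 1)) by omega))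
  obtain ⟨v, hv⟩ := nondeg8'.exists_polar_eq he0 1
  have h7 : u.1 v - v ∈ C := hC ▸ h6 ⟨v, rfl⟩
  rw [hu, add_sub_assoc, add_sub_cancel_left, hv, one_smul] at h7
  exact hwe _ (sub_eq_zero.1 (hN _ h7 (mem_prp.1 (sub_mem hwW (Submodule.smul_mem _ _ heW)))))

end Cy

namespace Cy

variable {S : Subgroup (MulAut (G8 F))} {X : Subgroup (G8 F)} {r : ℕ} (h : Cy S X r) (ho : Odd r)
  (h4 : orderOf (Nat.card F : ZMod r) = 4)
include h ho h4

theorem four_fx : Fx (h.Y ho) = ⊥ := by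
  have := finite_sub (h.Y ho)
  obtain ⟨m, h1, h2⟩ := order_dvd h.prime h.char (h.Y_pow ho) (U := ⊤) fun _ _ _ _ => trivial
  rw [top_inf_eq, finrank_top, finrank8] at h1
  rw [h4] at h2
  have h3 : finrank F (Fx (h.Y ho)) ≠ 8 := fun e =>
    h.Fx_ne_top ho (Submodule.eq_top_of_finrank_eq (e.trans finrank8.symm))
  rw [← Submodule.finrank_eq_zero]
  by_contra h0
  have hN := h.nd_FxY ho
  obtain ⟨e, heC, he0, he⟩ := LieClassical.OrthFinite.exists_sing_mem (Q := Q8 F) (Fx (h.Y ho)) (by omega)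
  obtain ⟨U, k1, k2, k3⟩ := h.tf1Y ho he he0 heC
  obtain ⟨m', k4, k5⟩ := order_dvd h.prime h.char (h.Y_pow ho) k3
  rw [h4] at k5
  have k6 := hN.two_mul_le (U := U ⊓ Fx (h.Y ho)) inf_le_right fun x hx y hy => polar_of_ts k2 hx.1 hy.1
  have k7 : U ⊓ Fx (h.Y ho) = ⊥ := Submodule.finrank_eq_zero.1 (by (clear * - h1 h3 k1 k4 k5 k6; omega))
  have k8 := (hN.nd_prp nondeg8').two_mul_le (U := U) (fun u hu => mem_prp.2 fun c hc => (polar_comm _ _ _).trans
    (perp_of_fx h.prime h.char (h.Y_le ho) (h.Y_pow ho) k3 hc (fun w hw => by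
      rw [k7] at hw; rw [(Submodule.mem_bot F).1 hw, polar_zero_right]) hu)) fun x hx y hy => polar_of_ts k2 hx hy
  have k9 := finrank_prp nondeg8' (Fx (h.Y ho))
  rw [finrank8] at k9
  omega

theorem four_dvd {U : Submodule F (V8 F)} (hU : ∀ g ∈ h.Y ho, ∀ v ∈ U, g v ∈ U) : 4 ∣ finrank F U := by
  obtain ⟨m, h1, h2⟩ := order_dvd h.prime h.char (h.Y_pow ho) hU
  rw [h.four_fx ho h4, inf_bot_eq, finrank_bot, zero_add] at h1
  rwa [h1, ← h4]

theorem four_irr {U : Submodule F (V8 F)} (hU : finrank F U = 4) : Irr (h.Y ho) U := fun U' h1 h2 => by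
  have h3 := h.four_dvd ho h4 h2
  have h5 := Submodule.finrank_mono h1
  by_cases h0 : finrank F U' = 0
  · exact Or.inl (Submodule.finrank_eq_zero.1 h0)
  · exact Or.inr (Submodule.eq_of_le_of_finrank_eq h1 (by omega))

theorem four_ts {U : Submodule F (V8 F)} (hU : ∀ g ∈ h.Y ho, ∀ v ∈ U, g v ∈ U) (hs : ∀ u ∈ U, Q8 F u = 0) :
    U = ⊥ := by
  rw [← Submodule.finrank_eq_zero]
  by_contra h0
  have h1 := h.four_dvd ho h4 hU
  have h2 : finrank F U ≤ 4 := ClassicalGeometry.TrialitySpaces.finrank_le_four hs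
  obtain ⟨e, -, he0, he⟩ := h.tf2Y ho (U := U) (by omega) hs hU
  have h3 := h.four_dvd ho h4 (U := Submodule.span F {e}) fun g hg v hv => by
    obtain ⟨c, rfl⟩ := Submodule.mem_span_singleton.1 hv
    obtain ⟨l, hl⟩ := he g hg
    rw [map_smul, hl]
    exact Submodule.smul_mem _ _ (Submodule.smul_mem _ _ (Submodule.mem_span_singleton_self e))
  rw [finrank_span_singleton he0] at h3
  omega

theorem four_nt {U : Submodule F (V8 F)} (hU : U ≠ ⊥) : ∃ x ∈ h.Y ho, ∃ w ∈ U, x w ≠ w := by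
  by_contra hc
  push Not at hc
  exact hU (eq_bot_iff.2 fun w hw => h.four_fx ho h4 ▸ mem_Fx.2 fun a ha => hc a ha w hw)

theorem four_str {U : Submodule F (V8 F)} (hU : ∀ g ∈ h.Y ho, ∀ v ∈ U, g v ∈ U) (h0 : U ≠ ⊥) (hI : Irr (h.Y ho) U) :
    ∃ x ∈ h.Y ho, ∃ σ π : F, (∀ v ∈ U, qrt x σ π v = 0) ∧ ∀ b ∈ h.Y ho, ∃ j : ℕ, ∀ v ∈ U, b v = (x ^ j) v := by
  have : Fact r.Prime := ⟨h.prime⟩
  obtain ⟨x, hx, hx'⟩ := h.four_nt ho h4 h0
  have h1 : (Nat.card F : ZMod r) ^ 2 = -1 := by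
    refine (sq_eq_one_iff.1 ?_).resolve_left fun e => ?_
    · rw [← pow_mul, ← pow_orderOf_eq_one (Nat.card F : ZMod r), h4]
    · have h2 := orderOf_dvd_of_pow_eq_one e
      rw [h4] at h2
      omega
  obtain ⟨σ, π, h2⟩ := hI.quartic (h.Y_comm ho) hU hx (by
    rw [← pow_mul]
    exact pow_eq_inv (h.Y_pow ho x hx) (by rw [Nat.cast_mul, ← Nat.card_eq_fintype_card, ← h1, pow_two]))
  exact ⟨x, hx, σ, π, h2, fun b hb => pow_of_sr h.prime h.char (h.Y_comm ho) (h.Y_pow ho) hU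
    (hI.sr (h.Y_comm ho) hU) hx hx' hb⟩

theorem four_ex : ∃ W : Submodule F (V8 F), finrank F W = 4 ∧ ∀ g ∈ h.Y ho, ∀ v ∈ W, g v ∈ W := by
  by_cases hI : Irr (h.Y ho) ⊤
  · obtain ⟨x, hx, σ, π, h1, h2⟩ := h.four_str ho h4 (U := ⊤) (fun _ _ _ _ => trivial) top_ne_bot hI
    have h3 : ∀ g ∈ h.Y ho, ∀ v ∈ T4 x (e8 F), g v ∈ T4 x (e8 F) := fun g hg v hv => by
      obtain ⟨j, hj⟩ := h2 g hg
      rw [hj v trivial]
      exact pow_inv (T4_inv (h1 _ trivial)) j v hv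
    have h5 : finrank F (T4 x (e8 F)) ≤ 4 := finrank_range_le_card _
    rcases hI _ le_top h3 with h6 | h6
    · exact (e8_ne ((Submodule.eq_bot_iff _).1 h6 _ (Submodule.subset_span ⟨0, rfl⟩))).elim
    · rw [h6, finrank_top, finrank8] at h5
      omega
  · unfold Irr at hI
    push Not at hI
    obtain ⟨W, -, h1, h2, h3⟩ := hI
    have h5 := h.four_dvd ho h4 h1
    have h6 := Submodule.finrank_lt h3
    have h7 := mt Submodule.finrank_eq_zero.1 h2
    rw [finrank8] at h6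
    exact ⟨W, by omega, h1⟩

theorem four_nd {W : Submodule F (V8 F)} (hW : finrank F W = 4) (hU : ∀ g ∈ h.Y ho, ∀ v ∈ W, g v ∈ W) :
    Nd (Q8 F) W := by
  rcases h.four_irr ho h4 hW (W ⊓ prp (Q8 F) W) inf_le_left
    (fun g hg v hv => ⟨hU g hg v hv.1, prp_inv (h.Y_le ho hg) (hU g hg) hv.2⟩) with h1 | h1
  · exact fun x hx h2 => (Submodule.eq_bot_iff _).1 h1 x ⟨hx, mem_prp.2 h2⟩
  · let T : Submodule F (V8 F) :=
      { carrier := {v | v ∈ W ∧ Q8 F v = 0}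
        add_mem' := fun {a b} ha hb => ⟨add_mem ha.1 hb.1, by
          rw [Q_add, ha.2, hb.2, mem_prp.1 (inf_eq_left.1 h1 ha.1) b hb.1, add_zero, add_zero]⟩
        zero_mem' := ⟨zero_mem _, map_zero _⟩
        smul_mem' := fun c v hv => ⟨W.smul_mem c hv.1, by rw [QuadraticMap.map_smul, hv.2, smul_zero]⟩ }
    obtain ⟨e, heW, he0, he⟩ := LieClassical.OrthFinite.exists_sing_mem (Q := Q8 F) W (by omega)
    exact (he0 ((Submodule.eq_bot_iff _).1 (h.four_ts ho h4 (U := T)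
      (fun g hg v hv => ⟨hU g hg v hv.1, (mem_O.1 (h.Y_le ho hg) v).trans hv.2⟩) fun _ hv => hv.2) e ⟨heW, he⟩)).elim

theorem four_uniq {W U : Submodule F (V8 F)} (hW : finrank F W = 4) (hW' : ∀ g ∈ h.Y ho, ∀ v ∈ W, g v ∈ W)
    (hU : finrank F U = 4) (hU' : ∀ g ∈ h.Y ho, ∀ v ∈ U, g v ∈ U) : U = W ∨ U = prp (Q8 F) W := by
  by_contra hc
  push Not at hc
  have hN := h.four_nd ho h4 hW hW'
  have hP := finrank_prp nondeg8' W
  rw [finrank8] at hP
  have hP' : ∀ g ∈ h.Y ho, ∀ v ∈ prp (Q8 F) W, g v ∈ prp (Q8 F) W := fun g hg v hv =>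
    prp_inv (h.Y_le ho hg) (hW' g hg) hv
  have key : ∀ W' : Submodule F (V8 F), finrank F W' = 4 → (∀ g ∈ h.Y ho, ∀ v ∈ W', g v ∈ W') → U ≠ W' →
      U ⊓ W' = ⊥ := fun W' k1 k2 k3 =>
    (h.four_irr ho h4 hU _ inf_le_left fun g hg v hv => ⟨hU' g hg v hv.1, k2 g hg v hv.2⟩).resolve_right fun e =>
      k3 (Submodule.eq_of_le_of_finrank_eq (inf_eq_left.1 e) (hU.trans k1.symm))
  have k1 := Submodule.finrank_sup_add_finrank_inf_eq U W
  rw [key W hW hW' hc.1, finrank_bot] at k1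
  have k2 : U ⊔ W = ⊤ := Submodule.eq_top_of_finrank_eq (by rw [finrank8]; omega)
  have kill : ∀ φ : Module.End F (V8 F), (∀ v ∈ W, φ v = 0) → (∀ v ∈ U, φ v ∈ U) →
      (∀ v ∈ prp (Q8 F) W, φ v ∈ prp (Q8 F) W) → ∀ v, φ v = 0 := fun φ k3 k5 k6 v => by
    obtain ⟨u, hu, w, hw, rfl⟩ := Submodule.mem_sup.1 (k2 ▸ Submodule.mem_top : v ∈ U ⊔ W)
    rw [map_add, k3 w hw, add_zero]
    obtain ⟨w, hw, w', hw', e⟩ := Submodule.mem_sup.1 (hN.sup_prp nondeg8' ▸ Submodule.mem_top : u ∈ W ⊔ prp (Q8 F) W)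
    refine (Submodule.eq_bot_iff _).1 (key _ (by omega) hP' hc.2) _ ⟨k5 u hu, ?_⟩
    rw [← e, map_add, k3 w hw, zero_add]
    exact k6 w' hw'
  obtain ⟨x, hx, σ, π, h1, h2⟩ := h.four_str ho h4 hW' (by rintro rfl; simp at hW) (h.four_irr ho h4 hW)
  have hq : ∀ U : Submodule F (V8 F), (∀ v ∈ U, x v ∈ U) → ∀ v ∈ U, qrt x σ π v ∈ U := fun U k v hv =>
    (sub_mem (k _ (k _ (k _ (k v hv)))) (sub_mem (sub_mem (U.smul_mem _ (add_mem (k _ (k _ (k v hv))) (k v hv)))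
      (U.smul_mem _ (k _ (k v hv)))) hv) :)
  have h3 := kill _ h1 (hq U (hU' x hx)) (hq _ (hP' x hx))
  obtain ⟨v, hv0, hv⟩ := H920.FP.cw ![Q8 F, LinearMap.BilinMap.toQuadraticMap ((polarBilin (Q8 F)).compl₂ x.toLinearMap),
    LinearMap.BilinMap.toQuadraticMap ((polarBilin (Q8 F)).compl₂ (x * x).toLinearMap)] (by simp)
  refine hv0 ((Submodule.eq_bot_iff _).1 (h.four_ts ho h4 (U := T4 x v) (fun g hg w hw => ?_)
    (T4_ts (h.Y_le ho hx) (h3 _) (hv 0) (hv 1) (hv 2))) v (Submodule.subset_span ⟨0, rfl⟩))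
  obtain ⟨j, hj⟩ := h2 g hg
  have h5 := kill (g.toLinearMap - (x ^ j).toLinearMap) (fun v hv => sub_eq_zero.2 (hj v hv))
    (fun v hv => sub_mem (hU' g hg v hv) (hU' _ (pow_mem hx j) v hv))
    (fun v hv => sub_mem (hP' g hg v hv) (hP' _ (pow_mem hx j) v hv)) w
  rw [show g w = (x ^ j) w from sub_eq_zero.1 h5]
  exact pow_inv (T4_inv (h3 v)) j w hw

end Cy

namespace Cy

variable {S : Subgroup (MulAut (G8 F))} {X : Subgroup (G8 F)} {r : ℕ} (h : Cy S X r) (ho : Odd r)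
include h ho

theorem ex_gen {θ : h.Y ho → F} (hθ : ¬ Bl (h.Y ho) θ ≤ Fx (h.Y ho)) : ∃ x t, Gen (h.Y ho) (Bl (h.Y ho) θ) x t :=
  exists_gen h.prime ho h.char (h.Y_comm ho) (h.Y_pow ho) hθ

variable (hk : orderOf (Nat.card F : ZMod r) ∣ 2)
include hk

theorem sym_card : ∀ a ∈ h.Y ho, sym a ^ Fintype.card F = sym a := fun a ha => by
  have : Fact r.Prime := ⟨h.prime⟩
  rw [sym_pow_card]
  rcases sq_eq_one_iff.1 (orderOf_dvd_iff_pow_eq_one.1 hk) with e | e
  · rw [pow_eq_self (h.Y_pow ho a ha) (Nat.card_eq_fintype_card (α := F) ▸ e)]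
  · rw [pow_eq_inv (h.Y_pow ho a ha) (Nat.card_eq_fintype_card (α := F) ▸ e), sym_inv]

theorem dec : Dec (Q8 F) (Bl (h.Y ho)) :=
  have := finite_sub (h.Y ho)
  dec_Bl (h.Y_le ho) (h.Y_comm ho) (h.sym_card ho hk)

theorem eq_two {θ : h.Y ho → F} (h0 : Bl (h.Y ho) θ ≠ ⊥) (hθ : Bl (h.Y ho) θ ≤ Fx (h.Y ho)) :
    Bl (h.Y ho) θ = Fx (h.Y ho) := by
  rw [Fx_eq_Bl h.char (h.Y_pow ho)] at hθ ⊢
  by_contra h1
  exact h0 (eq_bot_iff.2 (((h.dec ho hk).nd nondeg8' _).inf_prp ▸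
    le_inf hθ ((h.dec ho hk).le_prp fun e => h1 (congrArg _ e))))

theorem ex_block : ∃ θ, ¬ Bl (h.Y ho) θ ≤ Fx (h.Y ho) := by
  by_contra hc
  push Not at hc
  exact h.Fx_ne_top ho (eq_top_iff.2 ((h.dec ho hk).span ▸ iSup_le hc))

theorem bl_even (θ : h.Y ho → F) : Even (finrank F (Bl (h.Y ho) θ)) := by
  classical
  have key : ∀ θ, ¬ Bl (h.Y ho) θ ≤ Fx (h.Y ho) → Even (finrank F (Bl (h.Y ho) θ)) := fun θ hθ => by
    obtain ⟨x, t, hG⟩ := h.ex_gen ho hθ
    exact even_of_fpf h.prime ho (h.Y_le ho hG.mem) (h.Y_pow ho x hG.mem) ((h.dec ho hk).nd nondeg8' θ) hG.inv hG.fpf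
  by_contra hc
  have := finite_sub (h.Y ho)
  have := Fintype.ofFinite (h.Y ho → F)
  have h1 := (h.dec ho hk).sum_finrank nondeg8'
  have h0 : ∀ θ, ¬ Even (finrank F (Bl (h.Y ho) θ)) → Bl (h.Y ho) θ = Fx (h.Y ho) := fun θ hθ =>
    h.eq_two ho hk (fun e => hθ (by rw [e, finrank_bot]; exact Even.zero)) (by_contra fun e => hθ (key θ e))
  rw [← Finset.add_sum_erase _ _ (Finset.mem_univ θ), finrank8] at h1
  have h2 : Even (∑ θ' ∈ Finset.univ.erase θ, finrank F (Bl (h.Y ho) θ')) := Finset.even_sum _ fun θ' hθ' => by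
    by_contra h3
    have h4 := (h.dec ho hk).le_prp (Finset.ne_of_mem_erase hθ')
    rw [h0 θ' h3, ← h0 θ hc] at h4
    rw [← inf_eq_left.2 h4, ((h.dec ho hk).nd nondeg8' θ).inf_prp, finrank_bot] at hc
    exact hc Even.zero
  obtain ⟨m, hm⟩ := h2
  exact hc ⟨4 - m, by omega⟩

end Cy

end Cfsg.Agent.N2C.D4

private theorem dce_f71f5d62d7b7 : _root_.True := by
  try have : _root_.True := by simp only [_root_.Cfsg.Agent.N2C.D4.Cy.Y.congr_simp]
  exact _root_.True.intro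
end

section
prune_inst 0xffffffbbfcfddfdfff7fffa7dfeffdfdbb3fffe6fffdcbffe2ebff5bff4f88cf67fbaf8fea90fe5ff7ea1414fa7b53f9ffeeffe36bdc7ffffd5ff41ffbfffffdf7b50951fe9cb40f340fff03f0778e7f000000000000000000000000000000000200000002

-- part: N2/Cl/D4/B44a
section
prune_inst 0x3000000000000500000000200000000000000000004002000b0140088000000102000000000080801000000000100000000000000000000000000000000102001000a008a00000000000000000000000000000000000000000000000000000000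
set_option linter.all false
open scoped Cfsg.Agent.FastGrp

/-!
# N2 (S3519), `PΩ₈⁺(q)` with triality, box 44: the commutant of `L` (helper89)
-/

set_option autoImplicit false
set_option linter.unusedSectionVars false

namespace Cfsg.Agent.N2C.D4.B44

open QuadraticMap Module Cfsg.Agent.LieClassical.QuadForms Cfsg.Agent.LieClassical.OrthCore
  Cfsg.Agent.LieClassical.OrthTrans Cfsg.Agent.ClassicalGeometry.OrthSemi Cfsg.Agent.ClassicalGeometry.OrthAut1
  Cfsg.Agent.ClassicalGeometry.TrialityOct Cfsg.Agent.ClassicalGeometry.Triality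
  Cfsg.Agent.H989.OutOrth.Basic Cfsg.Agent.H989.OutOrth.Tri Cfsg.Agent.SB.D4

variable {F : Type} [Field F] [Fintype F] {L : Subgroup (E8 F)}

/-- `z` commutes with `L` -/
def Cm (L : Subgroup (E8 F)) (z : Module.End F (V8 F)) : Prop := ∀ a ∈ L, ∀ x, a.1 (z x) = z (a.1 x)

/-- one of the three representations -/
structure Sd (L : Subgroup (E8 F)) : Prop where
  pf : ⁅L, L⁆ = L
  nf : NoFix L
  rd : Rd L
  ce : ∀ g : E8 F, (∀ a ∈ L, a * g = g * a) → ∃ e, Sc g e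

/-- `π` is the orthogonal projection onto `U` -/
def Pj (U : Submodule F (V8 F)) (π : Module.End F (V8 F)) : Prop := ∀ x, π x ∈ U ∧ x - π x ∈ prp (Q8 F) U

/-- symmetric maps -/
def Sy (z : Module.End F (V8 F)) : Prop := ∀ x y, polar (Q8 F) (z x) y = polar (Q8 F) x (z y)

theorem Cm.one : Cm L 1 := fun _ _ _ => rfl

theorem Cm.mul {z w : Module.End F (V8 F)} (hz : Cm L z) (hw : Cm L w) : Cm L (z * w) := fun a ha x => by
  rw [Module.End.mul_apply, Module.End.mul_apply, hz a ha, hw a ha]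

theorem Cm.add {z w : Module.End F (V8 F)} (hz : Cm L z) (hw : Cm L w) : Cm L (z + w) := fun a ha x => by
  rw [LinearMap.add_apply, LinearMap.add_apply, map_add, hz a ha, hw a ha]

theorem Cm.sub {z w : Module.End F (V8 F)} (hz : Cm L z) (hw : Cm L w) : Cm L (z - w) := fun a ha x => by
  rw [LinearMap.sub_apply, LinearMap.sub_apply, map_sub, hz a ha, hw a ha]

theorem Cm.smul {z : Module.End F (V8 F)} (hz : Cm L z) (c : F) : Cm L (c • z) := fun a ha x => by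
  rw [LinearMap.smul_apply, LinearMap.smul_apply, map_smul, hz a ha]

theorem Cm.pow {z : Module.End F (V8 F)} (hz : Cm L z) (n : ℕ) : Cm L (z ^ n) := by
  induction n with
  | zero => rw [pow_zero]; exact Cm.one
  | succ n ih => rw [pow_succ]; exact ih.mul hz

theorem Cm.iv_map {z : Module.End F (V8 F)} (hz : Cm L z) {U : Submodule F (V8 F)} (hU : Iv L U) :
    Iv L (U.map z) := by
  rintro a ha _ ⟨v, hv, rfl⟩
  exact ⟨a.1 v, hU a ha v hv, (hz a ha v).symm⟩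

theorem Cm.iv_ker {z : Module.End F (V8 F)} (hz : Cm L z) : Iv L (LinearMap.ker z) := fun a ha v hv => by
  rw [LinearMap.mem_ker] at hv ⊢
  rw [← hz a ha, hv, map_zero]

theorem iv_top : Iv L ⊤ := fun _ _ _ _ => trivial

theorem iv_inf {U W : Submodule F (V8 F)} (hU : Iv L U) (hW : Iv L W) : Iv L (U ⊓ W) :=
  fun a ha v hv => ⟨hU a ha v hv.1, hW a ha v hv.2⟩

theorem iv_prp {U : Submodule F (V8 F)} (hU : Iv L U) : Iv L (prp (Q8 F) U) :=
  fun a ha _ hv => prp_inv (E_le_O a.2) (hU a ha) hv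

theorem dim4 {U : Submodule F (V8 F)} (h4 : finrank F U = 4) : finrank F (prp (Q8 F) U) = 4 := by
  have h := finrank_prp nondeg8' U
  rw [finrank8, h4] at h
  omega

theorem nd_eq {U : Submodule F (V8 F)} (h : Nd (Q8 F) U) {x : V8 F} (h1 : x ∈ U) (h2 : x ∈ prp (Q8 F) U) : x = 0 :=
  h x h1 (mem_prp.1 h2)

theorem Sy.pow {z : Module.End F (V8 F)} (hz : Sy z) (n : ℕ) : Sy (z ^ n) := by
  induction n with
  | zero => rw [pow_zero]; exact fun _ _ => rfl
  | succ n ih =>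
    intro x y
    rw [pow_succ, Module.End.mul_apply, ih, hz, ← Module.End.mul_apply, ← pow_succ', pow_succ]

/-! ### projections -/

theorem exists_pj {U : Submodule F (V8 F)} (h : Nd (Q8 F) U) : ∃ π, Pj U π := by
  have hc : IsCompl U (prp (Q8 F) U) := ⟨disjoint_iff.2 h.inf_prp, codisjoint_iff.2 (h.sup_prp nondeg8')⟩
  refine ⟨U.subtype ∘ₗ U.projectionOnto _ hc, fun x => ⟨(U.projectionOnto _ hc x).2, ?_⟩⟩
  have hx : x ∈ U ⊔ prp (Q8 F) U := by rw [h.sup_prp nondeg8']; trivial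
  obtain ⟨a, ha, b, hb, rfl⟩ := Submodule.mem_sup.1 hx
  have h1 := Submodule.projectionOnto_apply_left hc ⟨a, ha⟩
  have h2 := Submodule.projectionOnto_apply_right hc ⟨b, hb⟩
  simp only at h1 h2
  rw [LinearMap.comp_apply, map_add, h1, h2, add_zero]
  simpa using hb

namespace Pj

variable {U : Submodule F (V8 F)} {π : Module.End F (V8 F)} (hn : Nd (Q8 F) U) (h : Pj U π)

include hn h

theorem left {x : V8 F} (hx : x ∈ U) : π x = x :=
  (sub_eq_zero.1 (nd_eq hn (sub_mem hx (h x).1) (h x).2)).symm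

theorem right {x : V8 F} (hx : x ∈ prp (Q8 F) U) : π x = 0 := by
  have h1 := sub_mem hx (h x).2
  rw [sub_sub_cancel] at h1
  exact nd_eq hn (h x).1 h1

theorem idem (x : V8 F) : π (π x) = π x := h.left hn (h x).1

theorem cm (hU : Iv L U) : Cm L π := fun a ha x => by
  have h1 : a.1 x = a.1 (π x) + a.1 (x - π x) := by rw [← map_add, add_sub_cancel]
  rw [h1, map_add, h.left hn (hU a ha _ (h x).1), h.right hn (iv_prp hU a ha _ (h x).2), add_zero]

omit hn in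
theorem pol (x y : V8 F) : polar (Q8 F) (π x) y = polar (Q8 F) (π x) (π y) := by
  have h1 := mem_prp.1 (h y).2 _ (h x).1
  rw [polar_sub_left, sub_eq_zero] at h1
  rw [polar_comm, h1, polar_comm]

omit hn in
theorem sy : Sy π := fun x y => by
  rw [h.pol, polar_comm _ x, h.pol y x, polar_comm]

omit hn in
theorem norm_refl (x : V8 F) : Q8 F (x - (2 : F) • π x) = Q8 F x := by
  have h1 := mem_prp.1 (h x).2 _ (h x).1
  have h2 : x - (2 : F) • π x = (x - π x) + - π x := by module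
  have h3 : x = (x - π x) + π x := by module
  rw [h2, Q_add, polar_neg_right, h1, QuadraticMap.map_neg]
  conv_rhs => rw [h3, Q_add, h1]
  rw [neg_zero]

theorem mem_ker {x : V8 F} (hx : π x = 0) : x ∈ prp (Q8 F) U := by
  have h1 := (h x).2
  rwa [hx, sub_zero] at h1

end Pj

/-! ### the commutant -/

/-- commuting maps with isotropic image vanish -/
theorem iso0 (hr : Rd L) {z : Module.End F (V8 F)} (hz : Cm L z) (h : ∀ x y, polar (Q8 F) (z x) (z y) = 0)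
    (x : V8 F) : z x = 0 := by
  refine (hr _ (hz.iv_map iv_top)).1 _ ⟨x, trivial, rfl⟩ ?_
  rintro _ ⟨y, -, rfl⟩
  exact h x y

theorem pol_of_norm {z : Module.End F (V8 F)} {m : F} (h : ∀ x, Q8 F (z x) = m * Q8 F x) (x y : V8 F) :
    polar (Q8 F) (z x) (z y) = m * polar (Q8 F) x y := by
  simp only [polar, ← map_add, h]
  ring

theorem inj_of_norm {z : Module.End F (V8 F)} {m : F} (hm : m ≠ 0) (h : ∀ x, Q8 F (z x) = m * Q8 F x) :
    Function.Injective z := by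
  rw [← LinearMap.ker_eq_bot, LinearMap.ker_eq_bot']
  intro x hx
  refine nondeg8' x fun y => ?_
  have h1 := pol_of_norm h x y
  rw [hx, polar_zero_left] at h1
  exact (mul_eq_zero.1 h1.symm).resolve_left hm

theorem Sd.sc (h : Sd L) {g : GL8 F} (hg : g ∈ E (Q8 F)) (hc : Cm L g.toLinearMap) :
    ∃ e : F, e * e = 1 ∧ ∀ x, g x = e • x := by
  obtain ⟨e, he⟩ := h.ce ⟨g, hg⟩ fun a ha => e8_ext fun x => hc a ha x
  exact ⟨e, he.sq, he⟩

/-- [CI] isometries commuting with `L` are involutions -/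
theorem Sd.ci (h : Sd L) (je : BoxJE) {z : Module.End F (V8 F)} (hz : Cm L z) (hq : ∀ x, Q8 F (z x) = Q8 F x)
    (x : V8 F) : z (z x) = x := by
  obtain ⟨g, hg⟩ := exists_gl (f := z) (inj_of_norm (m := (1 : F)) one_ne_zero fun x => by rw [hq, one_mul])
  have hO : g ∈ O (Q8 F) := fun v => by rw [hg, hq]
  have hc : Cm L g.toLinearMap := fun a ha v => by
    show a.1 (g v) = g (a.1 v)
    rw [hg, hg, hz a ha]
  obtain ⟨e, he, h1⟩ := h.sc (H206.OrthBal.sq_mem_E good8 hO) (hc.mul hc)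
  have h2 : ∀ v, g (g v) = e • v := h1
  rw [← hg, ← hg, h2]
  rcases sq_cases he with rfl | rfl
  · exact one_smul _ _
  by_cases h0 : (2 : F) = 0
  · rw [show (-1 : F) = 1 by linear_combination -h0, one_smul]
  obtain ⟨d, hd, h3⟩ := h.sc (je F g h0 hO fun v => by rw [h2, neg_smul, one_smul]) hc
  rw [← h2, h3, h3, smul_smul, hd, one_smul]

/-- subspaces of an invariant `4`-space -/
theorem irr4 (hr : Rd L) {U W : Submodule F (V8 F)} (hU : Iv L U) (h4 : finrank F U = 4) (hW : Iv L W) :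
    U ⊓ W = ⊥ ∨ U ≤ W := by
  have h1 := hr _ (iv_inf hU hW)
  have h2 := hr _ (iv_inf hU (iv_prp (iv_inf hU hW)))
  have h3 := h1.1.finrank_inf_prp nondeg8' (inf_le_left : U ⊓ W ≤ U)
  by_cases h0 : finrank F ↥(U ⊓ W) = 0
  · exact Or.inl (Submodule.finrank_eq_zero.1 h0)
  · exact Or.inr (inf_eq_left.1 (Submodule.eq_of_le_of_finrank_eq inf_le_left (by omega)))

/-- commuting projections -/
theorem eq_of_comm (hr : Rd L) {U W : Submodule F (V8 F)} (hU : Iv L U) (hW : Iv L W) (h4 : finrank F U = 4)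
    (h4' : finrank F W = 4) {π ρ : Module.End F (V8 F)} (hπ : Pj U π) (hρ : Pj W ρ) (h : ∀ x, π (ρ x) = ρ (π x)) :
    W = U ∨ W = prp (Q8 F) U := by
  rcases irr4 hr hU h4 hW with h1 | h1
  · refine Or.inr (Submodule.eq_of_le_of_finrank_eq (fun w hw => hπ.mem_ker (hr _ hU).1 ?_) (by rw [dim4 h4, h4']))
    have h2 : π w ∈ U ⊓ W := ⟨(hπ w).1, by rw [← hρ.left (hr _ hW).1 hw, h]; exact (hρ _).1⟩
    rwa [h1] at h2
  · exact Or.inl (Submodule.eq_of_le_of_finrank_eq h1 (by rw [h4, h4'])).symm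

theorem two_smul0 (h2 : (2 : F) = 0) (x : V8 F) : x + x = 0 := by rw [← two_smul F, h2, zero_smul]

/-- the Frobenius map permutes the symmetric part of the commutant -/
theorem frob (hr : Rd L) (h2 : (2 : F) = 0) {z : Module.End F (V8 F)} (hz : Cm L z) (hs : Sy z) :
    ∃ m, z ^ 2 ^ (m + 1) = z := by
  have hc : ∀ i j : ℕ, z ^ 2 ^ (i + 1) = z ^ 2 ^ (j + 1) → z ^ 2 ^ i = z ^ 2 ^ j := by
    intro i j hij
    rw [pow_succ, pow_succ, pow_mul, pow_mul, pow_two, pow_two] at hij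
    have k1 : z ^ 2 ^ i * z ^ 2 ^ j = z ^ 2 ^ j * z ^ 2 ^ i := by rw [← pow_add, ← pow_add, add_comm]
    have k2 := hs.pow (2 ^ i)
    have k3 := hs.pow (2 ^ j)
    have k4 := (hz.pow (2 ^ i)).sub (hz.pow (2 ^ j))
    generalize z ^ 2 ^ i = X, z ^ 2 ^ j = Y at *
    refine LinearMap.ext fun x => sub_eq_zero.1 (iso0 hr k4 (fun x y => ?_) x)
    have e1 : X (X y) = Y (Y y) := LinearMap.congr_fun hij y
    have e2 : X (Y y) = Y (X y) := LinearMap.congr_fun k1 y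
    rw [LinearMap.sub_apply, polar_sub_left, k2, k3, LinearMap.sub_apply, map_sub, map_sub, e1, e2, ← polar_sub_right,
      show Y (Y y) - Y (X y) - (Y (X y) - Y (Y y)) = (Y (Y y) - Y (X y)) + (Y (Y y) - Y (X y)) by module,
      two_smul0 h2, polar_zero_right]
  have hd : ∀ i m : ℕ, z ^ 2 ^ (m + 1 + i) = z ^ 2 ^ i → z ^ 2 ^ (m + 1) = z := by
    intro i
    induction i with
    | zero => intro m hm; simpa using hm
    | succ i ih => intro m hm; exact ih m (hc _ _ hm)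
  have _ : Finite (Module.End F (V8 F)) := Finite.of_injective _ DFunLike.coe_injective
  obtain ⟨i, j, hij, h⟩ := Finite.exists_ne_map_eq_of_infinite fun i : ℕ => z ^ 2 ^ i
  rcases lt_or_gt_of_ne hij with h1 | h1
  · exact ⟨j - i - 1, hd i _ (by rw [show j - i - 1 + 1 + i = j by omega]; exact h.symm)⟩
  · exact ⟨i - j - 1, hd j _ (by rw [show i - j - 1 + 1 + j = i by omega]; exact h)⟩

/-- there are only two invariant `4`-spaces -/
theorem Sd.uniq (h : Sd L) (je : BoxJE) {U W : Submodule F (V8 F)} (hU : Iv L U) (hW : Iv L W) (h4 : finrank F U = 4)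
    (h4' : finrank F W = 4) : W = U ∨ W = prp (Q8 F) U := by
  have nU := (h.rd _ hU).1
  have nW := (h.rd _ hW).1
  obtain ⟨π, hπ⟩ := exists_pj nU
  obtain ⟨ρ, hρ⟩ := exists_pj nW
  have cπ := hπ.cm nU hU
  have cρ := hρ.cm nW hW
  refine eq_of_comm h.rd hU hW h4 h4' hπ hρ fun x => ?_
  by_cases h2 : (2 : F) = 0
  · obtain ⟨S, hS⟩ : ∃ S, S = π * ρ - ρ * π := ⟨_, rfl⟩
    have e0 : ∀ x, S x = π (ρ x) - ρ (π x) := fun x => by rw [hS]; rfl
    have e1 : ∀ x, S (π x) + π (S x) = S x := fun x => by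
      rw [e0, e0, map_sub, hπ.idem nU, hπ.idem nU]
      module
    have sS : Sy S := fun x y => by
      rw [e0, e0, polar_sub_left, polar_sub_right, hπ.sy, hρ.sy, hρ.sy, hπ.sy]
      linear_combination (polar (Q8 F) x (ρ (π y)) - polar (Q8 F) x (π (ρ y))) * h2
    obtain ⟨m, hm⟩ := frob h.rd h2 (z := S) (hS ▸ (cπ.mul cρ).sub (cρ.mul cπ)) sS
    have e2 : Commute π (S * S) := LinearMap.ext fun x => by
      show π (S (S x)) = S (S (π x))
      rw [eq_sub_of_add_eq (e1 x), map_sub, eq_sub_of_add_eq (e1 (S x)), sub_sub_cancel]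
    have e3 : Commute π S := by
      rw [← hm, pow_succ', pow_mul, pow_two]
      exact e2.pow_right _
    have e4 : π (S x) = S (π x) := LinearMap.congr_fun e3 x
    rw [← sub_eq_zero, ← e0, ← e1, e4, two_smul0 h2]
  · have e1 := h.ci je ((Cm.one.sub (cπ.smul 2)).mul (Cm.one.sub (cρ.smul 2))) (fun x => by
      show Q8 F ((x - (2 : F) • ρ x) - (2 : F) • π (x - (2 : F) • ρ x)) = _
      rw [hπ.norm_refl, hρ.norm_refl])
    obtain ⟨s, hs⟩ : ∃ s : Module.End F (V8 F), s = 1 - (2 : F) • π := ⟨_, rfl⟩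
    obtain ⟨t, ht⟩ : ∃ t : Module.End F (V8 F), t = 1 - (2 : F) • ρ := ⟨_, rfl⟩
    rw [← hs, ← ht] at e1
    have s0 : ∀ x, s x = x - (2 : F) • π x := fun x => by rw [hs]; rfl
    have t0 : ∀ x, t x = x - (2 : F) • ρ x := fun x => by rw [ht]; rfl
    have s1 : ∀ x, s (s x) = x := fun x => by
      rw [s0, s0, map_sub, map_smul, hπ.idem nU]
      module
    have t1 : ∀ x, t (t x) = x := fun x => by
      rw [t0, t0, map_sub, map_smul, hρ.idem nW]
      module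
    have e2 : s (t x) = t (s x) := by
      have e3 : s (t (s (t (t (s x))))) = t (s x) := e1 (t (s x))
      rwa [t1, s1] at e3
    rw [s0, t0, t0, s0, map_sub, map_sub, map_smul, map_smul] at e2
    have e4 : (2 * 2 : F) • π (ρ x) = (2 * 2 : F) • ρ (π x) := by linear_combination (norm := module) e2
    exact smul_right_injective _ (mul_ne_zero h2 h2) e4

/-- [P2K] in the context -/
theorem Sd.p2k (h : Sd L) (hb : BoxP2K) {W : Submodule F (V8 F)} (hW : Iv L W) (h4 : finrank F W = 4)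
    {j : Module.End F (V8 F)} (hj : Cm L j) {t d : F} (h1 : ∀ x ∈ W, j x ∈ W) (h2 : ∀ x, j (j x) = t • j x + d • x)
    (h3 : ∀ c : F, c * c ≠ t * c + d) (hs : Sy j) (ha : (2 : F) = 0 → ∀ x, polar (Q8 F) (j x) x = 0) : False := by
  have h5 := hb F W j t d L h4 (h.rd _ hW).1 h1 (fun x _ => h2 x) h3 (fun x _ y _ => hs x y)
    (fun h0 x _ => ha h0 x) h.pf hW (fun a ha x _ => hj a ha x)
  have h6 : W = ⊥ := (Submodule.eq_bot_iff _).2 fun x hx => h.nf x fun a ha => h5 a ha x hx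
  rw [h6, finrank_bot] at h4
  omega

/-- skew similitudes -/
theorem Sd.skew (h : Sd L) (je : BoxJE) (h2 : (2 : F) ≠ 0) {u : Module.End F (V8 F)} (hu : Cm L u) {D : F} (hD : D ≠ 0)
    (ha : ∀ x, polar (Q8 F) (u x) x = 0) (hq : ∀ x, Q8 F (u x) = D * Q8 F x) : False := by
  have e1 : ∀ (a b : F) (x : V8 F), Q8 F (a • x + b • u x) = (a * a + b * b * D) * Q8 F x := fun a b x => by
    rw [Q_add, QuadraticMap.map_smul, QuadraticMap.map_smul, polar_smul_left, polar_smul_right, polar_comm, ha, hq]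
    simp only [smul_eq_mul]
    ring
  have e0 : Q8 F (one8 F) = 1 := norm_one8
  by_cases hc : 1 + D = 0
  · have e2 := iso0 h.rd (Cm.one.add hu) (fun x y => by
      rw [pol_of_norm (m := 0) (fun x => ?_), zero_mul]
      have e3 := e1 1 1 x
      rw [one_smul, one_smul, one_mul, one_mul, hc] at e3
      exact e3) (one8 F)
    have e4 : u (one8 F) = - one8 F := eq_neg_of_add_eq_zero_right e2
    have e5 := ha (one8 F)
    rw [e4, polar_neg_left, polar_self', e0] at e5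
    exact h2 (by linear_combination -e5)
  obtain ⟨a, hA⟩ : ∃ a, a = (1 - D) / (1 + D) := ⟨_, rfl⟩
  obtain ⟨b, hB⟩ : ∃ b, b = 2 / (1 + D) := ⟨_, rfl⟩
  have hb : b ≠ 0 := hB ▸ div_ne_zero h2 hc
  have hab : a * a + b * b * D = 1 := by rw [hA, hB]; field_simp; ring
  have hq' : ∀ x, Q8 F ((a • (1 : Module.End F (V8 F)) + b • u) x) = Q8 F x := fun x => by
    show Q8 F (a • x + b • u x) = _
    rw [e1, hab, one_mul]
  have e2 := h.ci je ((Cm.one.smul a).add (hu.smul b)) hq'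
  have e3 := pol_of_norm (m := 1) (fun x => by rw [hq', one_mul]) ((a • (1 : Module.End F (V8 F)) + b • u) (one8 F))
    (u (one8 F))
  rw [e2, one_mul] at e3
  change polar (Q8 F) (one8 F) (a • u (one8 F) + b • u (u (one8 F))) =
    polar (Q8 F) (a • one8 F + b • u (one8 F)) (u (one8 F)) at e3
  have e4 := ha (one8 F + u (one8 F))
  rw [map_add, polar_add_left, polar_add_right, polar_add_right, ha, ha, polar_self', hq, e0] at e4
  rw [polar_add_right, polar_add_left, polar_smul_right, polar_smul_right, polar_smul_left, polar_smul_left,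
    polar_self', hq, e0, polar_comm _ _ (u (u _))] at e3
  simp only [smul_eq_mul] at e3
  have e5 : b * (2 * 2 * D) = 0 := by linear_combination b * e4 - e3
  exact mul_ne_zero hb (mul_ne_zero (mul_ne_zero h2 h2) hD) e5

end Cfsg.Agent.N2C.D4.B44
end

-- part: N2/Cl/D4/B44
section
prune_inst 0x40000220000000000000000000000000000000000000000000000000000000000000030000080000c100000006001000000422000000a000000000000000000000000000000000000000000000000000000000000000000000000010000000000000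
set_option linter.all false
open scoped Cfsg.Agent.FastGrp

/-!
# N2 (S3519), `PΩ₈⁺(q)` with triality, box 44: invariant `4`-spaces (helper89)
-/

set_option autoImplicit false
set_option linter.unusedSectionVars false

namespace Cfsg.Agent.N2C.D4

open QuadraticMap Module Cfsg.Agent.LieClassical.QuadForms Cfsg.Agent.LieClassical.OrthCore
  Cfsg.Agent.LieClassical.OrthTrans Cfsg.Agent.ClassicalGeometry.OrthSemi Cfsg.Agent.ClassicalGeometry.OrthAut1
  Cfsg.Agent.ClassicalGeometry.TrialityOct Cfsg.Agent.ClassicalGeometry.Triality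
  Cfsg.Agent.H989.OutOrth.Basic Cfsg.Agent.H989.OutOrth.Tri Cfsg.Agent.SB.D4

namespace B44

variable {F : Type} [Field F] [Fintype F] {L : Subgroup (E8 F)}

/-- an orthogonal basis of `W` -/
structure Ob (W : Submodule F (V8 F)) (p q r t : V8 F) : Prop where
  mp : p ∈ W
  mq : q ∈ W
  mr : r ∈ W
  mt : t ∈ W
  np : Q8 F p ≠ 0
  nq : Q8 F q ≠ 0
  nr : Q8 F r ≠ 0
  nt : Q8 F t ≠ 0
  pq : polar (Q8 F) p q = 0
  pr : polar (Q8 F) p r = 0
  pt : polar (Q8 F) p t = 0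
  qr : polar (Q8 F) q r = 0
  qt : polar (Q8 F) q t = 0
  rt : polar (Q8 F) r t = 0
  sp : ∀ w ∈ W, ∃ a b c d : F, w = a • p + b • q + c • r + d • t

theorem exists_ob (h2 : (2 : F) ≠ 0) {W : Submodule F (V8 F)} (hn : Nd (Q8 F) W) (h4 : finrank F W = 4) :
    ∃ p q r t, Ob W p q r t := by
  obtain ⟨u, hu, hQ, ho, hs⟩ := hn.exists_orth h2 h4
  refine ⟨u 0, u 1, u 2, u 3, hu 0, hu 1, hu 2, hu 3, hQ 0, hQ 1, hQ 2, hQ 3, ho 0 1 (by decide), ho 0 2 (by decide),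
    ho 0 3 (by decide), ho 1 2 (by decide), ho 1 3 (by decide), ho 2 3 (by decide), fun w hw => ?_⟩
  obtain ⟨c, hc⟩ := hs w hw
  exact ⟨c 0, c 1, c 2, c 3, by rw [hc, Fin.sum_univ_four]⟩

namespace Ob

variable {W : Submodule F (V8 F)} {p q r t : V8 F} (h : Ob W p q r t)
include h

theorem sw1 : Ob W p r q t :=
  ⟨h.mp, h.mr, h.mq, h.mt, h.np, h.nr, h.nq, h.nt, h.pr, h.pq, h.pt, (polar_comm _ _ _).trans h.qr, h.rt, h.qt,
    fun w hw => by
      obtain ⟨a, b, c, d, e⟩ := h.sp w hw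
      exact ⟨a, c, b, d, by rw [e]; abel⟩⟩

theorem sw2 : Ob W p q t r :=
  ⟨h.mp, h.mq, h.mt, h.mr, h.np, h.nq, h.nt, h.nr, h.pq, h.pt, h.pr, h.qt, h.qr, (polar_comm _ _ _).trans h.rt,
    fun w hw => by
      obtain ⟨a, b, c, d, e⟩ := h.sp w hw
      exact ⟨a, b, d, c, by rw [e]; abel⟩⟩

theorem four {π : Module.End F (V8 F)} (hπ : Pj W π) (x : V8 F) :
    srf p (srf q (srf r (srf t x))) = (Q8 F p * Q8 F q * Q8 F r * Q8 F t) • (x - (2 : F) • π x) := by
  obtain ⟨y, hy⟩ : ∃ y, y = x - π x := ⟨_, rfl⟩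
  have h1 : ∀ v ∈ W, srf v y = - Q8 F v • y := fun v hv =>
    srf_perp ((polar_comm _ _ _).trans (mem_prp.1 (hy ▸ (hπ x).2) v hv))
  obtain ⟨a, b, c, d, e⟩ := h.sp _ (hπ x).1
  have h3 : x = y + π x := by rw [hy, sub_add_cancel]
  generalize π x = z at *
  subst h3 e
  simp only [map_add, map_smul, h1 _ h.mp, h1 _ h.mq, h1 _ h.mr, h1 _ h.mt, srf_self, srf_perp h.pq, srf_perp h.pr,
    srf_perp h.pt, srf_perp h.qr, srf_perp h.qt, srf_perp h.rt, srf_perp ((polar_comm _ _ _).trans h.pq),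
    srf_perp ((polar_comm _ _ _).trans h.pr), srf_perp ((polar_comm _ _ _).trans h.pt),
    srf_perp ((polar_comm _ _ _).trans h.qr), srf_perp ((polar_comm _ _ _).trans h.qt),
    srf_perp ((polar_comm _ _ _).trans h.rt)]
  module

omit h in
theorem pair (hp : Q8 F p ≠ 0) (hq : Q8 F q ≠ 0) (hs : IsSquare (Q8 F p * Q8 F q)) :
    ∃ g ∈ E (Q8 F), ∀ x, srf p (srf q x) = (Q8 F p * Q8 F q) • g x := by
  obtain ⟨e, he⟩ := hs
  have he0 : e ≠ 0 := fun h0 => mul_ne_zero hp hq (by rw [he, h0, zero_mul])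
  have h1 : Q8 F ((e / Q8 F q) • q) = Q8 F p := by
    rw [QuadraticMap.map_smul, smul_eq_mul]
    field_simp
    linear_combination -he
  have h2 := (good8 (F := F)).refl_mul_refl_mem (h1 ▸ hp) hp h1
  rw [refl_smul hq (div_ne_zero he0 hq)] at h2
  have h3 : ∀ (v : V8 F) (hv : Q8 F v ≠ 0) (x : V8 F), srf v x = - Q8 F v • refl (Q8 F) v hv x := fun v hv x => by
    rw [srf_apply, refl_apply, smul_sub, smul_smul, neg_mul, mul_inv_cancel_left₀ hv]
    module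
  refine ⟨_, h2, fun x => ?_⟩
  rw [h3 q hq, map_smul, h3 p hp, smul_smul, LinearEquiv.mul_apply, neg_mul_neg, mul_comm]

theorem memE1 {π : Module.End F (V8 F)} (hπ : Pj W π) {s : GL8 F} (hs : ∀ x, s x = x - (2 : F) • π x)
    (h1 : IsSquare (Q8 F p * Q8 F q)) (h2 : IsSquare (Q8 F r * Q8 F t)) : s ∈ E (Q8 F) := by
  obtain ⟨g, hg, k⟩ := pair h.np h.nq h1
  obtain ⟨g', hg', k'⟩ := pair h.nr h.nt h2
  have h3 : s = g * g' := LinearEquiv.ext fun x => by
    have h4 := h.four hπ x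
    rw [k, k', map_smul, smul_smul, ← mul_assoc, ← hs] at h4
    exact (smul_right_injective _ (mul_ne_zero (mul_ne_zero (mul_ne_zero h.np h.nq) h.nr) h.nt) h4).symm
  exact h3 ▸ mul_mem hg hg'

theorem memE {π : Module.End F (V8 F)} (hπ : Pj W π) {s : GL8 F} (hs : ∀ x, s x = x - (2 : F) • π x)
    (h1 : IsSquare (Q8 F p * Q8 F q * Q8 F r * Q8 F t)) : s ∈ E (Q8 F) := by
  classical
  have k : ∀ a b : F, a ≠ 0 → b ≠ 0 → quadraticChar F a * quadraticChar F b = 1 → IsSquare (a * b) :=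
    fun a b ha hb e => (quadraticChar_one_iff_isSquare (mul_ne_zero ha hb)).1 (by rw [map_mul, e])
  have h2 := (quadraticChar_one_iff_isSquare (mul_ne_zero (mul_ne_zero (mul_ne_zero h.np h.nq) h.nr) h.nt)).2 h1
  rw [map_mul, map_mul, map_mul] at h2
  have k1 := fun e e' => h.memE1 hπ hs (k _ _ h.np h.nq e) (k _ _ h.nr h.nt e')
  have k2 := fun e e' => h.sw1.memE1 hπ hs (k _ _ h.np h.nr e) (k _ _ h.nq h.nt e')
  have k3 := fun e e' => h.sw2.sw1.memE1 hπ hs (k _ _ h.np h.nt e) (k _ _ h.nq h.nr e')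
  rcases quadraticChar_dichotomy h.np with a | a <;> rcases quadraticChar_dichotomy h.nq with b | b <;>
    rcases quadraticChar_dichotomy h.nr with c | c <;> rcases quadraticChar_dichotomy h.nt with d | d <;>
    rw [a, b, c, d] at h2 k1 k2 k3 <;>
    first
      | (refine k1 ?_ ?_ <;> decide)
      | (refine k2 ?_ ?_ <;> decide)
      | (refine k3 ?_ ?_ <;> decide)
      | omega

/-- the triality partner of `-1` on `W` -/
theorem partner {π : Module.End F (V8 F)} (hπ : Pj W π) {s : GL8 F} (hs : ∀ x, s x = x - (2 : F) • π x) :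
    ∃ j k : GL8 F, Tr s j k ∧ (∀ x, j (j x) = (Q8 F p * Q8 F q * Q8 F r * Q8 F t) • x) ∧
      ∀ x, Q8 F (j x) = (Q8 F p * Q8 F q * Q8 F r * Q8 F t) * Q8 F x := by
  have h1 := h.four hπ
  have h7 := cliff4 h.pq h.pr h.pt h.qr h.qt h.rt
  have hD0 := mul_ne_zero (mul_ne_zero (mul_ne_zero h.np h.nq) h.nr) h.nt
  obtain ⟨j, hj⟩ := exists_gl (f := SB.D4.pr p ∘ₗ pl q ∘ₗ SB.D4.pr r ∘ₗ pl t)
    ((pr_injective h.np).comp ((pl_injective h.nq).comp ((pr_injective h.nr).comp (pl_injective h.nt))))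
  obtain ⟨j', hj'⟩ := exists_gl (f := pl p ∘ₗ SB.D4.pr q ∘ₗ pl r ∘ₗ SB.D4.pr t)
    ((pl_injective h.np).comp ((pr_injective h.nq).comp ((pl_injective h.nr).comp (pr_injective h.nt))))
  simp only [LinearMap.comp_apply, pl_apply, pr_apply] at hj hj'
  refine ⟨j, LinearEquiv.smulOfNeZero F (V8 F) _ (inv_ne_zero hD0) * j', fun x y => ?_, fun x => ?_, fun x => ?_⟩
  · have h5 := h1 (pm x y)
    rw [srf_pm, srf_pm, srf_pm, srf_pm, ← hs] at h5
    rw [LinearEquiv.mul_apply, LinearEquiv.smulOfNeZero_apply, pm_smul, hj, hj', h5, smul_smul, inv_mul_cancel₀ hD0,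
      one_smul]
  · rw [hj, hj, h7]
  · rw [hj, norm_pm, norm_pm, norm_pm, norm_pm]
    ring

end Ob

theorem dim_map {z : Module.End F (V8 F)} (hz : Function.Injective z) (U : Submodule F (V8 F)) :
    finrank F (U.map z) = finrank F U := (Submodule.equivMapOfInjective z hz U).finrank_eq.symm

/-- a symmetric similitude with non-square multiplier -/
theorem Sd.sim (h : Sd L) (je : BoxJE) (pk : BoxP2K) (h2 : (2 : F) ≠ 0) {U : Submodule F (V8 F)} (hU : Iv L U)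
    (h4 : finrank F U = 4) {j : Module.End F (V8 F)} (hj : Cm L j) {D : F} (hD : ¬ IsSquare D)
    (h1 : ∀ x, j (j x) = D • x) (hq : ∀ x, Q8 F (j x) = D * Q8 F x) : False := by
  have hD0 : D ≠ 0 := fun e => hD (e ▸ IsSquare.zero)
  have hs : Sy j := fun x y => by
    have e1 := pol_of_norm hq x (j y)
    rw [h1, polar_smul_right, smul_eq_mul] at e1
    exact mul_left_cancel₀ hD0 e1
  have nU := (h.rd _ hU).1
  rcases h.uniq je hU (hj.iv_map hU) h4 ((dim_map (inj_of_norm hD0 hq) U).trans h4) with e | e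
  · exact h.p2k pk hU h4 hj (t := 0) (d := D) (fun x hx => e.le ⟨x, hx, rfl⟩) (fun x => by rw [h1, zero_smul, zero_add])
      (fun c hc => hD ⟨c, by rw [hc, zero_mul, zero_add]⟩) hs fun h0 => (h2 h0).elim
  obtain ⟨π, hπ⟩ := exists_pj nU
  have e1 : ∀ x ∈ U, j x ∈ prp (Q8 F) U := fun x hx => e.le ⟨x, hx, rfl⟩
  have e2 : ∀ x ∈ prp (Q8 F) U, j x ∈ U := fun x hx => by
    obtain ⟨y, hy, rfl⟩ := e.ge hx
    rw [h1]
    exact U.smul_mem _ hy
  refine h.skew je h2 ((Cm.one.sub ((hπ.cm nU hU).smul 2)).mul hj) hD0 (fun x => ?_) fun x => ?_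
  · change polar (Q8 F) (j x - (2 : F) • π (j x)) x = 0
    have e3 : j x = j (π x) + j (x - π x) := by rw [← map_add, add_sub_cancel]
    have e4 : π (j x) = j (x - π x) := by
      rw [e3, map_add, hπ.right nU (e1 _ (hπ x).1), hπ.left nU (e2 _ (hπ x).2), zero_add]
    have e5 := mem_prp.1 (e1 _ (hπ x).1) _ (hπ x).1
    have e6 := hs (π x) x
    rw [e4, map_sub, polar_sub_left, polar_smul_left, polar_sub_left, smul_eq_mul]
    have e7 := mem_prp.1 (hπ x).2 _ (e2 _ (hπ x).2)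
    rw [map_sub, polar_sub_left, polar_sub_right, polar_sub_right, polar_comm _ x, polar_comm _ x, polar_comm _ (π x),
      polar_comm _ (π x), e5] at e7
    rw [polar_comm _ (π x)] at e6
    linear_combination -e7 + e6
  · change Q8 F (j x - (2 : F) • π (j x)) = _
    rw [hπ.norm_refl, hq]

/-- characteristic two: the non-split case -/
theorem Sd.nsp (h : Sd L) (je : BoxJE) (pk : BoxP2K) (h2 : (2 : F) = 0) {U : Submodule F (V8 F)} (hU : Iv L U)
    (h4 : finrank F U = 4) {g : Module.End F (V8 F)} (hg : Cm L g) {μ c : F} (hμ : ∀ t : F, t * t ≠ 1 * t + μ)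
    (h1 : ∀ x, g (g x) = g x + μ • x) (hc : ∀ x, polar (Q8 F) (g x) x = c * Q8 F x) : False := by
  have hμ0 : μ ≠ 0 := fun e => hμ 0 (by rw [e]; ring)
  have alt : ∀ x, polar (Q8 F) x x = 0 := fun x => by rw [polar_self', h2, zero_mul]
  have e0 : Q8 F (one8 F) = 1 := norm_one8
  have e1 : ∀ x y, polar (Q8 F) (g x) y = polar (Q8 F) x (g y) + c * polar (Q8 F) x y := fun x y => by
    have e2 := hc (x + y)
    rw [map_add, polar_add_left, polar_add_right, polar_add_right, hc, hc, Q_add, polar_comm _ (g y)] at e2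
    linear_combination e2 - polar (Q8 F) x (g y) * h2
  have e2 : c * c = c := by
    have e3 := e1 (g (one8 F)) (one8 F)
    rw [h1, polar_add_left, polar_smul_left, alt, alt, hc, e0] at e3
    simp only [smul_eq_mul] at e3
    linear_combination -e3
  have i1 : Function.Injective g := by
    rw [← LinearMap.ker_eq_bot, LinearMap.ker_eq_bot']
    intro x hx
    have e3 := h1 x
    rw [hx, map_zero, zero_add] at e3
    exact (smul_eq_zero.1 e3.symm).resolve_left hμ0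
  by_cases c0 : c = 0
  · have i2 : Function.Injective (g - 1 : Module.End F (V8 F)) := by
      rw [← LinearMap.ker_eq_bot, LinearMap.ker_eq_bot']
      intro x hx
      have e4 : g x = x := sub_eq_zero.1 hx
      have e3 := h1 x
      rw [e4, e4, left_eq_add] at e3
      exact (smul_eq_zero.1 e3).resolve_left hμ0
    have nU := (h.rd _ hU).1
    refine h.p2k pk hU h4 hg (t := 1) (d := μ) (fun x hx => ?_) (fun x => by rw [h1, one_smul]) hμ
      (fun x y => by rw [e1, c0, zero_mul, add_zero]) fun _ x => by rw [hc, c0, zero_mul]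
    rcases h.uniq je hU (hg.iv_map hU) h4 ((dim_map i1 U).trans h4) with e | e
    · exact e.le ⟨x, hx, rfl⟩
    rcases h.uniq je hU ((hg.sub Cm.one).iv_map hU) h4 ((dim_map i2 U).trans h4) with e' | e'
    · exact (Submodule.sub_mem_iff_left U hx).1 (e'.le ⟨x, hx, rfl⟩)
    · have e3 : g x ∈ prp (Q8 F) U := e.le ⟨x, hx, rfl⟩
      have e4 : g x - x ∈ prp (Q8 F) U := e'.le ⟨x, hx, rfl⟩
      rw [nd_eq nU hx ((Submodule.sub_mem_iff_right _ e3).1 e4), map_zero]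
      exact zero_mem U
  have c1 : c = 1 := mul_left_cancel₀ c0 (by rw [e2, mul_one])
  have e3 : ∀ x, Q8 F (g x) = μ * Q8 F x := fun x => by
    have e4 := hc (g x)
    rw [h1, polar_add_left, polar_smul_left, alt, polar_comm _ x, hc, c1, smul_eq_mul] at e4
    linear_combination -e4
  have e4 := h.ci je ((hg.mul hg).smul μ⁻¹) (fun x => by
    change Q8 F (μ⁻¹ • g (g x)) = _
    rw [QuadraticMap.map_smul, e3, e3, smul_eq_mul]
    field_simp) (one8 F)
  change μ⁻¹ • g (g (μ⁻¹ • g (g (one8 F)))) = one8 F at e4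
  rw [map_smul, map_smul, h1 (one8 F), map_add, map_smul, map_add, map_smul, h1 (g (one8 F))] at e4
  have e5 : ∀ x : V8 F, μ • x + μ • x = 0 := fun x => two_smul0 h2 _
  have e6 : g (g (one8 F)) = 0 := by
    have e7 := congrArg (fun v => (μ * μ) • v) e4
    simp only [smul_smul] at e7
    rw [show μ * μ * (μ⁻¹ * μ⁻¹) = 1 by field_simp, one_smul, h1] at e7
    rw [h1]
    linear_combination (norm := module) e7 - e5 (g (one8 F))
  have e8 := e3 (g (one8 F))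
  rw [e6, map_zero, e3, e0, mul_one] at e8
  exact mul_ne_zero hμ0 hμ0 e8.symm

/-- characteristic two: kernels of idempotents -/
theorem dim_ker (hr : Rd L) (h2 : (2 : F) = 0) {g : Module.End F (V8 F)} (hg : Cm L g) (h1 : ∀ x, g (g x) = g x)
    (hn : ∀ l : F, g ≠ l • 1) : finrank F (LinearMap.ker g) = 4 := by
  have k1 := hr _ hg.iv_ker
  have k2 := hr _ (iv_prp hg.iv_ker)
  have k3 := dim_prp (LinearMap.ker g)
  obtain ⟨m, hm⟩ := k1.1.even (s := LinearMap.id) (fun _ hx => hx)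
    (fun x _ => by rw [LinearMap.id_apply, polar_self', h2, zero_mul]) fun _ _ hx => hx
  have k4 : finrank F (LinearMap.ker g) ≠ 0 := fun e => hn 1 (LinearMap.ext fun x => by
    have e1 : g x - x ∈ LinearMap.ker g := by rw [LinearMap.mem_ker, map_sub, h1, sub_self]
    rw [Submodule.finrank_eq_zero.1 e, Submodule.mem_bot, sub_eq_zero] at e1
    rw [one_smul]
    exact e1)
  have k5 : finrank F (LinearMap.ker g) ≠ 8 := fun e => hn 0 (by
    rw [zero_smul, ← LinearMap.ker_eq_top]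
    exact Submodule.eq_top_of_finrank_eq (e.trans finrank8.symm))
  omega

variable {A : Subgroup (G8 F)} {Γ : Subgroup (MulAut (G8 F))} {M₁ M₂ : Gam (Q8 F)} {N : Subgroup (G8 F)}
  {𝓣 : Set (Subgroup (G8 F))}

theorem sd (h : Cb A Γ M₁ M₂ N 𝓣) (nf : NoFix (lf N)) (rd : Rd (lf N)) (M : Gam (Q8 F)) : Sd (cL M (lf N)) :=
  ⟨cL_perfect M h.perf, nf.cL M, rd.cL M, fun _ hg => h.sc_of_comm M hg⟩

theorem odd (m : Lm) (h : Cb A Γ M₁ M₂ N 𝓣) (nf : NoFix (lf N)) (rd : Rd (lf N)) (h2 : (2 : F) ≠ 0)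
    {U : Submodule F (V8 F)} (hU : Iv (lf N) U) (h4 : finrank F U = 4) : False := by
  have nU := (rd _ hU).1
  obtain ⟨π, hπ⟩ := exists_pj nU
  obtain ⟨s, hs⟩ := exists_gl (f := 1 - (2 : F) • π) (inj_of_norm (m := (1 : F)) one_ne_zero fun x => by
    rw [one_mul]
    exact hπ.norm_refl x)
  replace hs : ∀ x, s x = x - (2 : F) • π x := hs
  have cs : ∀ l ∈ lf N, ∀ x, l.1 (s x) = s (l.1 x) := fun l hl x => by
    rw [hs, hs, map_sub, map_smul, hπ.cm nU hU l hl]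
  obtain ⟨p, q, r, t, ob⟩ := exists_ob h2 nU h4
  obtain ⟨j, k, ht, h1, hq⟩ := ob.partner hπ hs
  refine (sd h nf rd M₁).sim m.je m.p2k h2 ((Iv.cL M₁).2 hU) ((finrank_gmap _ _).trans h4) (j := j.toLinearMap)
    (h.tr_comm ht cs).1 (fun hD => ?_) h1 hq
  obtain ⟨d, hd⟩ := h.sc_of_comm' (g := ⟨s, ob.memE hπ hs hD⟩) fun l hl => e8_ext (cs l hl)
  have e1 : ∀ x, s x = d • x := hd
  obtain ⟨y, hy, hy0⟩ := (nU.nd_prp nondeg8').exists_nonsing (fun e => by
    have e2 := dim4 h4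
    rw [e, finrank_bot] at e2
    omega)
  have e2 := e1 p
  have e3 := e1 y
  rw [hs, hπ.left nU ob.mp] at e2
  rw [hs, hπ.right nU hy, smul_zero, sub_zero] at e3
  have e4 : d = 1 := smul_left_injective F (fun e => hy0 (by rw [e, map_zero])) (e3.symm.trans (one_smul F y).symm)
  rw [e4, one_smul, sub_eq_self, smul_eq_zero] at e2
  exact e2.elim h2 fun e => ob.np (by rw [e, map_zero])

theorem even (m : Lm) (h : Cb A Γ M₁ M₂ N 𝓣) (nf : NoFix (lf N)) (rd : Rd (lf N)) (h2 : (2 : F) = 0)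
    {U : Submodule F (V8 F)} (hU : Iv (lf N) U) (h4 : finrank F U = 4) : FP3.Good A := by
  have nU := (rd _ hU).1
  have s1 : Sd (lf N) := Cb.cL_one (lf N) ▸ sd h nf rd 1
  have s2 := sd h nf rd M₁
  have s3 := sd h nf rd M₂
  obtain ⟨l1, l2, l3, l4⟩ := m.lie F
  obtain ⟨π, hπ⟩ := exists_pj (nU.nd_prp nondeg8')
  have nP := nU.nd_prp nondeg8'
  have alt : ∀ x, polar (Q8 F) (π x) x = 0 := fun x => by rw [hπ.pol, polar_self', h2, zero_mul]
  obtain ⟨g, k, hl⟩ := l1 π alt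
  obtain ⟨cg, ck⟩ := h.li_comm m.lie hl (hπ.cm nP hU.prp)
  obtain ⟨μ, hg, hk⟩ := l2 π g k (g * g) (k * k) hl fun x y => by
    rw [← hπ.idem nP, hl, map_add, hl, hl, Module.End.mul_apply, Module.End.mul_apply, add_assoc,
      ← add_assoc (pm (g x) (k y)),
      two_smul0 h2, zero_add]
  obtain ⟨c, hc, -⟩ := l4 π g k hl alt
  have hg' : ∀ x, g (g x) = g x + μ • x := LinearMap.congr_fun hg
  have hk' : ∀ x, k (k x) = k x - μ • x := LinearMap.congr_fun hk
  have u2 := (Iv.cL M₁).2 hU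
  have u3 := (Iv.cL M₂).2 hU
  have d2 := (finrank_gmap M₁⁻¹ U).trans h4
  have d3 := (finrank_gmap M₂⁻¹ U).trans h4
  by_cases hμ : ∀ t : F, t * t ≠ 1 * t + μ
  · exact (s2.nsp m.je m.p2k h2 u2 d2 cg hμ hg' hc).elim
  push Not at hμ
  obtain ⟨t, ht⟩ := hμ
  have hl' : Li π (g + t • 1) (k - t • 1) := fun x y => by
    change _ = pm (g x + t • x) y + pm x (k y - t • y)
    rw [hl, add_pm, pm_sub, smul_pm, pm_smul]
    abel
  have hn : ∀ l : F, π ≠ l • 1 := fun l e => by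
    obtain ⟨y, hy, hy0⟩ := nU.exists_nonsing (by rintro rfl; simp at h4)
    obtain ⟨z, hz, hz0⟩ := nP.exists_nonsing (fun e => by
      have e2 := dim4 h4
      rw [e, finrank_bot] at e2
      omega)
    have e1 : l • y = 0 := (LinearMap.congr_fun e y).symm.trans (hπ.right nP (le_prp_prp U hy))
    have e2 : l • z = z := (LinearMap.congr_fun e z).symm.trans (hπ.left nP hz)
    rw [(smul_eq_zero.1 e1).resolve_right fun e => hy0 (by rw [e, map_zero]), zero_smul] at e2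
    exact hz0 (by rw [← e2, map_zero])
  have cg' : Cm _ (g + t • 1) := Cm.add cg (Cm.one.smul t)
  have ck' : Cm _ (k - t • 1) := Cm.sub ck (Cm.one.smul t)
  have k2 := dim_ker s2.rd h2 cg' (fun x => by
    change g (g x + t • x) + t • (g x + t • x) = g x + t • x
    rw [map_add, map_smul, hg']
    linear_combination (norm := module) ht • x + h2 • (t • g x + μ • x)) fun l e => by
      obtain ⟨l', e'⟩ := l3 _ _ _ l hl' (Or.inl e)
      exact hn l' e'
  have k3 := dim_ker s3.rd h2 ck' (fun x => by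
    change k (k x - t • x) - t • (k x - t • x) = k x - t • x
    rw [map_sub, map_smul, hk']
    linear_combination (norm := module) ht • x + h2 • (t • x - t • k x)) fun l e => by
      obtain ⟨l', e'⟩ := l3 _ _ _ l hl' (Or.inr e)
      exact hn l' e'
  refine h.toCx.good_44 m.g44 m.t44 h4 nU (fun M hM => ?_) (s2.uniq m.je u2 cg'.iv_ker d2 k2)
    (s3.uniq m.je u3 ck'.iv_ker d3 k3) fun x hx y hy => ?_
  · have e1 : Iv (lf N) (gmap M U) := fun a ha => by
      rw [← conjE_conjE_inv M a, kp_conj, gmap_inv_gmap]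
      exact hU _ (h.conj_lf (inv_mem hM) ha)
    exact (s1.uniq m.je hU e1 h4 ((finrank_gmap _ _).trans h4)).imp (fun e v hv => e.le (apply_mem_gmap.2 hv))
      fun e v hv => e.le (apply_mem_gmap.2 hv)
  · rw [← prp_prp nondeg8' U]
    refine hπ.mem_ker nP ?_
    rw [hl', LinearMap.mem_ker.1 hx, LinearMap.mem_ker.1 hy, zero_pm, pm_zero, add_zero]

end B44

/-- **[44]** -/
theorem box44 : Box44 := fun m F _ _ _ _ _ _ _ _ h nf rd _ hU h4 => by
  by_cases h2 : (2 : F) = 0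
  · exact B44.even m h nf rd h2 hU h4
  · exact (B44.odd m h nf rd h2 hU h4).elim

end Cfsg.Agent.N2C.D4
end
end

-- part: N2/Cl/D4/IrrA
section
prune_inst 0x2
set_option linter.all false
open scoped Cfsg.Agent.FastGrp

/-!
# N2 (S3519), `PΩ₈⁺(q)` with triality: the perfect lift, invariant subspaces (helper46)
-/

set_option autoImplicit false
set_option linter.unusedSectionVars false

namespace Cfsg.Agent.N2C.D4

open QuadraticMap Module Cfsg.Agent.LieClassical.QuadForms Cfsg.Agent.LieClassical.OrthCore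
  Cfsg.Agent.LieClassical.OrthTrans Cfsg.Agent.ClassicalGeometry.OrthSemi Cfsg.Agent.ClassicalGeometry.OrthAut1
  Cfsg.Agent.ClassicalGeometry.TrialityOct Cfsg.Agent.ClassicalGeometry.Triality
  Cfsg.Agent.H989.OutOrth.Basic Cfsg.Agent.H989.OutOrth.Tri Cfsg.Agent.SB.D4
open scoped commutatorElement

namespace Irr

/-! ### group theory -/

/-- commutators of elements fixing a line fix its vectors -/
theorem fix_of_line {G W K : Type} [Group G] [Field K] [AddCommGroup W] [Module K W] (act : G → W → W)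
    (h1 : ∀ w, act 1 w = w) (hm : ∀ a b w, act (a * b) w = act a (act b w))
    (hs : ∀ a (c : K) w, act a (c • w) = c • act a w) {H : Subgroup G} {w : W}
    (h : ∀ a ∈ H, ∃ c : K, act a w = c • w) : ∀ a ∈ ⁅H, H⁆, act a w = w := by
  let S : Subgroup G :=
    { carrier := {a | act a w = w}
      mul_mem' := fun {a b} (ha : act a w = w) (hb : act b w = w) => (by rw [hm, hb, ha] : act (a * b) w = w)
      one_mem' := h1 w
      inv_mem' := fun {a} (ha : act a w = w) =>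
        (by conv_lhs => rw [← ha, ← hm, inv_mul_cancel, h1] : act a⁻¹ w = w) }
  have h2 : ⁅H, H⁆ ≤ S := Subgroup.commutator_le.2 fun a ha b hb => by
    obtain ⟨c, hc⟩ := h _ (inv_mem ha)
    obtain ⟨d, hd⟩ := h _ (inv_mem hb)
    have e : act (a⁻¹ * b⁻¹) w = act (b⁻¹ * a⁻¹) w := by rw [hm, hm, hc, hd, hs, hs, hc, hd, smul_comm]
    show act ⁅a, b⁆ w = w
    rw [commutatorElement_def, mul_assoc (a * b), hm, e, ← hm, ← mul_inv_rev, mul_inv_cancel, h1]
  exact h2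

/-- index at most two -/
theorem comm_le {G : Type} [Group G] {L H : Subgroup G} (h : ∀ a ∈ L, ∀ b ∈ L, a ∉ H → b ∉ H → a⁻¹ * b ∈ H) :
    ⁅L, L⁆ ≤ H := by
  have key : ∀ a ∈ L, ∀ b ∈ L, a * b ∈ H → b * a ∈ H := fun a ha b hb hab => by
    by_cases h1 : a ∈ H
    · exact mul_mem ((mul_mem_cancel_left h1).1 hab) h1
    · have h2 := h b⁻¹ (inv_mem hb) a ha (fun h3 => h1 ((mul_mem_cancel_right (inv_mem_iff.1 h3)).1 hab)) h1
      rwa [inv_inv] at h2
  refine Subgroup.commutator_le.2 fun a ha b hb => ?_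
  rw [commutatorElement_def, mul_assoc (a * b), ← mul_inv_rev]
  by_cases h1 : a * b ∈ H
  · exact mul_mem h1 (inv_mem (key a ha b hb h1))
  · have h2 := h _ (inv_mem (mul_mem ha hb)) _ (inv_mem (mul_mem hb ha)) (fun h3 => h1 (inv_mem_iff.1 h3))
      fun h3 => h1 (key b hb a ha (inv_mem_iff.1 h3))
    rwa [inv_inv] at h2

theorem comm_le_self {G : Type} [Group G] (N : Subgroup G) : ⁅N, N⁆ ≤ N :=
  Subgroup.commutator_le.2 fun _ ha _ hb => mul_mem (mul_mem (mul_mem ha hb) (inv_mem ha)) (inv_mem hb)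

theorem le_comm_of_simple {G : Type} [Group G] {S : Subgroup G} (h : IsSimpleGroup S) (hn : ¬ IsMulCommutative S) :
    S ≤ ⁅S, S⁆ := by
  rcases (inferInstance : (commutator S).Normal).eq_bot_or_eq_top with h1 | h1
  · rw [commutator_def, Subgroup.commutator_eq_bot_iff_le_centralizer] at h1
    exact (hn ⟨⟨fun a b => h1 (Subgroup.mem_top b) a (Subgroup.mem_top a)⟩⟩).elim
  · have h2 := congrArg (Subgroup.map S.subtype) h1
    rw [commutator_def, Subgroup.map_commutator, ← MonoidHom.range_eq_map, Subgroup.range_subtype] at h2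
    exact h2.ge

/-! ### the lift -/

variable {F : Type} [Field F] [Fintype F]

theorem no_pt {N : Subgroup (G8 F)} (hf : NoFix (lf N)) {v : V8 F}
    (hv : ∀ a : E8 F, (a : G8 F) ∈ N → ∃ c : F, a.1 v = c • v) : v = 0 :=
  hf v (fix_of_line (K := F) (fun (a : E8 F) w => a.1 w) (fun _ => rfl) (fun _ _ _ => rfl)
    (fun a c w => a.1.map_smul c w) hv)

/-- the stabiliser of a subspace -/
def stb (U : Submodule F (V8 F)) : Subgroup (E8 F) where
  carrier := {a | Kp a U U}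
  mul_mem' := fun ha hb v hv => ha _ (hb v hv)
  one_mem' := fun _ hv => hv
  inv_mem' := fun {a} ha v hv => by
    obtain ⟨w, hw, rfl⟩ := exists_pre ha hv
    exact (a.1.symm_apply_apply w).symm ▸ hw

theorem iv_prp {L : Subgroup (E8 F)} {U : Submodule F (V8 F)} (h : Iv L U) : Iv L (prp (Q8 F) U) :=
  fun a ha _ hv => prp_inv (E_le_O a.2) (h a ha) hv

theorem iv_inf {L : Subgroup (E8 F)} {U W : Submodule F (V8 F)} (h : Iv L U) (h' : Iv L W) : Iv L (U ⊓ W) :=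
  fun a ha v hv => ⟨h a ha v hv.1, h' a ha v hv.2⟩

theorem iv_sup {L : Subgroup (E8 F)} {U W : Submodule F (V8 F)} (h : Iv L U) (h' : Iv L W) : Iv L (U ⊔ W) :=
  fun a ha v hv => by
    obtain ⟨y, hy, z, hz, rfl⟩ := Submodule.mem_sup.1 hv
    rw [map_add]
    exact Submodule.add_mem_sup (h a ha y hy) (h' a ha z hz)

theorem iv_map {L : Subgroup (E8 F)} {U : Submodule F (V8 F)} (h : Iv L U) {f : V8 F →ₗ[F] V8 F}
    (hf : ∀ l ∈ L, ∀ x, f (l.1 x) = l.1 (f x)) : Iv L (U.map f) := by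
  rintro a ha _ ⟨v, hv, rfl⟩
  exact ⟨_, h a ha v hv, hf a ha v⟩

theorem iv_ker {L : Subgroup (E8 F)} {f : V8 F →ₗ[F] V8 F} (hf : ∀ l ∈ L, ∀ x, f (l.1 x) = l.1 (f x)) :
    Iv L (LinearMap.ker f) := fun a ha v hv => by
  rw [LinearMap.mem_ker, hf a ha, LinearMap.mem_ker.1 hv, map_zero]

theorem prp_eq_self {S : Submodule F (V8 F)} (hs : ∀ u ∈ S, Q8 F u = 0) (h4 : finrank F S = 4) : prp (Q8 F) S = S := by
  have h1 := finrank_prp nondeg8' S
  rw [finrank8] at h1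
  exact (Submodule.eq_of_le_of_finrank_eq (fun x hx => mem_prp.2 fun y hy => polar_of_ts hs hx hy) (by omega)).symm

section cb

variable {A : Subgroup (G8 F)} {Γ : Subgroup (MulAut (G8 F))} {M₁ M₂ : Gam (Q8 F)} {N : Subgroup (G8 F)}
  {𝓣 : Set (Subgroup (G8 F))} (h : Cb A Γ M₁ M₂ N 𝓣)
include h

theorem perfN : ⁅N, N⁆ = N := le_antisymm (comm_le_self N) (by
  conv_lhs => rw [← h.sup]
  exact sSup_le fun S hS => (le_comm_of_simple (h.simple S hS).1 (h.simple S hS).2).trans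
    (Subgroup.commutator_mono (h.sup ▸ le_sSup hS) (h.sup ▸ le_sSup hS)))

theorem onto {n : G8 F} (hn : n ∈ N) : ∃ a ∈ lf N, (a : G8 F) = n := by
  have h1 : (lf N).map (QuotientGroup.mk' _) = N := by
    rw [lf, Subgroup.map_commutator, Subgroup.map_comap_eq_self_of_surjective (QuotientGroup.mk'_surjective _),
      perfN h]
  rw [← h1] at hn
  exact hn

theorem perf : ⁅lf N, lf N⁆ = lf N := by
  refine le_antisymm (comm_le_self _) (Subgroup.commutator_le.2 fun a ha b hb => ?_)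
  obtain ⟨a', ha', e1⟩ := onto h ha
  obtain ⟨b', hb', e2⟩ := onto h hb
  have h1 := Subgroup.mem_center_iff.1 (QuotientGroup.eq.1 e1)
  have h2 := Subgroup.mem_center_iff.1 (QuotientGroup.eq.1 e2)
  obtain ⟨z, rfl⟩ : ∃ z, a = a' * z := ⟨a'⁻¹ * a, by group⟩
  obtain ⟨w, rfl⟩ : ∃ w, b = b' * w := ⟨b'⁻¹ * b, by group⟩
  rw [inv_mul_cancel_left] at h1 h2
  have h3 : ⁅a' * z, b' * w⁆ = ⁅a', b'⁆ := by
    rw [commutatorElement_def, commutatorElement_def, mul_assoc a' z, ← h1, h2 b', mul_inv_rev, mul_inv_rev,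
      ← mul_assoc a', ← mul_assoc a', h2 a']
    calc w * a' * b' * z * (z⁻¹ * a'⁻¹) * (b'⁻¹ * w⁻¹) = w * (a' * b' * a'⁻¹ * b'⁻¹) * w⁻¹ := by group
      _ = _ := by rw [← h2, mul_inv_cancel_right]
  rw [h3]
  exact Subgroup.commutator_mem_commutator ha' hb'

theorem iv_all {U : Submodule F (V8 F)} (hU : Iv (lf N) U) {a : E8 F} (ha : (a : G8 F) ∈ N) : Kp a U U := fun v hv => by
  obtain ⟨a', ha', e⟩ := onto h ha
  obtain ⟨d, -, hd⟩ := mk_eq_iff.1 e
  rw [hd]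
  exact U.smul_mem _ (hU a' ha' v hv)

theorem cen_sc {g : E8 F} (hg : ∀ a ∈ lf N, ∀ x, g.1 (a.1 x) = a.1 (g.1 x)) : ∃ e, Sc g e := by
  refine mk_eq_one_iff.1 (h.cen _ fun n hn => ?_)
  obtain ⟨a, ha, rfl⟩ := onto h hn
  exact congrArg (QuotientGroup.mk : E8 F → G8 F) (e8_ext fun x => (hg a ha x).symm : a * g = g * a)

theorem no1 (hf : NoFix (lf N)) {U : Submodule F (V8 F)} (hU : Iv (lf N) U) : finrank F U ≠ 1 := fun h1 => by
  obtain ⟨v, hv0, hv⟩ := finrank_eq_one_iff'.1 h1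
  refine hv0 (Subtype.ext (no_pt hf fun a ha => ?_))
  obtain ⟨c, hc⟩ := hv ⟨_, iv_all h hU ha v v.2⟩
  exact ⟨c, (congrArg Subtype.val hc).symm⟩

theorem no2 {U : Submodule F (V8 F)} (hU : Iv (lf N) U) (hs : ∀ u ∈ U, Q8 F u = 0) : finrank F U ≠ 2 := fun h2 => by
  let β := Module.finBasisOfFinrankEq F U h2
  have hsp : ∀ u ∈ U, ∃ s t : F, u = s • (β 0 : V8 F) + t • (β 1 : V8 F) := fun u hu =>
    ⟨β.repr ⟨u, hu⟩ 0, β.repr ⟨u, hu⟩ 1, by
      have h1 := congrArg Subtype.val (β.sum_repr ⟨u, hu⟩).symm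
      rw [Fin.sum_univ_two] at h1
      exact h1⟩
  have h0 : (β 0 : V8 F) ≠ 0 := fun e => β.ne_zero 0 (Subtype.ext e)
  have hi : ∀ c : F, (β 1 : V8 F) ≠ c • (β 0 : V8 F) := fun c e => by
    have h1 := congrArg (fun x => β.repr x 1) (Subtype.ext e : β 1 = c • β 0)
    simp at h1
  have he := (β 0).2
  have he' := (β 1).2
  generalize (β 0 : V8 F) = e, (β 1 : V8 F) = e' at *
  have h3 := fix_of_line (K := F) (fun (a : E8 F) (f : V8 F → V8 F) v => a.1 (f (a⁻¹.1 v))) (fun _ => rfl)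
    (fun a b f => by rw [mul_inv_rev]; rfl) (fun a c f => funext fun v => a.1.map_smul c _) (H := lf N)
    (w := wd (Q8 F) e e') fun a ha => by
      obtain ⟨s, t, h4⟩ := hsp _ (hU a ha e he)
      obtain ⟨s', t', h5⟩ := hsp _ (hU a ha e' he')
      refine ⟨s * t' - t * s', funext fun v => ?_⟩
      have h6 : ∀ x, polar (Q8 F) x (a⁻¹.1 v) = polar (Q8 F) (a.1 x) v := fun x => (polar_inv (E_le_O a.2) x v).symm
      rw [Pi.smul_apply, wd, wd, map_sub, map_smul, map_smul, h6, h6, h4, h5]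
      simp only [polar_add_left, polar_smul_left, smul_eq_mul]
      module
  rw [perf h] at h3
  have hee := polar_of_ts hs he he'
  have h4 : ∀ v, siegel (Q8 F) e e' (hs e he) hee v = v + wd (Q8 F) e e' v := fun v => by
    rw [siegel_apply, hs e' he', zero_mul, zero_smul, sub_zero, wd, add_sub_assoc]
  obtain ⟨d, hd⟩ := cen_sc h (g := ⟨siegel (Q8 F) e e' (hs e he) hee, siegel_mem_E _ _⟩) fun a ha x => by
    have h5 := congrFun (h3 a ha) (a.1 x)
    rw [show a⁻¹.1 (a.1 x) = x from a.1.symm_apply_apply x] at h5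
    rw [h4, h4, map_add, h5]
  have h5 : ∀ v, v + wd (Q8 F) e e' v = d • v := fun v => (h4 v).symm.trans (hd v)
  have h6 := h5 e
  rw [wd, polar_of_ts hs he he, polar_of_ts hs he' he, zero_smul, zero_smul, sub_zero, add_zero] at h6
  obtain rfl : 1 = d := smul_left_injective F h0 ((one_smul F e).trans h6)
  obtain ⟨g, -, hg⟩ := (nd_top (nondeg8' (F := F))).exists_one (e := e) trivial h0
  have h7 := h5 g
  rw [one_smul, add_eq_left, wd, hg, one_smul, sub_eq_zero] at h7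
  exact hi _ h7

theorem no4 (hf : NoFix (lf N)) {U : Submodule F (V8 F)} (hU : Iv (lf N) U) (hs : ∀ u ∈ U, Q8 F u = 0) :
    finrank F U ≠ 4 := fun h4 => by
  have := simple8 (F := F)
  have := finite8 (F := F)
  obtain ⟨x, hx, hx0, hx'⟩ := ClassicalGeometry.TrialitySpaces.isOct_of_singular hs h4
  have hy : Q8 F (oconj x) = 0 := by rwa [norm_oconj]
  have hy0 := ClassicalGeometry.TrialitySpaces.oconj_ne_zero hx0
  rw [← oconj_oconj x, ← range_pl, ← range_pr] at hx'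
  generalize oconj x = y at *
  rcases hx' with rfl | rfl
  · obtain ⟨α, hα, hM⟩ := h.e1
    refine gam_ne M₁ hy0 (no_pt hf fun a' ha' => ?_)
    rw [← conjE_conjE_inv M₁ a'] at ha' ⊢
    obtain ⟨a, c, ht⟩ := exists_T3₁ (conjE (Q8 F) M₁⁻¹ a')
    generalize conjE (Q8 F) M₁⁻¹ a' = b at *
    rw [← hM a b c ht, h.inv.iff hα] at ha'
    obtain ⟨l, hl⟩ := pl_line hy hy0 ((mem_O.1 (E_le_O b.2) y).trans hy) (b.1.map_ne_zero_iff.2 hy0) fun t => by
      obtain ⟨t, rfl⟩ := c.1.surjective t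
      rw [← ht]
      exact iv_all h hU ha' _ ⟨t, rfl⟩
    exact conjE_eig hl
  · obtain ⟨α, hα, hM⟩ := h.e2
    refine gam_ne M₂ hy0 (no_pt hf fun a' ha' => ?_)
    rw [← conjE_conjE_inv M₂ a'] at ha' ⊢
    obtain ⟨a, b, ht⟩ := exists_T3₂ (conjE (Q8 F) M₂⁻¹ a')
    generalize conjE (Q8 F) M₂⁻¹ a' = c at *
    rw [← hM a b c ht, h.inv.iff hα] at ha'
    obtain ⟨l, hl⟩ := pr_line hy hy0 ((mem_O.1 (E_le_O c.2) y).trans hy) (c.1.map_ne_zero_iff.2 hy0) fun t => by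
      obtain ⟨t, rfl⟩ := b.1.surjective t
      rw [← ht]
      exact iv_all h hU ha' _ ⟨t, rfl⟩
    exact conjE_eig hl

omit h in
/-- a totally singular `3`-space lies in a solid -/
theorem exists_ext {R : Submodule F (V8 F)} (h3 : finrank F R = 3) :
    ∃ s ∈ prp (Q8 F) R, Q8 F s = 0 ∧ s ∉ R := by
  have hs : ∀ u ∈ LinearMap.range (pr (e8 F)), Q8 F u = 0 := by
    rintro _ ⟨t, rfl⟩
    rw [pr_apply, norm_pm, norm_e8, mul_zero]
  have h4 := finrank_pr (norm_e8 (F := F)) e8_ne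
  have h1 := prp_eq_self hs h4
  generalize LinearMap.range (pr (e8 F)) = S at *
  by_contra hc
  push Not at hc
  have h2 : prp (Q8 F) (S ⊔ R) ≤ S ⊓ R := fun x hx => by
    have h5 : x ∈ S := h1 ▸ prp_anti le_sup_left hx
    exact ⟨h5, hc x (prp_anti le_sup_right hx) (hs x h5)⟩
  have h5 := Submodule.finrank_mono h2
  have h6 := finrank_prp nondeg8' (S ⊔ R)
  have h7 := Submodule.finrank_sup_add_finrank_inf_eq S R
  rw [finrank8] at h6
  omega

theorem no3 (hf : NoFix (lf N)) {R : Submodule F (V8 F)} (hU : Iv (lf N) R) (hs : ∀ u ∈ R, Q8 F u = 0) :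
    finrank F R ≠ 3 := fun h3 => by
  obtain ⟨s, hs1, hs2, hs3⟩ := exists_ext h3
  have hm : ∀ x, x ∈ R ⊔ Submodule.span F {s} ↔ ∃ r ∈ R, ∃ c : F, x = r + c • s := fun x => by
    rw [Submodule.mem_sup]
    constructor
    · rintro ⟨r, hr, z, hz, rfl⟩
      obtain ⟨c, rfl⟩ := Submodule.mem_span_singleton.1 hz
      exact ⟨r, hr, c, rfl⟩
    · rintro ⟨r, hr, c, rfl⟩
      exact ⟨r, hr, _, Submodule.mem_span_singleton.2 ⟨c, rfl⟩, rfl⟩
  have h4 : finrank F ↥(R ⊔ Submodule.span F {s}) = 4 := by rw [Submodule.finrank_sup_span_singleton hs3, h3]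
  generalize R ⊔ Submodule.span F {s} = S at *
  have hS : ∀ u ∈ S, Q8 F u = 0 := fun u hu => by
    obtain ⟨r, hr, c, rfl⟩ := (hm u).1 hu
    rw [Q_add, hs r hr, QuadraticMap.map_smul, hs2, polar_smul_right, polar_comm, mem_prp.1 hs1 r hr]
    simp
  have h5 : ∀ x ∈ prp (Q8 F) R, polar (Q8 F) x s = 0 → x ∈ S := fun x hx hx' => by
    rw [← prp_eq_self hS h4]
    refine mem_prp.2 fun y hy => ?_
    obtain ⟨r, hr, c, rfl⟩ := (hm y).1 hy
    rw [polar_add_right, polar_smul_right, mem_prp.1 hx r hr, hx', smul_zero, add_zero]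
  have h6 : ∀ a ∈ lf N, a.1 s ∈ S → a ∈ stb S := fun a ha h7 y hy => by
    obtain ⟨r, hr, c, rfl⟩ := (hm y).1 hy
    rw [map_add, map_smul]
    exact add_mem ((hm _).2 ⟨_, hU a ha r hr, 0, by simp⟩) (S.smul_mem _ h7)
  refine no4 h hf (fun a ha => ?_) hS h4
  rw [← perf h] at ha
  refine comm_le (H := stb S) (fun a ha b hb ha' hb' => h6 _ (mul_mem (inv_mem ha) hb) ?_) ha
  have p1 := iv_prp hU a ha s hs1
  have p2 := iv_prp hU b hb s hs1
  have q1 : polar (Q8 F) (a.1 s) s ≠ 0 := fun e => ha' (h6 a ha (h5 _ p1 e))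
  have q2 : polar (Q8 F) (b.1 s) s ≠ 0 := fun e => hb' (h6 b hb (h5 _ p2 e))
  obtain ⟨t, ht⟩ : ∃ t : F, polar (Q8 F) (b.1 s) s = t * polar (Q8 F) (a.1 s) s := ⟨_, (div_mul_cancel₀ _ q1).symm⟩
  obtain ⟨r, hr, c, hc⟩ := (hm _).1 (h5 (b.1 s - t • a.1 s) (sub_mem p2 (Submodule.smul_mem _ _ p1)) (by
    rw [polar_sub_left, polar_smul_left, ht, smul_eq_mul, sub_self]))
  rw [sub_eq_iff_eq_add] at hc
  have h7 := mem_O.1 (E_le_O b.2) s
  simp only [hc, Q_add, Q_add, hs r hr, QuadraticMap.map_smul, QuadraticMap.map_smul, mem_O.1 (E_le_O a.2), hs2,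
    polar_smul_right, polar_smul_right, polar_add_left, polar_smul_left, polar_comm _ r, polar_comm _ r,
    mem_prp.1 hs1 r hr, mem_prp.1 p1 r hr, polar_comm _ s] at h7
  have h8 : c = 0 := by
    rw [ht] at q2
    refine mul_left_cancel₀ q2 ?_
    simp only [smul_eq_mul] at h7
    linear_combination h7
  rw [e8_mul, hc, h8, zero_smul, add_zero, map_add, map_smul, show a⁻¹.1 (a.1 s) = s from a.1.symm_apply_apply s]
  exact (hm _).2 ⟨_, hU _ (inv_mem ha) r hr, t, rfl⟩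

theorem ts_bot (hf : NoFix (lf N)) {R : Submodule F (V8 F)} (hU : Iv (lf N) R) (hs : ∀ u ∈ R, Q8 F u = 0) : R = ⊥ := by
  have h1 := no1 h hf hU
  have h2 := no2 h hU hs
  have h3 := no3 h hf hU hs
  have h4 := no4 h hf hU hs
  have h5 : finrank F R ≤ 4 := ClassicalGeometry.TrialitySpaces.finrank_le_four hs
  exact Submodule.finrank_eq_zero.1 (by omega)

theorem nd (hf : NoFix (lf N)) {U : Submodule F (V8 F)} (hU : Iv (lf N) U) : Nd (Q8 F) U := fun x hx hx' => by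
  let R : Submodule F (V8 F) :=
    { carrier := {w | w ∈ U ⊓ prp (Q8 F) U ∧ Q8 F w = 0}
      add_mem' := fun {v w} hv hw => ⟨add_mem hv.1 hw.1, by
        rw [Q_add, hv.2, hw.2, mem_prp.1 hv.1.2 w hw.1.1, add_zero, add_zero]⟩
      zero_mem' := ⟨zero_mem _, map_zero _⟩
      smul_mem' := fun c v hv => ⟨Submodule.smul_mem _ _ hv.1, by rw [QuadraticMap.map_smul, hv.2, smul_zero]⟩ }
  have hW := iv_inf hU (iv_prp hU)
  have h0 : R = ⊥ := ts_bot h hf (fun a ha v hv => ⟨hW a ha v hv.1, (mem_O.1 (E_le_O a.2) v).trans hv.2⟩)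
    fun u hu => hu.2
  refine hf x fun a ha => sub_eq_zero.1 ?_
  have h1 : x ∈ U ⊓ prp (Q8 F) U := ⟨hx, mem_prp.2 hx'⟩
  have h2 : a.1 x - x ∈ R := ⟨sub_mem (hW a ha x h1) h1, by
    have h3 := hx' x hx
    rw [polar_self'] at h3
    rw [sub_eq_add_neg, Q_add, QuadraticMap.map_neg, mem_O.1 (E_le_O a.2), polar_neg_right, polar_comm,
      hx' _ (hU a ha x hx)]
    linear_combination h3⟩
  rwa [h0] at h2

end cb

end Irr

/-- [Irr] -/
theorem boxIrr : BoxIrr := fun hL F _ _ _ _ _ _ N _ h hf U hU => by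
  refine ⟨Irr.nd h hf hU, Irr.no1 h hf hU, fun h2 => ?_⟩
  have h1 : U = ⊥ := eq_bot_iff.2 fun x hx =>
    hf x fun a ha => (hL.p2 F U h2 (Irr.nd h hf hU)).2 _ (Irr.perf h) hU a ha x hx
  rw [h1, finrank_bot] at h2
  omega

end Cfsg.Agent.N2C.D4

private theorem dce_63b39d05eff2 : _root_.True := by
  try have : _root_.True := by simp only [_root_.Cfsg.Agent.N2C.D4.lf.eq_1]
  exact _root_.True.intro
end

section
prune_inst 0xfdecf89bb871dfdfff7e7fa6d8cdfc39921fffe6dff9433fe029df0bdf03000945f38d09e010fe0ed6c21410a87803f97eee7fe26bdc7ffffd5ff41ffbee0fe5f7b50851d48c340f300ffe03f0678e7f000000000000000000000000000000000200000002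

-- part: N2/Cl/D4/Irr
section
prune_inst 0x21307204786200000018051072201c629a00000200488400ac62070206c98c6aa0822861aa30011212808c4520350068110800100020000000000000011c018000001202b108a000800010000100000000000000000000000000000000000000000000000
set_option linter.all false
open scoped Cfsg.Agent.FastGrp

/-!
# N2 (S3519), `PΩ₈⁺(q)` with triality: the case `3 + 5` (helper46)
-/

set_option autoImplicit false
set_option linter.unusedSectionVars false

namespace Cfsg.Agent.N2C.D4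

open QuadraticMap Module Cfsg.Agent.LieClassical.QuadForms Cfsg.Agent.LieClassical.OrthCore
  Cfsg.Agent.LieClassical.OrthTrans Cfsg.Agent.ClassicalGeometry.OrthSemi Cfsg.Agent.ClassicalGeometry.OrthAut1
  Cfsg.Agent.ClassicalGeometry.TrialityOct Cfsg.Agent.ClassicalGeometry.Triality
  Cfsg.Agent.H989.OutOrth.Basic Cfsg.Agent.H989.OutOrth.Tri Cfsg.Agent.SB.D4

namespace Irr

variable {F : Type} [Field F] [Fintype F]

theorem no_swap {b c : GL8 F} {f g : V8 F → V8 F} (h : ∀ x y, pm (b x) (c y) = pm (f y) (g x))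
    (hf : Q8 F (f (one8 F)) ≠ 0) (hg : ∀ x, g x = 0 → x = 0) : False := by
  obtain ⟨x, hx⟩ := b.surjective (e8 F)
  have hz0 : g x ≠ 0 := fun e => e8_ne (by rw [← hx, hg x e, map_zero])
  have hz : Q8 F (g x) = 0 := by
    have h1 := congrArg (Q8 F) (h x (one8 F))
    rw [norm_pm, norm_pm, hx, norm_e8, zero_mul] at h1
    exact (mul_eq_zero.1 h1.symm).resolve_left hf
  have h1 : LinearMap.range (pl (e8 F)) = LinearMap.range (pr (g x)) := by
    refine Submodule.eq_of_le_of_finrank_eq ?_ ?_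
    · rintro _ ⟨t, rfl⟩
      obtain ⟨y, rfl⟩ := c.surjective t
      exact ⟨f y, by rw [pr_apply, pl_apply, ← h, hx]⟩
    · rw [finrank_pr hz hz0, range_pl]
      exact ClassicalGeometry.TrialitySpaces.finrank_leftSp (by rw [norm_oconj, norm_e8])
        (ClassicalGeometry.TrialitySpaces.oconj_ne_zero e8_ne)
  rw [range_pl, range_pr] at h1
  exact ClassicalGeometry.TrialitySpaces.leftSp_ne_rightSp (by rw [norm_oconj, norm_e8])
    (ClassicalGeometry.TrialitySpaces.oconj_ne_zero e8_ne) (by rwa [norm_oconj])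
    (ClassicalGeometry.TrialitySpaces.oconj_ne_zero hz0) h1

theorem dec {U : Submodule F (V8 F)} (hN : Nd (Q8 F) U) (v : V8 F) : ∃ y ∈ U, ∃ z ∈ prp (Q8 F) U, y + z = v :=
  Submodule.mem_sup.1 (hN.sup_prp nondeg8' ▸ Submodule.mem_top)

/-- the product of three reflections -/
theorem exists_s (h2 : (2 : F) ≠ 0) {U : Submodule F (V8 F)} (hN : Nd (Q8 F) U) (h3 : finrank F U = 3) :
    ∃ s : GL8 F, (∀ y ∈ U, s y = -y) ∧ (∀ z ∈ prp (Q8 F) U, s z = z) ∧ ¬ ∃ b c, Tr s b c := by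
  obtain ⟨u, hu, hQ, ho, hs⟩ := hN.exists_orth h2 h3
  obtain ⟨D, hD⟩ : ∃ D, D = Q8 F (u 0) * Q8 F (u 1) * Q8 F (u 2) := ⟨_, rfl⟩
  have hD0 : D ≠ 0 := hD ▸ mul_ne_zero (mul_ne_zero (hQ 0) (hQ 1)) (hQ 2)
  let f : V8 F →ₗ[F] V8 F := (-D⁻¹) • (srf (u 0) ∘ₗ srf (u 1) ∘ₗ srf (u 2))
  have hf : ∀ v, f v = (-D⁻¹) • srf (u 0) (srf (u 1) (srf (u 2) v)) := fun _ => rfl
  have h4 : ∀ y ∈ U, f y = -y := fun y hy => by
    obtain ⟨t, rfl⟩ := hs y hy
    have h5 : ∀ i j, i ≠ j → srf (u i) (u j) = - Q8 F (u i) • u j := fun i j hij => srf_perp (ho i j hij)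
    rw [hf, Fin.sum_univ_three]
    simp only [map_add, map_smul, srf_self, h5 0 1 (by decide), h5 0 2 (by decide), h5 1 0 (by decide),
      h5 1 2 (by decide), h5 2 0 (by decide), h5 2 1 (by decide)]
    match_scalars <;> field_simp <;> rw [hD] <;> ring
  have h5 : ∀ z ∈ prp (Q8 F) U, f z = z := fun z hz => by
    have h6 : ∀ i, srf (u i) z = - Q8 F (u i) • z := fun i =>
      srf_perp ((polar_comm _ _ _).trans (mem_prp.1 hz _ (hu i)))
    rw [hf]
    simp only [map_smul, h6]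
    match_scalars
    field_simp
    rw [hD]
    ring
  obtain ⟨s, hs'⟩ := exists_gl (f := f) (Function.LeftInverse.injective (g := f) fun v => by
    obtain ⟨y, hy, z, hz, rfl⟩ := dec hN v
    rw [map_add, h4 y hy, h5 z hz, map_add, map_neg, h4 y hy, h5 z hz, neg_neg])
  refine ⟨s, fun y hy => (hs' y).trans (h4 y hy), fun z hz => (hs' z).trans (h5 z hz), fun ⟨b, c, ht⟩ => ?_⟩
  refine no_swap (b := b) (c := c) (f := fun y => (-D⁻¹) • pm (pm (u 1) (pm y (u 2))) (u 0))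
    (g := fun x => pm (u 0) (pm (pm (u 2) x) (u 1))) (fun x y => ?_) ?_ fun x hx => ?_
  · rw [← ht, hs', hf, srf_pm, srf_pm, srf_pm, smul_pm]
  · rw [QuadraticMap.map_smul, norm_pm, norm_pm, norm_pm, norm_one8]
    have h6 := neg_ne_zero.2 (inv_ne_zero hD0)
    exact mul_ne_zero (mul_ne_zero h6 h6) (mul_ne_zero (mul_ne_zero (hQ 1) (mul_ne_zero one_ne_zero (hQ 2))) (hQ 0))
  · exact ((pl_injective (hQ 0)).comp ((pr_injective (hQ 1)).comp (pl_injective (hQ 2))))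
      (hx.trans (by simp : (0 : V8 F) = pl (u 0) (pr (u 1) (pl (u 2) 0))))

/-- the multiplier of a similitude preserving a non-degenerate `3`-space is a square -/
theorem mult_sq (h2 : (2 : F) ≠ 0) {U : Submodule F (V8 F)} (hN : Nd (Q8 F) U) (h3 : finrank F U = 3) {a : GL8 F}
    {m : F} (hm : ∀ x, Q8 F (a x) = m * Q8 F x) (hm0 : m ≠ 0) (ha : ∀ y ∈ U, a y ∈ U) : ∃ μ : F, μ * μ = m := by
  obtain ⟨u, hu, hQ, ho, hs⟩ := hN.exists_orth h2 h3
  choose C hC using fun i => hs _ (ha _ (hu i))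
  have hp : ∀ x y, polar (Q8 F) (a x) (a y) = m * polar (Q8 F) x y := fun x y => by
    simp only [polar, ← map_add, hm]
    ring
  have hG : ∀ i j, polar (Q8 F) (u i) (u j) = Matrix.diagonal (fun i => 2 * Q8 F (u i)) i j := fun i j => by
    by_cases hij : i = j
    · rw [hij, Matrix.diagonal_apply_eq, polar_self']
    · rw [Matrix.diagonal_apply_ne _ hij, ho i j hij]
  have hG0 : (Matrix.diagonal fun i => 2 * Q8 F (u i)).det ≠ 0 := by
    rw [Matrix.det_diagonal]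
    exact Finset.prod_ne_zero_iff.2 fun i _ => mul_ne_zero h2 (hQ i)
  generalize (Matrix.diagonal fun i => 2 * Q8 F (u i)) = G at hG hG0
  have h1 : Matrix.of C * G * (Matrix.of C).transpose = m • G := by
    ext i j
    rw [Matrix.smul_apply, ← hG, smul_eq_mul, ← hp, hC i, hC j]
    simp only [Matrix.mul_apply, Fin.sum_univ_three, Matrix.transpose_apply, Matrix.of_apply, polar_add_left,
      polar_add_right, polar_smul_left, polar_smul_right, hG, smul_eq_mul]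
    ring
  have h4 := congrArg Matrix.det h1
  rw [Matrix.det_mul, Matrix.det_mul, Matrix.det_transpose, Matrix.det_smul, Fintype.card_fin] at h4
  refine ⟨(Matrix.of C).det / m, ?_⟩
  field_simp
  exact mul_right_cancel₀ hG0 (by linear_combination h4)

theorem sign {L : Subgroup (E8 F)} (hR : Rd L) {g : GL8 F} (hc : ∀ l ∈ L, ∀ x, g (l.1 x) = l.1 (g x))
    (hg : ∀ x, g (g x) = x) {W : Submodule F (V8 F)} (hW : Iv L W) (hgW : ∀ w ∈ W, g w ∈ W)
    (hd : finrank F W = 3 ∨ finrank F W = 5) : ∃ e : F, (e = 1 ∨ e = -1) ∧ ∀ w ∈ W, g w = e • w := by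
  let φ : V8 F →ₗ[F] V8 F := g.toLinearMap - LinearMap.id
  have hφ : ∀ x, φ x = g x - x := fun _ => rfl
  have h0 : ∀ l ∈ L, ∀ x, φ (l.1 x) = l.1 (φ x) := fun l hl x => by rw [hφ, hφ, hc l hl, map_sub]
  have h1 := (φ.domRestrict W).finrank_range_add_finrank_ker
  rw [LinearMap.range_domRestrict, LinearMap.ker_domRestrict, ← Submodule.finrank_map_subtype_eq,
    Submodule.map_comap_subtype] at h1
  have h3 := (hR _ (iv_map hW h0)).2
  have h4 := (hR _ (iv_inf hW (iv_ker h0))).2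
  by_cases h5 : finrank F (W.map φ) = 0
  · refine ⟨1, Or.inl rfl, fun w hw => ?_⟩
    have h6 : φ w ∈ W.map φ := ⟨w, hw, rfl⟩
    rwa [Submodule.finrank_eq_zero.1 h5, Submodule.mem_bot, hφ, sub_eq_zero, ← one_smul F w, map_smul, one_smul] at h6
  · refine ⟨-1, Or.inr rfl, fun w hw => ?_⟩
    have h6 : g w + w ∈ W ⊓ LinearMap.ker φ :=
      ⟨add_mem (hgW w hw) hw, by rw [SetLike.mem_coe, LinearMap.mem_ker, hφ, map_add, hg, add_comm, sub_self]⟩
    rw [Submodule.finrank_eq_zero.1 (show finrank F ↥(W ⊓ LinearMap.ker φ) = 0 by omega), Submodule.mem_bot] at h6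
    rw [neg_one_smul]
    exact eq_neg_of_add_eq_zero_left h6

theorem uniq3 {L : Subgroup (E8 F)} (hR : Rd L) {U U' : Submodule F (V8 F)} (hU : Iv L U) (hU' : Iv L U')
    (h3 : finrank F U = 3) (h3' : finrank F U' = 3) : U' ≤ U := by
  have h1 := Submodule.finrank_sup_add_finrank_inf_eq U U'
  have h2 := finrank_prp nondeg8' (U ⊔ U')
  have h4 := (hR _ (iv_inf hU hU')).2
  have h5 := (hR _ (iv_prp (iv_sup hU hU'))).2
  have h6 := Submodule.finrank_mono (inf_le_right : U ⊓ U' ≤ U')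
  rw [finrank8] at h2
  exact (Submodule.eq_of_le_of_finrank_eq (inf_le_right : U ⊓ U' ≤ U') (by omega)).ge.trans inf_le_left

section cb

variable {A : Subgroup (G8 F)} {Γ : Subgroup (MulAut (G8 F))} {M₁ M₂ : Gam (Q8 F)} {N : Subgroup (G8 F)}
  {𝓣 : Set (Subgroup (G8 F))} (h : Cb A Γ M₁ M₂ N 𝓣) (hR : Rd (lf N)) {U : Submodule F (V8 F)} (hU : Iv (lf N) U)
  (h3 : finrank F U = 3)
include hR hU h3

theorem two_ne : (2 : F) ≠ 0 := fun h2 => by
  have h1 := (hR U hU).1.even (s := LinearMap.id) (fun _ hx => hx) (fun x _ => by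
    rw [LinearMap.id_apply, polar_self', h2, zero_mul]) fun _ _ hx => hx
  rw [h3] at h1
  exact absurd h1 (by decide)

include h

theorem hasC : HasC N := by
  have hN := (hR U hU).1
  obtain ⟨s, h1, h4, h5⟩ := exists_s (two_ne hR hU h3) hN h3
  have hO : s ∈ O (Q8 F) := fun v => by
    obtain ⟨y, hy, z, hz, rfl⟩ := dec hN v
    rw [map_add, h1 y hy, h4 z hz, Q_add, Q_add, QuadraticMap.map_neg, polar_neg_left, polar_comm,
      mem_prp.1 hz y hy, neg_zero]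
  refine ⟨ofO (Q8 F) ⟨s, hO⟩, fun e => h5 ?_, fun n hn => ?_⟩
  · rw [← MonoidHom.mem_ker, ker_Psi good8] at e
    obtain ⟨a, ha⟩ := e
    refine ⟨LinearEquiv.smulOfNeZero F (V8 F) a.1 a.ne_zero, 1, fun x y => ?_⟩
    have h6 : (a : F) • pm x y = s (pm x y) := congrArg (fun M : Gam (Q8 F) => M.1 (pm x y)) ha
    rw [← h6]
    exact (smul_pm _ x y).symm
  · obtain ⟨a, ha, rfl⟩ := onto h hn
    rw [Psi_mk]
    refine congrArg (QuotientGroup.mk : E8 F → G8 F) (e8_ext fun v => ?_)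
    obtain ⟨v, rfl⟩ := (ofO (Q8 F) ⟨s, hO⟩).1.surjective v
    rw [conjE_apply]
    show s (a.1 v) = a.1 (s v)
    obtain ⟨y, hy, z, hz, rfl⟩ := dec hN v
    rw [map_add, map_add, map_add, map_add, h1 y hy, h4 z hz, h1 _ (hU a ha y hy), h4 _ (iv_prp hU a ha z hz), map_neg]

theorem c0 : C0 (lf N) := fun a b c ht ⟨m, hm⟩ hc => by
  have hN := (hR U hU).1
  have h2 := two_ne hR hU h3
  have hm0 : m ≠ 0 := fun e => by
    obtain ⟨x, hx⟩ := a.surjective (one8 F)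
    have h1 := hm x
    rw [hx, norm_one8, e, zero_mul] at h1
    exact one_ne_zero h1
  have haU : ∀ y ∈ U, a y ∈ U := fun y hy =>
    uniq3 hR hU (iv_map hU (f := a.toLinearMap) hc) h3 ((LinearEquiv.finrank_map_eq a U).trans h3) ⟨y, hy, rfl⟩
  obtain ⟨μ, rfl⟩ := mult_sq h2 hN h3 hm hm0 haU
  have hμ : μ ≠ 0 := left_ne_zero_of_mul hm0
  obtain ⟨g, hg⟩ : ∃ g : GL8 F, ∀ x, g x = μ⁻¹ • a x :=
    ⟨LinearEquiv.smulOfNeZero F (V8 F) μ⁻¹ (inv_ne_zero hμ) * a, fun _ => rfl⟩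
  have hag : ∀ x, a x = μ • g x := fun x => by rw [hg, smul_inv_smul₀ hμ]
  have hO : g ∈ O (Q8 F) := fun x => by
    rw [hg, QuadraticMap.map_smul, hm, smul_eq_mul]
    field_simp
  have hgc : ∀ l ∈ lf N, ∀ x, g (l.1 x) = l.1 (g x) := fun l hl x => by rw [hg, hg, hc l hl, map_smul]
  have hgU : ∀ y ∈ U, g y ∈ U := fun y hy => hg y ▸ U.smul_mem _ (haU y hy)
  obtain ⟨d, hd⟩ := cen_sc h (g := ⟨g * g, H206.OrthBal.sq_mem_E good8 hO⟩) fun l hl x => by
    show g (g (l.1 x)) = l.1 (g (g x))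
    rw [hgc l hl, hgc l hl]
  have hd' : ∀ x, g (g x) = d • x := hd
  rcases sq_cases hd.sq with rfl | rfl
  swap
  · have h1 := hN.even (s := g.toLinearMap) hgU (fun x _ => by
      have h4 := polar_map hO x (g x)
      rw [hd', polar_smul_right, polar_comm, smul_eq_mul] at h4
      exact (mul_eq_zero.1 (show 2 * polar (Q8 F) x (g x) = 0 by linear_combination -h4)).resolve_left h2)
      fun x _ hx => g.map_eq_zero_iff.1 hx
    rw [h3] at h1
    exact absurd h1 (by decide)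
  simp only [one_smul] at hd'
  have h5 := finrank_prp nondeg8' U
  rw [finrank8] at h5
  obtain ⟨e, he, k1⟩ := sign hR hgc hd' hU hgU (Or.inl h3)
  obtain ⟨e', he', k2⟩ := sign hR hgc hd' (iv_prp hU) (fun _ => prp_inv hO hgU) (Or.inr (by omega))
  by_cases hee : e = e'
  · refine ⟨μ * e, fun v => ?_⟩
    obtain ⟨y, hy, z, hz, rfl⟩ := dec hN v
    rw [hag, map_add, k1 y hy, k2 z hz, hee, ← smul_add, smul_smul]
  obtain ⟨s, h1, h4, h6⟩ := exists_s h2 hN h3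
  have h7 : e = -e' := by
    rcases he with rfl | rfl <;> rcases he' with rfl | rfl
    exacts [(hee rfl).elim, (neg_neg 1).symm, rfl, (hee rfl).elim]
  have h8 : μ * e' ≠ 0 := mul_ne_zero hμ (by rcases he' with rfl | rfl <;> simp)
  refine (h6 ⟨LinearEquiv.smulOfNeZero F (V8 F) _ (inv_ne_zero h8) * b, c, fun x y => ?_⟩).elim
  rw [LinearEquiv.mul_apply, LinearEquiv.smulOfNeZero_apply, smul_pm, ← ht, eq_inv_smul_iff₀ h8, hag]
  obtain ⟨y, hy, z, hz, e⟩ := dec hN (pm x y)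
  rw [← e, map_add, map_add, h1 y hy, h4 z hz, k1 y hy, k2 z hz, h7]
  module

end cb

end Irr

/-- [35] -/
theorem box35 : Box35 := fun _ _ _ _ _ _ _ _ _ _ h hR _ hU h3 => ⟨Irr.c0 h hR hU h3, Irr.hasC h hR hU h3⟩

end Cfsg.Agent.N2C.D4
end

-- part: N2/Cl/D4/K
section
prune_inst 0x307404488002000018001040001c429200000200488800a000040004880c4000000021a0000512108008442030002811000000420000000a000800011900800000000080080100420008000100000000000000000000000000000000010000000000000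
set_option linter.all false
open scoped Cfsg.Agent.FastGrp

/-!
# N2 (S3519), `PΩ₈⁺(q)` with triality: [K] the commutant (helper12)
-/

set_option autoImplicit false
set_option linter.unusedSectionVars false

namespace Cfsg.Agent.N2C.D4

open QuadraticMap Module Cfsg.Agent.LieClassical.QuadForms Cfsg.Agent.LieClassical.OrthCore
  Cfsg.Agent.LieClassical.OrthTrans Cfsg.Agent.ClassicalGeometry.OrthSemi Cfsg.Agent.ClassicalGeometry.OrthAut1
  Cfsg.Agent.ClassicalGeometry.TrialityOct Cfsg.Agent.ClassicalGeometry.Triality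
  Cfsg.Agent.H989.OutOrth.Basic Cfsg.Agent.H989.OutOrth.Tri Cfsg.Agent.SB.D4

namespace Kb

/-- a finite domain which acts on a space of dimension eight -/
theorem exists_quad {F A V : Type} [Field F] [Ring A] [Algebra F A] [Finite A] [IsDomain A] [AddCommGroup V] [Module F V]
    [Module A V] [IsScalarTower F A V] (h8 : finrank F V = 8) (h1 : finrank F A ≠ 1) {t d : F}
    (h : ∀ r : F, r ^ 2 ≠ d + t * r) : ∃ j : A, j * j = d • 1 + t • j := by
  let _ := (Finite.isDomain_to_isField A).toField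
  have := Fact.mk h
  have h2 : finrank F A ∣ 2 ^ 3 := Dvd.intro _ ((finrank_mul_finrank F A V).trans h8)
  obtain ⟨i, -, hi⟩ := (Nat.dvd_prime_pow Nat.prime_two).1 h2
  obtain ⟨φ⟩ := FiniteField.nonempty_algHom_of_finrank_dvd (F := F) (K := QuadraticAlgebra F d t) (L := A) (by
    rw [QuadraticAlgebra.finrank_eq_two, hi]
    exact dvd_pow_self 2 fun e => h1 (by rw [hi, e, pow_zero]))
  exact ⟨φ QuadraticAlgebra.omega, by rw [← map_mul, QuadraticAlgebra.omega_mul_omega_eq_add, map_add, map_smul, map_smul, map_one]⟩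

theorem comm_of {G A : Type} [Group G] [CommGroup A] {H : Subgroup G} {R : G → A → Prop} (h1 : R 1 1)
    (hm : ∀ a b e e', R a e → R b e' → R (a * b) (e * e')) (hi : ∀ a e, R a e → R a⁻¹ e⁻¹) (h : ∀ b ∈ H, ∃ e, R b e) :
    ∀ b ∈ ⁅H, H⁆, R b 1 := by
  let K : Subgroup G :=
    { carrier := {b | R b 1}
      one_mem' := h1
      mul_mem' := fun k k' => one_mul (1 : A) ▸ hm _ _ _ _ k k'
      inv_mem' := fun k => (inv_one : (1 : A)⁻¹ = 1) ▸ hi _ _ k }
  refine (Subgroup.commutator_le (H₃ := K)).2 fun a ha b hb => ?_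
  obtain ⟨e, he⟩ := h a ha
  obtain ⟨e', he'⟩ := h b hb
  have h2 := hm _ _ _ _ (hm _ _ _ _ (hm _ _ _ _ he he') (hi _ _ he)) (hi _ _ he')
  rwa [mul_inv_cancel_comm, mul_inv_cancel] at h2

theorem exists_as (F : Type) [Field F] [Finite F] (h2 : (2 : F) = 0) : ∃ d : F, (∀ r : F, r ^ 2 ≠ d + 1 * r) ∧
    ∀ l : F, ∃ s : F, s * (s + 1) = d + l ∨ s * (s + 1) = l := by
  let f : F →+ F := AddMonoidHom.mk' (fun s => s * (s + 1)) fun a b => by linear_combination a * b * h2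
  have h3 : f.range.index = 2 := by
    rw [AddSubgroup.index_range, Nat.card_eq_two_iff' (0 : f.ker)]
    refine ⟨⟨1, show (1 : F) * (1 + 1) = 0 by linear_combination h2⟩, fun e => one_ne_zero (congrArg Subtype.val e),
      fun ⟨s, hs⟩ e => Subtype.ext ?_⟩
    rcases mul_eq_zero.1 (show s * (s + 1) = 0 from hs) with k | k
    · exact absurd (Subtype.ext k) e
    · show s = 1
      linear_combination k - h2
  obtain ⟨d, hd⟩ : ∃ d, d ∉ f.range := by
    by_contra e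
    push Not at e
    rw [(AddSubgroup.eq_top_iff' _).2 e, AddSubgroup.index_top] at h3
    omega
  refine ⟨d, fun r e => hd ⟨r, show r * (r + 1) = d by linear_combination e + r * h2⟩, fun l => ?_⟩
  by_cases e : l ∈ f.range
  · exact e.imp fun _ => .inr
  · exact ((AddSubgroup.add_mem_iff_of_index_two h3).2 (iff_of_false hd e)).imp fun _ => .inl

theorem exists_ns (F : Type) [Field F] [Fintype F] (h2 : (2 : F) ≠ 0) : ∃ d : F, (∀ r : F, r ^ 2 ≠ d + 0 * r) ∧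
    ∀ l : F, l ≠ 0 → ∃ s : F, s * s = l * d ∨ s * s = l⁻¹ := by
  classical
  obtain ⟨d, hd⟩ := FiniteField.exists_nonsquare (F := F) fun e => h2 (by
    have := ringChar.Nat.cast_ringChar (R := F)
    rwa [e] at this)
  refine ⟨d, fun r e => hd ⟨r, by linear_combination -e⟩, fun l hl => ?_⟩
  by_cases e : IsSquare l⁻¹
  · exact e.imp fun _ k => .inr k.symm
  have h3 : quadraticChar F (l * d) = 1 := by
    rw [map_mul, quadraticChar_neg_one_iff_not_isSquare.2 hd, quadraticChar_neg_one_iff_not_isSquare.2 fun k => e k.inv]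
    rfl
  exact ((quadraticChar_one_iff_isSquare (mul_ne_zero hl fun k => hd ⟨0, k.trans (mul_zero 0).symm⟩)).1 h3).imp fun _ k => .inl k.symm

variable {F : Type} [Field F] {L : Subgroup (E8 F)} {f : End F (V8 F)}

/-- irreducible -/
def Ir (L : Subgroup (E8 F)) : Prop := ∀ U, Iv L U → U = ⊥ ∨ U = ⊤

/-- the commutant -/
def Cm (L : Subgroup (E8 F)) : Subalgebra F (End F (V8 F)) :=
  Subalgebra.centralizer F ((fun a : E8 F => a.1.toLinearMap) '' L)

theorem mem_Cm : f ∈ Cm L ↔ ∀ a ∈ L, ∀ x, a.1 (f x) = f (a.1 x) :=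
  ⟨fun h a ha => LinearMap.congr_fun (h _ ⟨a, ha, rfl⟩), fun h _ ⟨a, ha, e⟩ => e ▸ LinearMap.ext (h a ha)⟩

theorem schur (h : Ir L) (hf : f ∈ Cm L) : f = 0 ∨ Function.Injective f :=
  (h (LinearMap.ker f) fun a ha v hv => by
    rw [LinearMap.mem_ker] at hv ⊢
    rw [← mem_Cm.1 hf a ha, hv, map_zero]).symm.imp LinearMap.ker_eq_top.1 LinearMap.ker_eq_bot.1

theorem dom (h : Ir L) : IsDomain (Cm L) :=
  have : NoZeroDivisors (Cm L) := ⟨fun {a _} e => (schur h a.2).imp Subtype.ext fun k => Subtype.ext (LinearMap.ext fun x =>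
    k ((LinearMap.congr_fun (congrArg Subtype.val e) x).trans (map_zero _).symm))⟩
  NoZeroDivisors.to_isDomain (Cm L)

theorem sc_of (h : Ir L) (hf : f ∈ Cm L) {s s' : F} (hq : ∀ x, f (f x) = (s + s') • f x - (s * s') • x) :
    ∃ e : F, f = e • 1 := by
  rcases schur h (sub_mem hf ((Cm L).smul_mem (one_mem _) s)) with k | k
  · exact ⟨s, sub_eq_zero.1 k⟩
  · refine ⟨s', LinearMap.ext fun x => sub_eq_zero.1 (k ?_)⟩
    simp only [map_zero, LinearMap.sub_apply, LinearMap.smul_apply, End.one_apply, map_sub, map_smul, hq]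
    module

theorem Ir.conj (h : Ir L) (M : Gam (Q8 F)) : Ir (L.map (conjE (Q8 F) M⁻¹).toMonoidHom) := fun U hU =>
  (h (gmap M U) fun a ha v hv => mem_gmap.2 (conjE_apply M⁻¹ a v ▸ hU _ ⟨a, ha, rfl⟩ _ hv)).imp
    (fun e => eq_bot_iff.2 fun _ hv => by_contra fun k => gam_ne M k (e.le (apply_mem_gmap.2 hv)))
    fun e => eq_top_iff.2 fun _ _ => apply_mem_gmap.1 (e.ge trivial)

/-- a similitude has partners -/
theorem exists_tr [Fintype F] (j : GL8 F) {m : F} (hm : m ≠ 0) (h : ∀ x, Q8 F (j x) = m * Q8 F x) :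
    ∃ g k : GL8 F, Tr j g k ∨ ∀ x y, j (pm x y) = pm (g y) (k x) := by
  have key : ∀ (i : V8 F →ₗ[F] V8 F) (g k : Equiv.Perm (V8 F)), (∀ x y, i (omul x y) = omul (g x) (k y)) →
      ∃ g' k' : GL8 F, (∀ x, g' x = g x) ∧ ∀ x, k' x = k x := fun i g k e => by
    have e1 : ∀ x, g x = i (omul x (k.symm (one8 F))) := fun x => by rw [e, k.apply_symm_apply, omul_one]
    have e2 : ∀ x, k x = i (omul (g.symm (one8 F)) x) := fun x => by rw [e, g.apply_symm_apply, one_omul]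
    exact ⟨{ g with
        map_add' := fun x y => by simp only [Equiv.toFun_as_coe, e1, add_omul, map_add]
        map_smul' := fun c x => by simp only [Equiv.toFun_as_coe, e1, smul_omul, map_smul, RingHom.id_apply] },
      { k with
        map_add' := fun x y => by simp only [Equiv.toFun_as_coe, e2, omul_add, map_add]
        map_smul' := fun c x => by simp only [Equiv.toFun_as_coe, e2, omul_smul, map_smul, RingHom.id_apply] },
      fun _ => rfl, fun _ => rfl⟩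
  rcases H198.TriBase.mem_S1 good8 ⟨j.toEquiv, RingEquiv.refl F, m, hm, j.map_add, j.map_smul, h⟩ with
    ⟨-, g, k, e⟩ | ⟨-, g, k, e⟩
  · obtain ⟨g', k', e1, e2⟩ := key j.toLinearMap g.1 k.1 e
    refine ⟨kap F * g' * kap F, kap F * k' * kap F, .inl fun x y => (e _ _).trans ?_⟩
    show _ = omul (oconj (oconj (g' (oconj x)))) (oconj (oconj (k' (oconj y))))
    rw [oconj_oconj, oconj_oconj, e1, e2]
  · obtain ⟨g', k', e1, e2⟩ := key (j.toLinearMap ∘ₗ (kap F).toLinearMap) g.1 k.1 e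
    refine ⟨kap F * g', kap F * k', .inr fun x y => ?_⟩
    show j (omul (oconj x) (oconj y)) = omul (oconj (oconj (g' y))) (oconj (oconj (k' x)))
    rw [oconj_oconj, oconj_oconj, e1, e2, ← oconj_omul]
    exact e y x

variable [Fintype F]

theorem zero_of (h : Ir L) {D : V8 F → F} (h1 : ∀ x y, D (x + y) = D x + D y) (h2 : ∀ (c : F) x, D (c • x) = c * c * D x)
    (h3 : ∀ a ∈ L, ∀ x, D (a.1 x) = D x) (x : V8 F) : D x = 0 := by
  let D' : V8 F →+ F := AddMonoidHom.mk' D h1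
  let U : Submodule F (V8 F) :=
    { D'.ker with smul_mem' := fun c x (k : D x = 0) => show D (c • x) = 0 by rw [h2, k, mul_zero] }
  rcases h U fun a ha v hv => (h3 a ha v).trans hv with e | e
  · have h4 := Nat.card_le_card_of_injective D' ((injective_iff_map_eq_zero D').2 fun v hv => e.le hv)
    rw [natCard_eq_pow_finrank (K := F), finrank8] at h4
    exact absurd h4 (not_le.2 (lt_self_pow₀ Finite.one_lt_card (by decide)))
  · exact e.ge trivial

theorem fin (L : Subgroup (E8 F)) : Finite (Cm L) :=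
  have : Finite (End F (V8 F)) := DFunLike.finite _
  inferInstance

theorem comm (h : Ir L) {f' : End F (V8 F)} (hf : f ∈ Cm L) (hf' : f' ∈ Cm L) (x : V8 F) : f (f' x) = f' (f x) :=
  have := dom h
  have := fin L
  LinearMap.congr_fun (congrArg Subtype.val ((Finite.isDomain_to_isField (Cm L)).mul_comm ⟨f, hf⟩ ⟨f', hf'⟩)) x

/-- the elements of the commutant are symmetric -/
theorem sym (h : Ir L) (ci : ∀ g ∈ O (Q8 F), (∀ a ∈ L, ∀ x, a.1 (g x) = g (a.1 x)) → ∀ x, g (g x) = x) (hf : f ∈ Cm L)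
    (x y : V8 F) : polar (Q8 F) (f x) y = polar (Q8 F) x (f y) := by
  have key : ∀ f ∈ Cm L, ∀ f' : End F (V8 F), (∀ x y, polar (Q8 F) (f' x) y = polar (Q8 F) x (f y)) → f' = f ∨ f' = -f := by
    intro f hf f' ad
    have h1 : f' ∈ Cm L := mem_Cm.2 fun a ha x => sub_eq_zero.1 (nondeg8' _ fun y => by
      obtain ⟨y, rfl⟩ := a.1.surjective y
      rw [polar_sub_left, polar_map (E_le_O a.2), ad, ad, ← mem_Cm.1 hf a ha, polar_map (E_le_O a.2), sub_self])
    rcases schur h hf with rfl | k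
    · exact .inl (LinearMap.ext fun x => nondeg8' _ fun y => by rw [ad, LinearMap.zero_apply, polar_zero_right])
    rcases schur h h1 with rfl | k'
    · refine .inl (LinearMap.ext fun y => (nondeg8' _ fun x => ?_).symm)
      rw [polar_comm, ← ad, LinearMap.zero_apply, polar_zero_left]
    obtain ⟨g, hg⟩ : ∃ g : GL8 F, ∀ x, g (f x) = f' x :=
      ⟨(LinearEquiv.ofInjectiveEndo f k).symm.trans (LinearEquiv.ofInjectiveEndo f' k'), fun x =>
        congrArg f' ((LinearEquiv.ofInjectiveEndo f k).symm_apply_apply x)⟩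
    have h2 := LinearMap.injective_iff_surjective.1 k
    have h3 : ∀ a ∈ L, ∀ x, a.1 (g x) = g (a.1 x) := fun a ha x => by
      obtain ⟨x, rfl⟩ := h2 x
      rw [hg, mem_Cm.1 hf a ha, hg, mem_Cm.1 h1 a ha]
    have h4 := ci g (mem_O.2 fun x => sub_eq_zero.1 (zero_of h (D := fun x => Q8 F (g x) - Q8 F x) (fun x y => ?_)
      (fun c x => by simp only [map_smul, QuadraticMap.map_smul, smul_eq_mul, mul_sub])
      (fun a ha x => by rw [← h3 a ha, mem_O.1 (E_le_O a.2), mem_O.1 (E_le_O a.2)]) x)) h3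
    · refine (schur h (sub_mem h1 hf)).imp sub_eq_zero.1 fun k => eq_neg_of_add_eq_zero_left (LinearMap.ext fun x => k ?_)
      have h5 := h4 (f (f x))
      rw [hg, ← comm h hf h1, hg] at h5
      simp only [LinearMap.add_apply, LinearMap.sub_apply, map_add, LinearMap.zero_apply, map_zero, h5, comm h hf h1]
      abel
    · obtain ⟨x, rfl⟩ := h2 x
      obtain ⟨y, rfl⟩ := h2 y
      rw [map_add, Q_add, Q_add, hg, hg, ad, comm h hf h1, polar_comm _ x, ad, polar_comm _ (f y)]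
      ring
  have nd : (Q8 F).polarBilin.Nondegenerate := ⟨nondeg8', fun x k => nondeg8' x fun y => (polar_comm _ _ _).trans (k y)⟩
  have ad := LinearMap.BilinForm.isAdjointPairLeftAdjointOfNondegenerate _ nd f
  generalize LinearMap.BilinForm.leftAdjointOfNondegenerate _ nd f = f' at ad
  suffices e : f' = f from e ▸ ad x y
  refine (key f hf f' ad).elim id fun e => ?_
  rcases key (1 + f) (add_mem (one_mem _) hf) (1 + f') (fun x y => by
    rw [LinearMap.add_apply, LinearMap.add_apply, polar_add_left, polar_add_right]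
    exact (congrArg _ (ad x y) :)) with k | k
  · exact add_left_cancel k
  · rw [e, neg_add, add_left_inj] at k
    rw [e, ← neg_one_mul f, ← k, one_mul]

/-- density -/
theorem spn (h : Ir L) (hc : ∀ f ∈ Cm L, ∃ e : F, f = e • 1) : Spn L := by
  let S : Submonoid (End F (V8 F)) :=
    { carrier := (fun a : E8 F => a.1.toLinearMap) '' L
      one_mem' := ⟨1, one_mem _, rfl⟩
      mul_mem' := fun ⟨a, ha, e⟩ ⟨b, hb, e'⟩ => ⟨a * b, mul_mem ha hb, e ▸ e' ▸ rfl⟩ }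
  let R := Algebra.adjoin F (S : Set (End F (V8 F)))
  have hT : IsScalarTower F R (V8 F) := Subalgebra.isScalarTower_mid R
  have hm : ∀ a ∈ L, a.1.toLinearMap ∈ R := fun a ha => Algebra.subset_adjoin ⟨a, ha, rfl⟩
  have : IsSimpleModule R (V8 F) := (isSimpleModule_iff _ _).2 ⟨fun U => (h ((U.restrictScalars F :))
    fun a ha v hv => U.smul_mem ⟨_, hm a ha⟩ hv).imp (Submodule.restrictScalars_eq_bot_iff _ _ _).1
      (Submodule.restrictScalars_eq_top_iff _ _ _).1⟩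
  refine eq_top_iff.2 fun φ _ => ?_
  obtain ⟨r, hr⟩ := jacobson_density (R := R) (M := V8 F)
    { toFun := φ
      map_add' := φ.map_add
      map_smul' := fun d v => by
        obtain ⟨e, he⟩ := hc ((d.restrictScalars F :)) (mem_Cm.2 fun a ha x => (d.map_smul ⟨_, hm a ha⟩ x).symm)
        have h1 : ∀ x, d x = e • x := LinearMap.congr_fun he
        change φ (d v) = d (φ v)
        rw [h1, h1, map_smul] } Finset.univ
  have h1 : r.1 ∈ Subalgebra.toSubmodule R := r.2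
  rw [Algebra.adjoin_eq_span, Submonoid.closure_eq] at h1
  exact (LinearMap.ext fun x => hr x (Finset.mem_univ x) : φ = r.1) ▸ h1

variable {A N : Subgroup (G8 F)} {Γ : Subgroup (MulAut (G8 F))} {M₁ M₂ : Gam (Q8 F)} {𝓣 : Set (Subgroup (G8 F))}

theorem scM (h : Ir (lf N)) (M : Gam (Q8 F)) (hb : ∀ b : E8 F, ((conjE (Q8 F) M b : E8 F) : G8 F) ∈ N →
    ∃ e : F, e ≠ 0 ∧ ∀ x, b.1 (f x) = e • f (b.1 x)) {s : F} (hq : ∀ x, f (f x) = (s * s) • x) : ∃ e : F, f = e • 1 := by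
  refine sc_of (h.conj M) (mem_Cm.2 fun b k x => ?_) (s := s) (s' := -s) fun x => by rw [hq]; module
  rw [lf, Subgroup.map_commutator] at k
  refine (comm_of (A := Fˣ) (R := fun b e => ∀ x, b.1 (f x) = (e : F) • f (b.1 x)) (fun x => (one_smul F _).symm)
    (fun a b e e' k k' x => ?a) (fun a e k x => a.1.injective ?b) ?c b k x).trans (one_smul F _)
  case a => rw [e8_mul, e8_mul, k', map_smul, k, smul_smul, Units.val_mul, mul_comm]
  case b =>
    rw [map_smul, k, smul_smul, Units.inv_mul, one_smul, ← e8_mul, ← e8_mul, mul_inv_cancel]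
    rfl
  · rintro _ ⟨b, k, rfl⟩
    obtain ⟨e, e1, e2⟩ := hb _ ((conjE_conjE_inv M b).symm ▸ k)
    exact ⟨Units.mk0 e e1, e2⟩

theorem scA (h : Ir (lf N)) (M : Gam (Q8 F)) (hb : ∀ b : E8 F, ((conjE (Q8 F) M b : E8 F) : G8 F) ∈ N →
    ∃ e : F, ∀ x, b.1 (f x) = f (b.1 x) + e • b.1 x) (h2 : (2 : F) = 0) {s : F}
    (hq : f * f + f = (s * (s + 1)) • 1) : ∃ e : F, f = e • 1 := by
  refine sc_of (h.conj M) (mem_Cm.2 fun b k x => ?_) (s := s) (s' := s + 1) fun x => ?_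
  · rw [lf, Subgroup.map_commutator] at k
    refine (comm_of (A := Multiplicative F) (R := fun b e => ∀ x, b.1 (f x) = f (b.1 x) + e.toAdd • b.1 x)
      (fun x => by simp only [_root_.OneMemClass.coe_one, _root_.LinearEquiv.coe_one, _root_.id_eq, _root_.toAdd_one, _root_.zero_smul, _root_.add_zero]) (fun a b e e' k k' x => ?a) (fun a e k x => a.1.injective ?b) ?c b k x).trans
        ((congrArg _ (zero_smul F _)).trans (add_zero _))
    case a => simp only [e8_mul, e8_mul, k', map_add, map_smul, k, toAdd_mul, add_smul, add_assoc]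
    case b =>
      rw [map_add, map_smul, k, toAdd_inv, neg_smul, add_neg_cancel_right, ← e8_mul, ← e8_mul, mul_inv_cancel]
      rfl
    · rintro _ ⟨b, k, rfl⟩
      exact hb _ ((conjE_conjE_inv M b).symm ▸ k)
  · have h3 : f (f x) + f x = (s * (s + 1)) • x := LinearMap.congr_fun hq x
    linear_combination (norm := module) h3 + h2 • ((s * (s + 1)) • x - (s + 1) • f x)

variable (C : Cb A Γ M₁ M₂ N 𝓣)
include C

theorem onto {n : G8 F} (hn : n ∈ N) : ∃ a ∈ lf N, (a : G8 F) = n := by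
  have h1 : N ≤ ⁅N, N⁆ := C.sup.ge.trans (sSup_le fun S hS => by
    have := (C.simple S hS).1
    have h2 := (Subgroup.Normal.eq_bot_or_eq_top (inferInstance : (commutator S).Normal)).resolve_left fun e =>
      (C.simple S hS).2 ⟨⟨fun a b => commutatorElement_eq_one_iff_mul_comm.1
        (e.le (Subgroup.commutator_mem_commutator (Subgroup.mem_top a) (Subgroup.mem_top b)))⟩⟩
    have h3 := Subgroup.map_subtype_commutator S
    rw [h2, ← MonoidHom.range_eq_map, Subgroup.range_subtype] at h3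
    exact h3.le.trans (Subgroup.commutator_mono (C.sup ▸ le_sSup hS) (C.sup ▸ le_sSup hS)))
  have h2 := h1 hn
  rwa [← Subgroup.map_comap_eq_self_of_surjective (QuotientGroup.mk'_surjective _) N, ← Subgroup.map_commutator] at h2

theorem lift (hf : f ∈ Cm (lf N)) {a : E8 F} (ha : (a : G8 F) ∈ N) (x : V8 F) : a.1 (f x) = f (a.1 x) := by
  obtain ⟨b, hb, e⟩ := onto C ha
  obtain ⟨e, -, he⟩ := mk_eq_iff.1 e
  rw [he, he, map_smul, mem_Cm.1 hf b hb]

theorem ci (hJ : BoxJE) (g : GL8 F) (hg : g ∈ O (Q8 F)) (h : ∀ a ∈ lf N, ∀ x, a.1 (g x) = g (a.1 x)) (x : V8 F) :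
    g (g x) = x := by
  have key : ∀ g : E8 F, (∀ a ∈ lf N, ∀ x, a.1 (g.1 x) = g.1 (a.1 x)) → ∃ e, Sc g e := fun g h =>
    mk_eq_one_iff.1 (C.cen _ fun n hn => by
      obtain ⟨a, ha, rfl⟩ := onto C hn
      rw [← QuotientGroup.mk_mul, ← QuotientGroup.mk_mul, e8_ext (a := a * g) (b := g * a) (h a ha)])
  obtain ⟨e, he⟩ := key ⟨g * g, H206.OrthBal.sq_mem_E good8 hg⟩ fun a ha x => (h a ha _).trans (congrArg g (h a ha x))
  rcases sq_cases he.sq with rfl | rfl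
  · exact (he x).trans (one_smul F x)
  by_cases h2 : (2 : F) = 0
  · exact (he x).trans (by rw [show (-1 : F) = 1 by linear_combination -h2, one_smul])
  obtain ⟨d, hd⟩ := key ⟨g, hJ F g h2 hg fun x => (he x).trans (neg_one_smul F x)⟩ h
  exact (hd _).trans (by rw [show g x = d • x from hd x, smul_smul, hd.sq, one_smul])

theorem tri1 {b : E8 F} (hb : ((conjE (Q8 F) M₁ b : E8 F) : G8 F) ∈ N) : ∃ a c : E8 F, T3 a b c ∧ (a : G8 F) ∈ N := by
  obtain ⟨a, c, h⟩ := exists_T3₁ b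
  obtain ⟨α, hα, e⟩ := C.e1
  exact ⟨a, c, h, α.symm_apply_apply (a : G8 F) ▸ C.inv _ (inv_mem hα) _ (e a b c h ▸ hb)⟩

theorem tri2 {c : E8 F} (hc : ((conjE (Q8 F) M₂ c : E8 F) : G8 F) ∈ N) : ∃ a b : E8 F, T3 a b c ∧ (a : G8 F) ∈ N := by
  obtain ⟨a, b, h⟩ := exists_T3₂ c
  obtain ⟨α, hα, e⟩ := C.e2
  exact ⟨a, b, h, α.symm_apply_apply (a : G8 F) ▸ C.inv _ (inv_mem hα) _ (e a b c h ▸ hc)⟩

theorem odd (m : Lm) (h : Ir (lf N)) (h2 : (2 : F) ≠ 0) (hf : f ∈ Cm (lf N)) {d : F} (h1 : ∀ r : F, r ^ 2 ≠ d + 0 * r)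
    (h3 : ∀ l : F, l ≠ 0 → ∃ s : F, s * s = l * d ∨ s * s = l⁻¹) (hq : ∀ x, f (f x) = d • x) : False := by
  have d0 : d ≠ 0 := fun e => h1 0 (by rw [e]; ring)
  have ns : ∀ e : F, f ≠ e • 1 := fun e k => h1 e (smul_left_injective F (e8_ne (F := F)) (by
    have := hq (e8 F)
    rw [k] at this
    simpa only [smul_smul, pow_two, _root_.MulZeroClass.zero_mul, _root_.add_zero, _root_.LinearMap.smul_apply, _root_.Module.End.one_apply, _root_.map_smul] using this))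
  obtain ⟨j, hj⟩ : ∃ j : GL8 F, ∀ x, j x = f x :=
    ⟨LinearEquiv.ofInjectiveEndo f ((schur h hf).resolve_left fun e => ns 0 (by rw [e, zero_smul])), fun _ => rfl⟩
  have jj : ∀ x y, (j * j) (pm x y) = pm ((d • LinearMap.id : End F (V8 F)) x) ((LinearMap.id : End F (V8 F)) y) :=
    fun x y => ((hj _).trans ((congrArg f (hj _)).trans (hq _))).trans (smul_pm d x y).symm
  obtain ⟨g, k, e | e⟩ := exists_tr j d0 fun x => mul_left_cancel₀ h2 (by
    have h4 := sym h (ci C m.je) hf x (f x)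
    rw [hq, polar_smul_right, polar_self, polar_self] at h4
    rw [hj]
    simp only [nsmul_eq_mul, smul_eq_mul, Nat.cast_ofNat] at h4
    linear_combination h4)
  · obtain ⟨l, l0, l1, l2⟩ := (e.mul e).lin jj
    have key : ∀ a b c : E8 F, T3 a b c → (a : G8 F) ∈ N →
        ∃ e : F, e ≠ 0 ∧ (∀ x, b.1 (g x) = e • g (b.1 x)) ∧ ∀ x, c.1 (k x) = e⁻¹ • k (c.1 x) := fun a b c t ha =>
      (e.mul t).unique ((LinearEquiv.ext fun x => ((congrArg a.1 (hj x)).trans (lift C hf ha x)).trans (hj _).symm :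
        a.1 * j = j * a.1) ▸ Tr.mul t e)
    obtain ⟨s, hs | hs⟩ := h3 l l0
    · obtain ⟨c, hc⟩ := scM (f := g.toLinearMap) h M₁ (fun b hb => by
        obtain ⟨a, c, t, ha⟩ := tri1 C hb
        exact (key a b c t ha).imp fun _ k => ⟨k.1, k.2.1⟩) (s := s) fun x => (l1 x).trans (by rw [hs, mul_smul]; rfl)
      obtain ⟨n, hn⟩ := (m.lie F).2.2.1 f 0 (c • k.toLinearMap) 0 (fun x y => by
        rw [← hj, e, show g x = c • x from LinearMap.congr_fun hc x, LinearMap.zero_apply, zero_pm, zero_add, smul_pm,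
          ← pm_smul]
        rfl) (.inl (zero_smul F _).symm)
      exact ns n hn
    · obtain ⟨c, hc⟩ := scM (f := k.toLinearMap) h M₂ (fun c hc => by
        obtain ⟨a, b, t, ha⟩ := tri2 C hc
        obtain ⟨e, e1, -, e2⟩ := key a b c t ha
        exact ⟨_, inv_ne_zero e1, e2⟩) (s := s) fun x => (l2 x).trans (by rw [hs]; rfl)
      obtain ⟨n, hn⟩ := (m.lie F).2.2.1 f (c • g.toLinearMap) 0 0 (fun x y => by
        rw [← hj, e, show k y = c • y from LinearMap.congr_fun hc y, LinearMap.zero_apply, pm_zero, add_zero, pm_smul,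
          ← smul_pm]
        rfl) (.inr (zero_smul F _).symm)
      exact ns n hn
  · obtain ⟨l, l0, l1, l2⟩ := (show Tr (j * j) (g * k) (k * g) from fun x y => (congrArg j (e x y)).trans (e _ _)).lin jj
    have h4 : g (k (g (e8 F))) = l • d • g (e8 F) := l1 _
    rw [show k (g (e8 F)) = l⁻¹ • e8 F from l2 _, map_smul, smul_smul] at h4
    have h5 := smul_left_injective F ((g.map_ne_zero_iff).2 (e8_ne (F := F))) h4
    exact h1 l⁻¹ (by rw [pow_two, zero_mul, add_zero]; nth_rewrite 2 [h5]; rw [inv_mul_cancel_left₀ l0])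

theorem even (m : Lm) (h : Ir (lf N)) (h2 : (2 : F) = 0) (hf : f ∈ Cm (lf N)) {d : F} (h1 : ∀ r : F, r ^ 2 ≠ d + 1 * r)
    (h3 : ∀ l : F, ∃ s : F, s * (s + 1) = d + l ∨ s * (s + 1) = l) (hq : ∀ x, f (f x) = d • x + f x) : False := by
  have ns : ∀ e : F, f ≠ e • 1 := fun e k => h1 e (smul_left_injective F (e8_ne (F := F)) (by
    have := hq (e8 F)
    rw [k] at this
    simpa only [smul_smul, pow_two, add_smul, _root_.one_mul, _root_.LinearMap.smul_apply, _root_.Module.End.one_apply, _root_.map_smul] using this))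
  have sy := sym h (ci C m.je) hf
  obtain ⟨g, k, e⟩ := (m.lie F).1 f (zero_of h (D := fun x => polar (Q8 F) (f x) x) (fun x y => by
      rw [map_add, polar_add_left, polar_add_right, polar_add_right, sy y x, polar_comm _ y (f x)]
      linear_combination polar (Q8 F) (f x) y * h2)
    (fun c x => by simp only [map_smul, polar_smul_left, polar_smul_right, smul_eq_mul, mul_assoc])
    fun a ha x => by rw [← mem_Cm.1 hf a ha, polar_map (E_le_O a.2)])
  obtain ⟨l, l1, l2⟩ := (m.lie F).2.1 (d • 1) (d • 1) 0 (g * g + g) (k * k + k)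
    (fun x y => by simp only [smul_pm, pm_zero, _root_.LinearMap.smul_apply, _root_.Module.End.one_apply, _root_.LinearMap.zero_apply, _root_.add_zero]) fun x y => by
      have h4 := hq (pm x y)
      rw [e x y, map_add, e, e] at h4
      simp only [LinearMap.smul_apply, End.one_apply, LinearMap.add_apply, End.mul_apply, add_pm, pm_add]
      linear_combination (norm := module) -h4 + h2 • (pm (g x) (k y) - pm (g x) y - pm x (k y))
  have key : ∀ a b c : E8 F, T3 a b c → (a : G8 F) ∈ N →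
      ∃ e : F, (∀ x, b.1 (g x) = g (b.1 x) + e • b.1 x) ∧ ∀ x, c.1 (k x) = k (c.1 x) + (-e) • c.1 x := fun a b c t ha => by
    obtain ⟨n, n1, n2⟩ := (m.lie F).2.1 f g k (b.1.conj g) (c.1.conj k) e fun x y => by
      obtain ⟨x, rfl⟩ := b.1.surjective x
      obtain ⟨y, rfl⟩ := c.1.surjective y
      ((conv => enter [@2, @6]; rw [← t]); simp only [← lift C hf ha]; (conv => enter [@2, @6]; rw [e]); simp only [map_add]; (conv => enter [@2, @5]; rw [t]); (conv => enter [@2, @6]; rw [t]))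
      simp only [LinearEquiv.conj_apply, _root_.LinearMap.coe_comp, _root_.LinearEquiv.coe_coe, _root_.Function.comp_apply, _root_.LinearEquiv.symm_apply_apply]
    exact ⟨n, fun x => by simpa only [LinearEquiv.conj_apply, _root_.LinearMap.coe_comp, _root_.LinearEquiv.coe_coe, _root_.Function.comp_apply, _root_.LinearEquiv.symm_apply_apply, _root_.LinearMap.add_apply, _root_.LinearMap.smul_apply, _root_.Module.End.one_apply] using LinearMap.congr_fun n1 (b.1 x),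
      fun x => by simpa only [LinearEquiv.conj_apply, sub_eq_add_neg, _root_.neg_smul, _root_.LinearMap.coe_comp, _root_.LinearEquiv.coe_coe, _root_.Function.comp_apply, _root_.LinearEquiv.symm_apply_apply, _root_.LinearMap.add_apply, _root_.LinearMap.neg_apply, _root_.LinearMap.smul_apply, _root_.Module.End.one_apply] using LinearMap.congr_fun n2 (c.1 x)⟩
  obtain ⟨s, hs | hs⟩ := h3 l
  · obtain ⟨c, hc⟩ := scA (f := g) h M₁ (fun b hb => by
      obtain ⟨a, c, t, ha⟩ := tri1 C hb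
      exact (key a b c t ha).imp fun _ k => k.1) h2 (s := s) (by rw [l1, hs, add_smul])
    exact ((m.lie F).2.2.1 f g k c e (.inl hc)).elim ns
  · obtain ⟨c, hc⟩ := scA (f := k) h M₂ (fun c hc => by
      obtain ⟨a, b, t, ha⟩ := tri2 C hc
      obtain ⟨e, -, e2⟩ := key a b c t ha
      exact ⟨_, e2⟩) h2 (s := s) (by
        rw [l2, hs, zero_sub]
        exact (neg_smul l _).symm.trans (by rw [show -l = l by linear_combination -l * h2]))
    exact ((m.lie F).2.2.1 f g k c e (.inr hc)).elim ns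

end Kb

open Kb

/-- **[K]** -/
theorem boxK : BoxK := fun m F _ _ A Γ M₁ M₂ N 𝓣 C h => by
  have := dom h
  have := Kb.fin (lf N)
  have hT : IsScalarTower F (Kb.Cm (lf N)) (V8 F) := Subalgebra.isScalarTower_mid _
  refine spn h fun f hf => by_contra fun e => ?_
  have h1 : finrank F (Kb.Cm (lf N)) ≠ 1 := fun k => by
    obtain ⟨c, hc⟩ := (finrank_eq_one_iff_of_nonzero' (1 : Kb.Cm (lf N)) (one_ne_zero : _)).1 k ⟨f, hf⟩
    exact e ⟨c, (congrArg Subtype.val hc).symm⟩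
  have q := fun {t d : F} => exists_quad (F := F) (A := Kb.Cm (lf N)) (V := V8 F) (t := t) (d := d) (finrank8 (F := F)) (by exact h1)
  by_cases h2 : (2 : F) = 0
  · obtain ⟨d, d1, d2⟩ := exists_as F h2
    obtain ⟨j, hj⟩ := q d1
    exact even C m h h2 j.2 d1 d2 fun x => by simpa only [_root_.MulMemClass.coe_mul, _root_.Module.End.mul_apply, _root_.one_smul, _root_.AddMemClass.coe_add, _root_.SetLike.val_smul, _root_.OneMemClass.coe_one, _root_.LinearMap.add_apply, _root_.LinearMap.smul_apply, _root_.Module.End.one_apply] using LinearMap.congr_fun (congrArg Subtype.val hj) x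
  · obtain ⟨d, d1, d2⟩ := exists_ns F h2
    obtain ⟨j, hj⟩ := q d1
    exact odd C m h h2 j.2 d1 d2 fun x => by simpa only [_root_.MulMemClass.coe_mul, _root_.Module.End.mul_apply, _root_.zero_smul, _root_.add_zero, _root_.SetLike.val_smul, _root_.OneMemClass.coe_one, _root_.LinearMap.smul_apply, _root_.Module.End.one_apply] using LinearMap.congr_fun (congrArg Subtype.val hj) x

end Cfsg.Agent.N2C.D4

private theorem dce_1b69199cf579 : _root_.True := by
  try have : _root_.True := by simp only [_root_.Cfsg.Agent.N2C.D4.lf.eq_1]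
  exact _root_.True.intro
end

-- part: N2/Cl/D4/LocA
section
prune_inst 0x2120120008c002000018051270201c469a000000004b8c00cc6207020e80ec6a80822e60bc301512128084c5403d0048100800000000000000000400011901a080801202b138ad08d6001f000100000000000000000000000000000000000000000000000
set_option linter.all false
open scoped Cfsg.Agent.FastGrp

/-!
# N2 (S3519), `PΩ₈⁺(q)` with triality: odd local subgroups, tori (helper61)
-/

set_option autoImplicit false
set_option linter.unusedSectionVars false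

namespace Cfsg.Agent.N2C.D4

open QuadraticMap Module Cfsg.Agent.LieClassical.QuadForms Cfsg.Agent.LieClassical.OrthCore
  Cfsg.Agent.LieClassical.OrthTrans Cfsg.Agent.ClassicalGeometry.OrthSemi Cfsg.Agent.ClassicalGeometry.OrthAut1
  Cfsg.Agent.ClassicalGeometry.TrialityOct Cfsg.Agent.ClassicalGeometry.Triality
  Cfsg.Agent.H989.OutOrth.Basic Cfsg.Agent.H989.OutOrth.Tri Cfsg.Agent.SB.D4

variable {F : Type} [Field F] [Fintype F]

namespace LocO

theorem split {W : Submodule F (V8 F)} (hN : Nd (Q8 F) W) (v : V8 F) : ∃ w ∈ W, ∃ w' ∈ prp (Q8 F) W, w + w' = v :=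
  Submodule.mem_sup.1 (hN.sup_prp nondeg8' ▸ Submodule.mem_top)

theorem ext_prp {W : Submodule F (V8 F)} (hN : Nd (Q8 F) W) {f g : GL8 F} (h1 : ∀ v ∈ W, f v = g v)
    (h2 : ∀ v ∈ prp (Q8 F) W, f v = g v) : f = g := LinearEquiv.ext fun v => by
  obtain ⟨w, hw, w', hw', rfl⟩ := split hN v
  rw [map_add, map_add, h1 w hw, h2 w' hw']

theorem ext_dec {ι : Type} {P : ι → Submodule F (V8 F)} (hD : Dec (Q8 F) P) {f g : GL8 F}
    (h : ∀ i, ∀ v ∈ P i, f v = g v) : f = g := LinearEquiv.ext fun _ =>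
  (show ⨆ i, P i ≤ LinearMap.eqLocus f.toLinearMap g.toLinearMap from iSup_le h) (hD.span ▸ Submodule.mem_top)

theorem bl_comm {Y : Subgroup (GL8 F)} {θ : Y → F} {g : GL8 F} (h : ∀ z ∈ Y, z * g = g * z) {v : V8 F} (hv : v ∈ Bl Y θ) :
    g v ∈ Bl Y θ := mem_Bl.2 fun a => by
  rw [← LinearEquiv.mul_apply, h _ a.2, ← LinearEquiv.mul_apply, h _ (inv_mem a.2), LinearEquiv.mul_apply,
    LinearEquiv.mul_apply, ← map_add, mem_Bl.1 hv a, map_smul]

theorem sq_pow {G : Type*} [Group G] {g : G} {k : ℕ} (h : g ^ (2 * k + 1) = 1) : (g * g) ^ (k + 1) = g := by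
  rw [← pow_two, ← pow_mul, show 2 * (k + 1) = 2 * k + 1 + 1 by ring, pow_succ, h, one_mul]

/-- the part of `x` on `W` -/
theorem exists_part {r : ℕ} (ho : Odd r) {x : GL8 F} (hO : x ∈ O (Q8 F)) (hx : x ^ r = 1) {W : Submodule F (V8 F)}
    (hN : Nd (Q8 F) W) (hW : ∀ v ∈ W, x v ∈ W) :
    ∃ a : E8 F, a ^ r = 1 ∧ (∀ v ∈ W, a.1 v = x v) ∧ ∀ v ∈ prp (Q8 F) W, a.1 v = v := by
  have hc : IsCompl W (prp (Q8 F) W) := ⟨disjoint_iff.2 hN.inf_prp, codisjoint_iff.2 (hN.sup_prp nondeg8')⟩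
  let f := LinearMap.ofIsCompl hc (x.toLinearMap ∘ₗ W.subtype) (prp (Q8 F) W).subtype
  have h1 : ∀ v ∈ W, f v = x v := fun v hv => LinearMap.ofIsCompl_apply_left hc ⟨v, hv⟩
  have h2 : ∀ v ∈ prp (Q8 F) W, f v = v := fun v hv => LinearMap.ofIsCompl_apply_right hc ⟨v, hv⟩
  have h3 : Function.Injective f := (injective_iff_map_eq_zero f).2 fun v hv => by
    obtain ⟨w, hw, w', hw', rfl⟩ := split hN v
    rw [map_add, h1 w hw, h2 w' hw', add_eq_zero_iff_eq_neg] at hv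
    have h4 := hN _ (hW w hw) (mem_prp.1 (hv ▸ neg_mem hw'))
    rw [x.map_eq_zero_iff.1 h4, neg_eq_zero.1 (hv.symm.trans h4), add_zero]
  obtain ⟨g, hg⟩ := exists_gl h3
  have h4 : g ∈ O (Q8 F) := mem_O.2 fun v => by
    obtain ⟨w, hw, w', hw', rfl⟩ := split hN v
    rw [hg, map_add, h1 w hw, h2 w' hw', Q_add, Q_add, mem_O.1 hO, polar_comm, polar_comm _ w, mem_prp.1 hw' w hw,
      mem_prp.1 hw' _ (hW w hw)]
  have h5 : g ^ r = 1 := ext_prp hN (fun v hv => by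
    rw [← hx]
    generalize r = n
    induction n with
    | zero => rfl
    | succ n ih => rw [pow_succ', pow_succ', LinearEquiv.mul_apply, LinearEquiv.mul_apply, ih, hg, h1 _ (pow_inv hW n v hv)])
    fun v hv => pow_fix ((hg v).trans (h2 v hv)) r
  obtain ⟨k, rfl⟩ := ho
  exact ⟨⟨g, sq_pow h5 ▸ pow_mem (H206.OrthBal.sq_mem_E good8 h4) _⟩, Subtype.ext h5, fun v hv => (hg v).trans (h1 v hv),
    fun v hv => (hg v).trans (h2 v hv)⟩

theorem kp_of_st2 {r : ℕ} (ho : Odd r) {g : E8 F} (hg : g ^ r = 1) {U : Submodule F (V8 F)} (h4 : finrank F U = 4)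
    (h : St2 g U) : Kp g U U := by
  refine h.elim id fun k v hv => ?_
  obtain ⟨n, rfl⟩ := ho
  have h1 := dim_prp U
  rw [← sq_pow hg]
  exact pow_inv (x := (g * g).1) (fun w hw => (prp_prp nondeg8' U).le (gam_prp (og g) k (by omega) (k w hw))) _ v hv

theorem comm_of_mk {r : ℕ} (ho : Odd r) {a b : E8 F} (h : (a : G8 F) * b = b * a) (hb : b ^ r = 1) : a * b = b * a := by
  have h1 : ((a * b * a⁻¹ * b⁻¹ : E8 F) : G8 F) = 1 := by
    rw [QuotientGroup.mk_mul, QuotientGroup.mk_mul, QuotientGroup.mk_mul, h]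
    simp
  have h2 := Subgroup.mem_center_iff.1 ((QuotientGroup.eq_one_iff _).1 h1)
  obtain ⟨e, he⟩ := mk_eq_one_iff.1 h1
  have h3 := odd_sc ho he (by
    have h4 : Commute (a * b * a⁻¹ * b⁻¹) b := (h2 b).symm
    have h5 := h4.mul_pow r
    rwa [inv_mul_cancel_right, conj_pow, hb, mul_one, mul_one, mul_inv_cancel, eq_comm] at h5)
  rwa [mul_inv_eq_one, mul_inv_eq_iff_eq_mul] at h3

/-- the elements of order `r` which centralise `X` -/
def om (X : Subgroup (G8 F)) (r : ℕ) : Set (G8 F) := {t | (∀ x ∈ X, x * t = t * x) ∧ t ^ r = 1}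

variable {A : Subgroup (G8 F)} {Γ : Subgroup (MulAut (G8 F))} {M₁ M₂ : Gam (Q8 F)} {X : Subgroup (G8 F)} {r : ℕ}
  (y : Cy Γ X r) (ho : Odd r)
include y

theorem cen_of {g : E8 F} (hg : ∀ z ∈ y.Y ho, z * g.1 = g.1 * z) : ∀ x ∈ X, x * g = g * x := fun x hx => by
  obtain ⟨a, rfl, ha⟩ := y.lift ho x hx
  exact congrArg (QuotientGroup.mk : E8 F → G8 F) (Subtype.ext (hg _ ha) : a * g = g * a)

theorem mem_A (h : Cx A Γ M₁ M₂) {g : E8 F} (hg : ∀ z ∈ y.Y ho, z * g.1 = g.1 * z) : (g : G8 F) ∈ A :=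
  (h.mi.conj _).1 (y.cent (cen_of y ho hg))

theorem mem_om {t : G8 F} : t ∈ om X r ↔ ∃ g : E8 F, (g : G8 F) = t ∧ g ^ r = 1 ∧ ∀ z ∈ y.Y ho, z * g.1 = g.1 * z := by
  constructor
  · rintro ⟨h1, h2⟩
    obtain ⟨a, rfl⟩ := QuotientGroup.mk_surjective t
    have h3 : ((a ^ (r + 1) : E8 F) : G8 F) = a := by rw [QuotientGroup.mk_pow, pow_succ, h2, one_mul]
    obtain ⟨e, he⟩ := mk_eq_one_iff.1 (show ((a ^ r : E8 F) : G8 F) = 1 from h2)
    refine ⟨_, h3, odd_lift ho he, ?_⟩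
    rintro _ ⟨b, rfl, hb, -⟩
    exact congrArg Subtype.val (comm_of_mk ho (h3.symm ▸ h1 _ hb) (odd_lift ho he))
  · rintro ⟨g, rfl, h1, h2⟩
    exact ⟨cen_of y ho h2, by rw [← QuotientGroup.mk_pow, h1, QuotientGroup.mk_one]⟩

theorem eq_norm_om (h : Cx A Γ M₁ M₂) : A = Subgroup.normalizer (Subgroup.closure (om X r) : Set (G8 F)) := by
  have := simple8 (F := F)
  have hi : N2.Inv Γ X := y.inv
  refine h.eq_norm (fun e => y.ne (eq_bot_iff.2 fun x hx => e.le (Subgroup.subset_closure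
    ⟨fun z hz => y.comm z hz x hx, y.pow x hx⟩))) (fun e => y.ne (eq_bot_iff.2 fun x hx => conj_inj8 ?_)) fun σ hσ x hx => ?_
  · have h1 : Subgroup.closure (om X r) ≤ Subgroup.centralizer X := (Subgroup.closure_le _).2 fun t ht => ht.1
    ext z
    simp [h1 (e.ge (Subgroup.mem_top z)) x hx]
  · have h1 : Subgroup.closure (om X r) ≤ (Subgroup.closure (om X r)).comap σ.toMonoidHom :=
      (Subgroup.closure_le _).2 fun t ht => Subgroup.subset_closure ⟨hi.centralizer σ hσ t ht.1, by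
        rw [MulEquiv.coe_toMonoidHom, ← map_pow, ht.2, map_one]⟩
    exact h1 hx

include ho

theorem part4 (h4 : orderOf (Nat.card F : ZMod r) = 4) {U : Submodule F (V8 F)} (hU : finrank F U = 4)
    (hU' : ∀ g ∈ y.Y ho, ∀ v ∈ U, g v ∈ U) : ∃ a : E8 F, a ≠ 1 ∧ a ^ r = 1 ∧ (∀ v ∈ prp (Q8 F) U, a.1 v = v) ∧
      (∀ z ∈ y.Y ho, z * a.1 = a.1 * z) ∧ ∀ g : E8 F, g ^ r = 1 → (∀ z ∈ y.Y ho, z * g.1 = g.1 * z) →
        Kp g U U ∧ ∃ j : ℕ, ∀ v ∈ U, g.1 v = (a ^ j).1 v := by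
  have hN := y.four_nd ho h4 hU hU'
  have h0 : U ≠ ⊥ := by
    rintro rfl
    simp at hU
  obtain ⟨x, hx, w, hw, hw'⟩ := y.four_nt ho h4 h0
  obtain ⟨a, k1, k2, k3⟩ := exists_part ho (y.Y_le ho hx) (y.Y_pow ho x hx) hN (hU' x hx)
  have hI := y.four_irr ho h4 hU
  refine ⟨a, fun e => hw' (by rw [← k2 w hw, e]; rfl), k1, k3, fun z hz => ext_prp hN (fun v hv => ?_) fun v hv => ?_,
    fun g hg hc => ?_⟩
  · rw [LinearEquiv.mul_apply, LinearEquiv.mul_apply, k2 v hv, k2 _ (hU' z hz v hv), comm_apply (y.Y_comm ho) hz hx]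
  · rw [LinearEquiv.mul_apply, LinearEquiv.mul_apply, k3 v hv, k3 _ (prp_inv (y.Y_le ho hz) (hU' z hz) hv)]
  have hc' : ∀ z ∈ y.Y ho, ∀ v, z (g.1 v) = g.1 (z v) := fun z hz => LinearEquiv.congr_fun (hc z hz)
  have h1 : Kp g U U := kp_of_st2 ho hg hU ((y.four_uniq ho h4 hU hU' (U := gmap (og g) U) ((finrank_gmap _ _).trans hU)
    fun z hz v hv => by
      obtain ⟨v, rfl⟩ := g.1.surjective v
      rw [hc' z hz]
      exact (apply_mem_gmap (M := og g)).2 (hU' z hz v ((apply_mem_gmap (M := og g)).1 hv))).imp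
    (fun e v hv => e.le ((apply_mem_gmap (M := og g)).2 hv)) fun e v hv => e.le ((apply_mem_gmap (M := og g)).2 hv))
  obtain ⟨i, u, hu, hu0, h2⟩ := cyc y.prime y.char (hc x hx) (y.Y_pow ho x hx) (congrArg Subtype.val hg) h0 (hU' x hx) h1
    fun v hv e => by_contra fun h0 => hw' (hI.sr (y.Y_comm ho) hU' x hx v hv h0 e w hw)
  have h3 := (hI (U ⊓ Fx (Subgroup.zpowers (x ^ i * g.1))) inf_le_left fun z hz v hv => ⟨hU' z hz v hv.1,
    mem_Fx_zpowers.2 (by
      rw [LinearEquiv.mul_apply, ← hc' z hz, comm_apply (y.Y_comm ho) (pow_mem hx i) hz]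
      exact congrArg z (mem_Fx_zpowers.1 hv.2))⟩).resolve_left fun e => hu0 (e.le ⟨hu, mem_Fx_zpowers.2 h2⟩)
  have h5 : ∀ n : ℕ, ∀ v ∈ U, (a ^ n).1 v = (x ^ n) v := fun n v hv => by
    induction n with
    | zero => rfl
    | succ n ih => rw [pow_succ', pow_succ', e8_mul, LinearEquiv.mul_apply, ih, k2 _ (pow_inv (hU' x hx) n v hv)]
  refine ⟨h1, (r - 1) * i, fun v hv => ?_⟩
  have h6 : x ^ ((r - 1) * i) * (x ^ i * g.1) = g.1 := by
    rw [← mul_assoc, ← pow_add, ← Nat.succ_mul, Nat.succ_eq_add_one, Nat.sub_add_cancel y.prime.pos, pow_mul,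
      y.Y_pow ho x hx, one_pow, one_mul]
  rw [h5 _ v hv, ← h6, LinearEquiv.mul_apply, mem_Fx_zpowers.1 (h3.ge hv).2]

/-- primes dividing `q² + 1` -/
theorem good_four (gn : BoxGN3) (h : Cx A Γ M₁ M₂) (h4 : orderOf (Nat.card F : ZMod r) = 4) : FP3.Good A := by
  obtain ⟨W, hW, hW'⟩ := y.four_ex ho h4
  have hN := y.four_nd ho h4 hW hW'
  have hP := dim_prp W
  obtain ⟨a, a1, a2, a3, a4, a5⟩ := part4 y ho h4 hW hW'
  obtain ⟨b, b1, b2, b3, b4, b5⟩ := part4 y ho h4 (U := prp (Q8 F) W) (by omega)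
    fun g hg v hv => prp_inv (y.Y_le ho hg) (hW' g hg) hv
  rw [prp_prp nondeg8'] at b3
  refine gn F A W a b r y.prime y.char h4 hW hN a1 b1 a2 b2 a3 b3 ((eq_norm_om y h).trans ?_)
  congr 2
  refine le_antisymm ((Subgroup.closure_le _).2 fun t ht => ?_) (Subgroup.closure_mono ?_)
  · obtain ⟨g, rfl, h1, h2⟩ := (mem_om y ho).1 ht
    obtain ⟨-, i, hi⟩ := a5 g h1 h2
    obtain ⟨k, j, hj⟩ := b5 g h1 h2
    have h3 : g = a ^ i * b ^ j := Subtype.ext (ext_prp hN (fun v hv => by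
      rw [hi v hv]
      exact congrArg (a ^ i).1 (pow_fix (b3 v hv) j).symm) fun v hv => by
        change _ = (a ^ i).1 ((b ^ j).1 v)
        rw [← hj v hv]
        exact (pow_fix (a3 _ (k v hv)) i).symm)
    rw [h3, QuotientGroup.mk_mul, QuotientGroup.mk_pow, QuotientGroup.mk_pow]
    exact mul_mem (pow_mem (Subgroup.subset_closure (by simp)) _) (pow_mem (Subgroup.subset_closure (by simp)) _)
  · rintro _ (rfl | rfl)
    exacts [(mem_om y ho).2 ⟨a, rfl, a2, a4⟩, (mem_om y ho).2 ⟨b, rfl, b2, b4⟩]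

variable (hk : orderOf (Nat.card F : ZMod r) ∣ 2)
include hk

theorem eig_of_sing {θ : y.Y ho → F} (h2 : finrank F (Bl (y.Y ho) θ) = 2) {e : V8 F} (he : e ∈ Bl (y.Y ho) θ)
    (h0 : Q8 F e = 0) (he0 : e ≠ 0) {g : GL8 F} (hg : g ∈ y.Y ho) : ∃ l : F, g e = l • e := by
  have h1 := Bl_rel he ⟨g, hg⟩
  by_cases ht : θ ⟨g, hg⟩ ^ 2 = 4
  · exact ⟨1, (fix_of_sq y.prime ho y.char (y.Y_pow ho g hg) ht h1).trans (one_smul F e).symm⟩
  have h3 := polar_rot (y.Y_le ho hg) h1 ht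
  rw [h0, mul_zero] at h3
  by_contra hc
  push Not at hc
  have h4 : LinearIndependent F ![e, g e] := (LinearIndependent.pair_iff' he0).2 fun t e' => hc t e'.symm
  have h5 := ((y.dec ho hk).nd nondeg8' θ).two_mul_le (U := Submodule.span F (Set.range ![e, g e]))
    (Submodule.span_le.2 (by
      rintro _ ⟨i, rfl⟩
      fin_cases i
      exacts [he, Bl_inv (y.Y_comm ho) θ hg he])) fun u hu z hz => polar_of_ts (fun w hw => by
        rw [Matrix.range_cons_cons_empty, Submodule.mem_span_pair] at hw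
        obtain ⟨s, t, rfl⟩ := hw
        rw [Q_add, QuadraticMap.map_smul, QuadraticMap.map_smul, polar_smul_left, polar_smul_right,
          mem_O.1 (y.Y_le ho hg), h3, h0]
        simp) hu hz
  rw [finrank_span_eq_card h4, Fintype.card_fin] at h5
  omega

theorem half' {e : V8 F} (he : Q8 F e = 0) (he0 : e ≠ 0) (heC : ∀ g ∈ y.Y ho, ∃ l : F, g e = l • e) :
    ∃ U : Submodule F (V8 F), (∀ u ∈ U, Q8 F u = 0) ∧
      ∀ θ, 2 * finrank F ↥(U ⊓ Bl (y.Y ho) θ) = finrank F (Bl (y.Y ho) θ) := by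
  classical
  obtain ⟨U, h1, h2, h3⟩ := y.tf1 he he0 fun x hx => (y.lift ho x hx).imp fun a ha => ⟨ha.1, heC _ ha.2⟩
  have := finite_sub (y.Y ho)
  have := Fintype.ofFinite (y.Y ho)
  have h4 := finrank_le_sum (y.Y_comm ho) (y.sym_card ho hk) (U := U) (by
    rintro _ ⟨a, rfl, ha, -⟩
    exact h3 a ha)
  have h5 := (y.dec ho hk).sum_finrank nondeg8'
  have h6 : ∀ θ ∈ Finset.univ, 2 * finrank F ↥(U ⊓ Bl (y.Y ho) θ) ≤ finrank F (Bl (y.Y ho) θ) := fun θ _ =>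
    ((y.dec ho hk).nd nondeg8' θ).two_mul_le inf_le_right fun x hx z hz => polar_of_ts h2 hx.1 hz.1
  refine ⟨U, h2, fun θ => (Finset.sum_eq_sum_iff_of_le h6).1 (le_antisymm (Finset.sum_le_sum h6) ?_) θ
    (Finset.mem_univ θ)⟩
  rw [h5, finrank8, ← Finset.mul_sum]
  omega

/-- four planes -/
theorem good_planes (lm : Lm) (h : Cx A Γ M₁ M₂) (h2 : ∀ θ, finrank F (Bl (y.Y ho) θ) ≤ 2) : FP3.Good A := by
  have := finite_sub (y.Y ho)
  have := finite8 (F := F)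
  obtain ⟨θ, hθ⟩ := y.ex_block ho hk
  have h0 : Bl (y.Y ho) θ ≠ ⊥ := fun e => hθ (e ▸ bot_le)
  obtain ⟨f, k1, k2, k3, k4⟩ := (y.dec ho hk).enum nondeg8' (d := 2) (n := 3) (fun θ hθ => by
    have := h2 θ
    have := mt Submodule.finrank_eq_zero.1 hθ
    obtain ⟨m, hm⟩ := y.bl_even ho hk θ
    omega) finrank8.symm h0
  refine lm.gi2 lm.je F A _ k1 k2 ?_ fun a => ⟨fun ha => k4 _ (prm_Bl (y.Y_conj ho)) _ (h.og_mem.2 ha), fun ha => ?_⟩
  · by_cases hA : ∀ i, Aniso (Q8 F) (Bl (y.Y ho) (f i))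
    · exact Or.inl hA
    have key : ∀ i, ¬ Aniso (Q8 F) (Bl (y.Y ho) (f i)) → ∃ e ∈ Bl (y.Y ho) (f i), Q8 F e = 0 ∧ e ≠ 0 := fun i hi => by
      simpa [Aniso] using hi
    push Not at hA
    obtain ⟨i, hi⟩ := hA
    obtain ⟨e, he, e1, e2⟩ := key i hi
    obtain ⟨U, u1, u2⟩ := half' y ho hk e1 e2 fun g hg => eig_of_sing y ho hk (k2 i) he e1 e2 hg
    have h3 : ∀ j, ¬ Aniso (Q8 F) (Bl (y.Y ho) (f j)) := fun j hj => by
      have h4 := u2 (f j)
      rw [show U ⊓ Bl (y.Y ho) (f j) = ⊥ from eq_bot_iff.2 fun v hv => hj v hv.2 (u1 v hv.1), finrank_bot, k2] at h4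
      omega
    refine Or.inr ⟨?_, h3⟩
    obtain ⟨x, t, hG⟩ := y.ex_gen ho hθ
    obtain ⟨w, hw, w1, w2⟩ := key _ (h3 (Fin.last 3))
    obtain ⟨l, hl⟩ := eig_of_sing y ho hk (k2 _) hw w1 w2 hG.mem
    have h4 : ∀ n : ℕ, (x ^ n) w = l ^ n • w := fun n => by
      induction n with
      | zero => simp
      | succ n ih => rw [pow_succ', LinearEquiv.mul_apply, ih, map_smul, hl, smul_smul, pow_succ]
    have h5 : l ^ r = 1 := smul_left_injective F w2 (by
      have h6 := h4 r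
      rw [y.Y_pow ho x hG.mem] at h6
      exact h6.symm.trans (one_smul F w).symm)
    have : Fact r.Prime := ⟨y.prime⟩
    have h6 : r ∣ Fintype.card F - 1 := orderOf_eq_prime h5 (fun e => w2 (hG.fpf w (k3 ▸ hw) (by rw [hl, e, one_smul]))) ▸
      orderOf_dvd_of_pow_eq_one (FiniteField.pow_card_sub_one_eq_one l (by rintro rfl; simp [y.prime.ne_zero] at h5))
    have h7 : 1 < Fintype.card F := Fintype.one_lt_card
    have h8 := Nat.le_of_dvd (by omega) h6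
    have h9 := y.prime.two_le
    obtain ⟨m, hm⟩ := ho
    rw [Nat.card_eq_fintype_card]
    omega
  · rw [eq_norm_om y h, ← inv_mem_iff]
    refine Subgroup.mem_normalizer_fintype fun t ht => ?_
    have h1 : Subgroup.closure (om X r) ≤ (Subgroup.closure (om X r)).comap (MulAut.conj (a : G8 F)⁻¹).toMonoidHom := by
      refine (Subgroup.closure_le _).2 fun t ht => Subgroup.subset_closure ?_
      obtain ⟨g, rfl, g1, g2⟩ := (mem_om y ho).1 ht
      have g3 : (a⁻¹ * g * a⁻¹⁻¹) ^ r = 1 := by rw [conj_pow, g1, mul_one, mul_inv_cancel]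
      refine (mem_om y ho).2 ⟨a⁻¹ * g * a⁻¹⁻¹, rfl, g3, fun z hz => ext_dec k1 fun i =>
        (lm.p2 F _ (k2 i) (k1.nd nondeg8' i)).1 z _ (y.Y_le ho hz) (E_le_O (a⁻¹ * g * a⁻¹⁻¹).2)
          (ho.of_dvd_nat (orderOf_dvd_of_pow_eq_one (y.Y_pow ho z hz)))
          (ho.of_dvd_nat (orderOf_dvd_of_pow_eq_one (congrArg Subtype.val g3)))
          (fun v hv => Bl_inv (y.Y_comm ho) _ hz hv) fun v hv => ?_⟩
      obtain ⟨j, hj⟩ := ha i
      obtain ⟨w, hw, e⟩ := gam_pre (og a) hj ((k2 j).trans (k2 i).symm).le (bl_comm g2 (hj v hv))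
      rw [inv_inv, e8_mul, e8_mul, ← e]
      exact (a.1.symm_apply_apply w).symm ▸ hw
    exact h1 ht

end LocO

end Cfsg.Agent.N2C.D4

private theorem dce_d97a54196b99 : _root_.True := by
  try have : _root_.True := by simp only [_root_.Cfsg.Agent.SB.D4.Aniso.eq_1]
  exact _root_.True.intro
end

-- part: N2/Cl/D4/LocO
section
prune_inst 0x2130320428e202000000051270201c669600000000088c006c6207420e81ec6a80822860be10150212808c85403c0008110800100220000000000400011d018000835202b318ad0cf6001e800100000000000000000000000000000000000000000000000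
set_option linter.all false
open scoped Cfsg.Agent.FastGrp

/-!
# N2 (S3519), `PΩ₈⁺(q)` with triality: odd local subgroups (helper61)
-/

set_option autoImplicit false
set_option linter.unusedSectionVars false

namespace Cfsg.Agent.N2C.D4

open QuadraticMap Module Cfsg.Agent.LieClassical.QuadForms Cfsg.Agent.LieClassical.OrthCore
  Cfsg.Agent.LieClassical.OrthTrans Cfsg.Agent.ClassicalGeometry.OrthSemi Cfsg.Agent.ClassicalGeometry.OrthAut1
  Cfsg.Agent.ClassicalGeometry.TrialityOct Cfsg.Agent.ClassicalGeometry.Triality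
  Cfsg.Agent.H989.OutOrth.Basic Cfsg.Agent.H989.OutOrth.Tri Cfsg.Agent.SB.D4

variable {F : Type} [Field F] [Fintype F]

namespace LocO

theorem qd_of_conj {M : Gam (Q8 F)} {b : E8 F} (h : Qd (conjE (Q8 F) M b)) : Qd b := by
  obtain ⟨t, d, h⟩ := h
  obtain ⟨σ, c, hM⟩ := M.2
  refine ⟨σ.symm t, σ.symm d, fun x => M.1.injective ?_⟩
  rw [hM.sub, hM.smul, hM.smul, σ.apply_symm_apply, σ.apply_symm_apply, ← conjE_apply, ← conjE_apply, h]

/-- an element which is a scalar on two different solids does not swap a decomposition `4 + 4` -/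
theorem kp_of_sc {b : E8 F} {C K K' : Submodule F (V8 F)} (h4 : finrank F C = 4) (hN : Nd (Q8 F) C) (h : St2 b C)
    (hK : finrank F K = 4) (hne : ¬ K' ≤ K) {l : F} (h1 : ∀ v ∈ K, b.1 v = l • v) (h2 : ∀ v ∈ K', b.1 v = l • v) :
    Kp b C C := by
  refine h.resolve_right fun k => hne ?_
  have h3 : K ⊔ K' ≤ Eg b l := sup_le (fun v hv => mem_Eg.2 (h1 v hv)) fun v hv => mem_Eg.2 (h2 v hv)
  have h5 : (K ⊔ K') ⊓ C = ⊥ := eq_bot_iff.2 fun v hv => b.1.map_eq_zero_iff.1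
    (hN _ (mem_Eg.1 (h3 hv.1) ▸ C.smul_mem l hv.2) (mem_prp.1 (k v hv.2)))
  have h6 := Submodule.finrank_sup_add_finrank_inf_eq (K ⊔ K') C
  have h7 := ((K ⊔ K') ⊔ C).finrank_le
  rw [h5, finrank_bot] at h6
  rw [finrank8] at h7
  exact le_sup_right.trans (Submodule.eq_of_le_of_finrank_le le_sup_left (by omega)).ge

theorem finrank_pl {y : V8 F} (hy : Q8 F y = 0) (hy0 : y ≠ 0) : finrank F (LinearMap.range (pl y)) = 4 := by
  rw [range_pl]
  exact ClassicalGeometry.TrialitySpaces.finrank_leftSp (by rwa [norm_oconj])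
    (ClassicalGeometry.TrialitySpaces.oconj_ne_zero hy0)

/-- the partners of a long root element do not swap a decomposition `4 + 4` -/
theorem kp_sg {e e' : V8 F} (he : Q8 F e = 0) (he' : Q8 F e' = 0) (h₁ : polar (Q8 F) e e' = 0) (h0 : e ≠ 0)
    (hi : ∀ l : F, e' ≠ l • e) {b c : E8 F} (ht : T3 ⟨siegel (Q8 F) e e' he h₁, siegel_mem_E he h₁⟩ b c)
    {C D : Submodule F (V8 F)} (hC : finrank F C = 4) (hD : finrank F D = 4) (nC : Nd (Q8 F) C) (nD : Nd (Q8 F) D)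
    (hb : St2 b C) (hc : St2 c D) : Kp b C C ∧ Kp c D D := by
  obtain ⟨ε, -, k1, k2⟩ := Tr.lin ht (f := LinearMap.id + pr e' ∘ₗ pl e) (g := LinearMap.id - pl e ∘ₗ pr e')
    (fun x y => by
      simp only [LinearMap.add_apply, LinearMap.sub_apply, LinearMap.id_apply, LinearMap.comp_apply, pl_apply, pr_apply]
      exact siegel_pm he he' h₁ x y)
  have h0' : e' ≠ 0 := fun k => hi 0 (by rw [k, zero_smul])
  refine ⟨kp_of_sc hC nC hb (finrank_pr he h0) (K' := LinearMap.range (pr e')) (fun k => ?_) (l := ε) ?_ ?_,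
    kp_of_sc hD nD hc (finrank_pl he h0) (K' := LinearMap.range (pl e')) (fun k => ?_) (l := ε⁻¹) ?_ ?_⟩
  · obtain ⟨l, hl⟩ := pr_line he h0 he' h0' fun t => k ⟨t, rfl⟩
    exact hi l hl
  · rintro _ ⟨t, rfl⟩
    rw [k1]
    change ε • (pm t e + pm (pm e (pm t e)) e') = ε • pm t e
    rw [pm_pm_right, he, zero_smul, zero_pm, add_zero]
  · rintro _ ⟨t, rfl⟩
    rw [k1]
    change ε • (pm t e' + pm (pm e (pm t e')) e') = ε • pm t e'
    rw [pm_RL h₁, pm_pm_right, he', zero_smul, zero_pm, neg_zero, add_zero]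
  · obtain ⟨l, hl⟩ := pl_line he h0 he' h0' fun t => k ⟨t, rfl⟩
    exact hi l hl
  · rintro _ ⟨t, rfl⟩
    rw [k2]
    change ε⁻¹ • (pm e t - pm e (pm (pm e t) e')) = ε⁻¹ • pm e t
    rw [pm_LR ((polar_comm _ _ _).trans h₁), pm_pm_left, he, zero_smul, pm_zero, neg_zero, sub_zero]
  · rintro _ ⟨t, rfl⟩
    rw [k2]
    change ε⁻¹ • (pm e' t - pm e (pm (pm e' t) e')) = ε⁻¹ • pm e' t
    rw [pm_pm_left, he', zero_smul, pm_zero, sub_zero]

theorem span_four {e e' f f' : V8 F} (he : Q8 F e = 0) (he' : Q8 F e' = 0) (hf : Q8 F f = 0) (hf' : Q8 F f' = 0)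
    (h₁ : polar (Q8 F) e e' = 0) (h₂ : polar (Q8 F) f f' = 0)
    (hd : polar (Q8 F) e f * polar (Q8 F) e' f' - polar (Q8 F) e f' * polar (Q8 F) e' f ≠ 0) :
    finrank F (Submodule.span F ({e, e', f, f'} : Set (V8 F))) = 4 := by
  have h1 : LinearIndependent F ![e, e', f, f'] := Fintype.linearIndependent_iff.2 fun g hg => by
    rw [Fin.sum_univ_four] at hg
    change g 0 • e + g 1 • e' + g 2 • f + g 3 • f' = 0 at hg
    have k : ∀ w, g 0 * polar (Q8 F) e w + g 1 * polar (Q8 F) e' w + g 2 * polar (Q8 F) f w + g 3 * polar (Q8 F) f' w = 0 :=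
      fun w => by
        have k := congrArg (fun v => polar (Q8 F) v w) hg
        simpa only [polar_add_left, polar_smul_left, smul_eq_mul, polar_zero_left] using k
    have k1 := k e
    have k2 := k e'
    have k3 := k f
    have k4 := k f'
    rw [polar_self_of_sing he, polar_comm _ e' e, h₁, polar_comm _ f, polar_comm _ f'] at k1
    rw [polar_self_of_sing he', h₁, polar_comm _ f, polar_comm _ f'] at k2
    rw [polar_self_of_sing hf, polar_comm _ f' f, h₂] at k3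
    rw [polar_self_of_sing hf', h₂] at k4
    intro i
    fin_cases i <;> refine mul_right_cancel₀ hd ?_
    · show g 0 * _ = _
      linear_combination polar (Q8 F) e' f' * k3 - polar (Q8 F) e' f * k4
    · show g 1 * _ = _
      linear_combination polar (Q8 F) e f * k4 - polar (Q8 F) e f' * k3
    · show g 2 * _ = _
      linear_combination polar (Q8 F) e' f' * k1 - polar (Q8 F) e f' * k2
    · show g 3 * _ = _
      linear_combination polar (Q8 F) e f * k2 - polar (Q8 F) e' f * k1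
  have h2 := finrank_span_eq_card h1
  rwa [show Set.range ![e, e', f, f'] = {e, e', f, f'} by
    simp only [Matrix.range_cons, Matrix.range_empty, Set.union_empty, Set.singleton_union]] at h2

variable {A : Subgroup (G8 F)} {Γ : Subgroup (MulAut (G8 F))} {M₁ M₂ : Gam (Q8 F)} {X : Subgroup (G8 F)} {r : ℕ}
  (y : Cy Γ X r) (ho : Odd r) (h : Cx A Γ M₁ M₂)
include y ho h

theorem fx_mul {u w : V8 F} (hu : u ∈ gmap M₁⁻¹ (Fx (y.Y ho))) (hw : w ∈ gmap M₂⁻¹ (Fx (y.Y ho))) : pm u w ∈ Fx (y.Y ho) := by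
  obtain ⟨α, hα, h1⟩ := h.e1
  obtain ⟨β, hβ, h2⟩ := h.e2
  rw [mem_gmap, inv_inv] at hu hw
  refine mem_Fx.2 ?_
  rintro _ ⟨a, rfl, ha, ha'⟩
  obtain ⟨b, c, ht, hb, hc⟩ := exists_T3_odd ho ha'
  rw [ht, (y.ty1_fx ho hα h1).1 hu a b c ht ⟨a, rfl, ha, ha'⟩ hb, (y.ty2_fx ho hβ h2).1 hw a b c ht ⟨a, rfl, ha, ha'⟩ hc]

theorem fx_le : finrank F (Fx (y.Y ho)) ≤ 4 := by
  obtain ⟨α, hα, h1⟩ := h.e1
  obtain ⟨β, hβ, h2⟩ := h.e2
  have k1 := dim_prp (Fx (y.Y ho))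
  have k2 := dim_prp (gmap M₂⁻¹ (Fx (y.Y ho)))
  have k3 := Submodule.finrank_lt (y.Fx_ne_top ho)
  rw [finrank_gmap] at k2
  rw [finrank8] at k3
  obtain ⟨w, hw, hw0⟩ := ((nd_gmap M₂⁻¹ (y.nd_FxY ho)).nd_prp nondeg8').exists_nonsing fun e => by
    rw [e, finrank_bot] at k2
    omega
  have k4 : ∀ u ∈ gmap M₁⁻¹ (Fx (y.Y ho)), pr w u ∈ prp (Q8 F) (Fx (y.Y ho)) := fun u hu => mem_prp.2 fun z hz => by
    rw [pr_apply, polar_comm, ← polar_pm, polar_comm]
    refine mem_prp.1 hw _ ?_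
    rw [mem_gmap, inv_inv] at hu ⊢
    refine (y.ty2_fx ho hβ h2).2 fun a b c ht ha hc => ?_
    obtain ⟨d, d', j1, j2, j3⟩ := (ht.pow r).sc (e := 1) (((y.coe_mem_Y ho).1 ha).2 ▸ Sc.one)
    rw [j2.unique (e' := 1) (hc ▸ Sc.one), mul_one] at j3
    rw [ht.rot.rot, mem_Fx.1 hz _ ha, (y.ty1_fx ho hα h1).1 hu a b c ht ha (Sc.eq_one (j3 ▸ j1))]
  have k5 := LinearMap.finrank_le_finrank_of_injective (f := (pr w).restrict k4) fun _ _ e =>
    Subtype.ext (pr_injective hw0 (congrArg Subtype.val e))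
  rw [finrank_gmap] at k5
  omega

theorem good_fx (lm : Lm) (h4 : finrank F (Fx (y.Y ho)) = 4) : FP3.Good A :=
  h.good_44 lm.g44 lm.t44 h4 (y.nd_FxY ho) (fun _ hM => Or.inl fun _ => y.L_fx ho hM) (Or.inl rfl) (Or.inl rfl)
    fun _ hu _ hw => fx_mul y ho h hu hw

theorem not_eight (lq : BoxLQ) {θ : y.Y ho → F} (h8 : finrank F (Bl (y.Y ho) θ) = 8) : False := by
  have hT : Bl (y.Y ho) θ = ⊤ := Submodule.eq_top_of_finrank_eq (h8.trans finrank8.symm)
  have key : ∀ a : E8 F, (a : G8 F) ∈ X → a ^ r = 1 → Qd a := fun a ha ha' =>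
    ⟨θ ⟨a.1, a, rfl, ha, ha'⟩, 1, fun x => by
      rw [one_smul]
      exact Bl_rel (θ := θ) (hT ▸ Submodule.mem_top) ⟨a.1, a, rfl, ha, ha'⟩⟩
  obtain ⟨_, ⟨a, rfl, ha, ha'⟩, ha1⟩ := y.Y_ne ho
  obtain ⟨b, c, ht, hb, hc⟩ := exists_T3_odd ho ha'
  exact ha1 (congrArg Subtype.val (lq F a b c r y.prime ho y.char ht ha' hb hc (key a ha ha')
    (qd_of_conj (key _ ((h.sym1 y.inv ht).1 ha) (by rw [← map_pow, hb, map_one])))
    (qd_of_conj (key _ ((h.sym2 y.inv ht).1 ha) (by rw [← map_pow, hc, map_one])))))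

variable (hk : orderOf (Nat.card F : ZMod r) ∣ 2)
include hk

theorem good_six (lm : Lm) {θ : y.Y ho → F} (hθ : ¬ Bl (y.Y ho) θ ≤ Fx (y.Y ho)) (h6 : finrank F (Bl (y.Y ho) θ) = 6) :
    FP3.Good A := by
  have hD := y.dec ho hk
  have hN := hD.nd nondeg8' θ
  obtain ⟨x, t, hG⟩ := y.ex_gen ho hθ
  have hP := dim_prp (Bl (y.Y ho) θ)
  obtain ⟨s, s1, s2, s3⟩ := lm.ex6 F _ x t h6 hN (y.Y_le ho hG.mem) hG.inv hG.rel hG.ne
  refine h.good_12 (P := prp (Q8 F) (Bl (y.Y ho) θ)) (by omega) (fun M hM v hv => gam_prp M ?_ le_rfl hv)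
    (mem_A y ho h fun z hz => ext_prp hN (fun v hv => ?_) fun v hv => ?_) s1
  · obtain ⟨θ', h1⟩ := prm_Bl (y.Y_conj ho) M hM θ
    by_cases h2 : θ = θ'
    · exact h2 ▸ h1
    · have h3 := finrank_le_of_maps M h1
      have h4 := hD.add_le nondeg8' h2
      rw [finrank8] at h4
      omega
  · obtain ⟨j, hj⟩ := hG.pow z hz
    have h1 : Kp s (Bl (y.Y ho) θ) (Bl (y.Y ho) θ) :=
      prp_prp nondeg8' (Bl (y.Y ho) θ) ▸ Kp.prp fun v hv => (s2 v hv).symm ▸ hv
    rw [LinearEquiv.mul_apply, LinearEquiv.mul_apply, hj v hv, hj _ (h1 v hv)]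
    clear hj
    induction j with
    | zero => rfl
    | succ j ih => rw [pow_succ', LinearEquiv.mul_apply, LinearEquiv.mul_apply, ih, s3 _ (pow_inv hG.inv j v hv)]
  · rw [LinearEquiv.mul_apply, LinearEquiv.mul_apply, s2 v hv,
      s2 _ (prp_inv (y.Y_le ho hz) (fun w hw => Bl_inv (y.Y_comm ho) θ hz hw) hv)]

theorem good_blk4 (lm : Lm) {θ : y.Y ho → F} (hθ : ¬ Bl (y.Y ho) θ ≤ Fx (y.Y ho)) (h4 : finrank F (Bl (y.Y ho) θ) = 4) :
    FP3.Good A := by
  have hD := y.dec ho hk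
  have hN := hD.nd nondeg8' θ
  obtain ⟨x, t, hG⟩ := y.ex_gen ho hθ
  have hO := y.Y_le ho hG.mem
  have hP := dim_prp (Bl (y.Y ho) θ)
  have hC : finrank F (prp (Q8 F) (Bl (y.Y ho) θ)) = 4 := by omega
  have hN' := hN.nd_prp nondeg8'
  have hU : LL Γ ≤ stD _ hC := fun M hM => by
    obtain ⟨θ', h1⟩ := prm_Bl (y.Y_conj ho) M hM θ
    by_cases h2 : θ' = θ
    · exact Or.inl fun v hv => gam_prp M (h2 ▸ h1) le_rfl hv
    · exact Or.inr fun v hv => gam_prp M (fun w hw => hD.le_prp h2 (h1 w hw)) (by omega) hv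
  obtain ⟨e, he, f, hf, h1, h2, h3, h5, h6⟩ := boxU2 F (V8 F) (Q8 F) _ x t h4.ge hN hO hG.inv hG.rel hG.ne
  have d2 := (finrank_gmap M₁⁻¹ _).trans hC
  have d3 := (finrank_gmap M₂⁻¹ _).trans hC
  have key : ∀ e ∈ Bl (y.Y ho) θ, ∀ (h1 : Q8 F e = 0) (h3 : polar (Q8 F) e (x e) = 0), e ≠ 0 → (∀ l : F, x e ≠ l • e) →
      ∃ b c, T3 ⟨siegel (Q8 F) e (x e) h1 h3, siegel_mem_E h1 h3⟩ b c ∧ Kp b _ _ ∧ Kp c _ _ := fun e he h1 h3 h0 hi => by
    have h7 := (mem_O.1 hO e).trans h1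
    have h8 := y.sg_mem h1 h7 (fun z hz => (y.lift ho z hz).imp fun a ha => ⟨ha.1, by
      obtain ⟨j, hj⟩ := hG.pow _ ha.2
      rw [hj e he, hj _ (hG.inv e he), wd_pow (hG.rel e he)]⟩) 1 (by rwa [one_smul])
    simp only [one_smul] at h8
    obtain ⟨b, c, ht⟩ := exists_T3 (⟨siegel (Q8 F) e (x e) h1 h3, siegel_mem_E h1 h3⟩ : E8 F)
    obtain ⟨-, k1, k2⟩ := (h.core_D hC hN' hU ht).1 ((h.mi.conj _).1 (y.cent h8))
    exact ⟨b, c, ht, kp_sg h1 h7 h3 h0 hi ht d2 d3 (nd_gmap _ hN') (nd_gmap _ hN') k1 k2⟩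
  obtain ⟨b, c, t1, b1, c1⟩ := key e he h1 h3 (fun k => h6 (by simp [k])) fun l k => h6 (by
    rw [k, polar_smul_left, polar_smul_left, smul_eq_mul, smul_eq_mul]
    ring)
  obtain ⟨b', c', t2, b2, c2⟩ := key f hf h2 h5 (fun k => h6 (by simp [k])) fun l k => h6 (by
    rw [k, polar_smul_right, polar_smul_right, smul_eq_mul, smul_eq_mul]
    ring)
  have h7 := (mem_O.1 hO e).trans h1
  have h8 := (mem_O.1 hO f).trans h2
  obtain ⟨D₂, D₃, k1, k2, k3⟩ := lm.sg F e (x e) f (x f) h1 h2 h3 h5 b c b' c' _ _ h7 h8 h6 t1 t2 d2 d3 (nd_gmap _ hN')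
    (nd_gmap _ hN') b1 b2 c1 c2
  rw [Submodule.eq_of_le_of_finrank_eq (Submodule.span_le.2 (by
    rintro _ (rfl | rfl | rfl | rfl)
    exacts [he, hG.inv _ he, hf, hG.inv _ hf])) ((span_four h1 h7 h2 h8 h3 h5 h6).trans h4.symm)] at k3
  exact h.good_44 lm.g44 lm.t44 hC hN' hU k1 k2 k3

theorem good_two (lm : Lm) : FP3.Good A := by
  by_cases h2 : ∀ θ, finrank F (Bl (y.Y ho) θ) ≤ 2
  · exact good_planes y ho hk lm h h2
  push Not at h2
  obtain ⟨θ, h2⟩ := h2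
  obtain ⟨m, hm⟩ := y.bl_even ho hk θ
  have h3 := (Bl (y.Y ho) θ).finrank_le
  have h5 := fx_le y ho h
  rw [finrank8] at h3
  by_cases hθ : Bl (y.Y ho) θ ≤ Fx (y.Y ho)
  · have h6 := Submodule.finrank_mono hθ
    exact good_fx y ho h lm (by omega)
  obtain h4 | h4 | h4 : finrank F (Bl (y.Y ho) θ) = 4 ∨ finrank F (Bl (y.Y ho) θ) = 6 ∨
    finrank F (Bl (y.Y ho) θ) = 8 := by omega
  exacts [good_blk4 y ho h hk lm hθ h4, good_six y ho h hk lm hθ h4, (not_eight y ho h lm.lq h4).elim]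

end LocO

/-- the local case for odd primes -/
theorem locO (lm : Lm) {A : Subgroup (G8 F)} {Γ : Subgroup (MulAut (G8 F))} {M₁ M₂ : Gam (Q8 F)} {X : Subgroup (G8 F)}
    {r : ℕ} (h : Cx A Γ M₁ M₂) (y : Cy Γ X r) (ho : Odd r) : FP3.Good A := by
  by_cases hk : orderOf (Nat.card F : ZMod r) ∣ 2
  · exact LocO.good_two y ho h hk lm
  rcases y.order_cases with h1 | h1
  · refine LocO.good_four y ho lm.gn3 h ?_
    have h2 := Nat.le_of_dvd (by norm_num) h1
    generalize orderOf (Nat.card F : ZMod r) = k at *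
    interval_cases k <;> omega
  · refine (y.three ho ?_).elim
    have h2 := Nat.le_of_dvd (by norm_num) h1
    generalize orderOf (Nat.card F : ZMod r) = k at *
    interval_cases k <;> omega

end Cfsg.Agent.N2C.D4
end

-- part: N2/Cl/D4/Cy2
section
prune_inst 0x130360408e202000018051272201c42da000092000b8c00e5620f420e802c6b00822e61b8700712929008c5403d0068110801104000000000000400411d018000810000b1080008e00016000900000000000000000000000000000000010000000000000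
set_option linter.all false
open scoped Cfsg.Agent.FastGrp

/-!
# N2 (S3519), `PΩ₈⁺(q)` with triality: minimal invariant elementary abelian `2`-subgroups (helper61)

The lemmas of `SB/D4` (helper30, helper61) for a group of automorphisms which need not be solvable.
-/

set_option autoImplicit false
set_option linter.unusedSectionVars false

namespace Cfsg.Agent.N2C.D4

open QuadraticMap Module Cfsg.Agent.LieClassical.QuadForms Cfsg.Agent.LieClassical.OrthCore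
  Cfsg.Agent.LieClassical.OrthTrans Cfsg.Agent.ClassicalGeometry.OrthSemi Cfsg.Agent.ClassicalGeometry.OrthAut1
  Cfsg.Agent.ClassicalGeometry.TrialityOct Cfsg.Agent.ClassicalGeometry.Triality
  Cfsg.Agent.H989.OutOrth.Basic Cfsg.Agent.H989.OutOrth.Tri Cfsg.Agent.H786.FC Cfsg.Agent.SB.D4

variable {F : Type} [Field F] [Fintype F]

namespace Cy

variable {S : Subgroup (MulAut (G8 F))} {X : Subgroup (G8 F)} (h : Cy S X 2)
include h

theorem two_ne : (2 : F) ≠ 0 := by simpa using h.char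

theorem sq_sc {a : E8 F} (ha : (a : G8 F) ∈ X) : ∃ e, Sc (a * a) e :=
  mk_eq_one_iff.1 (by rw [QuotientGroup.mk_mul, ← pow_two]; exact h.pow _ ha)

theorem pc {a b : E8 F} (ha : (a : G8 F) ∈ X) (hb : (b : G8 F) ∈ X) : Pc a b :=
  mk_eq_one_iff.1 (by
    simp only [QuotientGroup.mk_mul, QuotientGroup.mk_inv, QuotientGroup.mk_mul, QuotientGroup.mk_mul, h.comm _ ha _ hb,
      mul_inv_cancel])

theorem zt_iff {a b c : E8 F} (ht : T3 a b c) : Zt S (a : G8 F) ↔ a * a = 1 ∧ b * b = 1 ∧ c * c = 1 := by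
  constructor
  · intro hz
    obtain ⟨α, hα, M, hM⟩ := h.t1
    have h1 := sq_mk.1 (hz 1 (one_mem _))
    have h2 := hz α hα
    rw [hM a b c ht, sq_mk, conjE_sq] at h2
    exact ⟨h1, h2, ht.sq_third h1 h2⟩
  · rintro ⟨h1, h2, h3⟩ s -
    obtain ⟨M, rfl | hM | hM⟩ := cosets s
    · rwa [Psi_mk, sq_mk, conjE_sq]
    · rwa [hM a b c ht, sq_mk, conjE_sq]
    · rwa [hM a b c ht, sq_mk, conjE_sq]

theorem types {a b c : E8 F} (ht : T3 a b c) (ha : (a : G8 F) ∈ X) (hz : ¬ Zt S (a : G8 F)) :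
    (a * a = 1 ∧ Ng b ∧ Ng c) ∨ (Ng a ∧ b * b = 1 ∧ Ng c) ∨ (Ng a ∧ Ng b ∧ c * c = 1) :=
  (ht.types (h.sq_sc ha)).resolve_left fun h1 => hz ((h.zt_iff ht).2 h1)

theorem cm_of_inv {p : G8 F → Prop} (hp : ∀ s ∈ S, ∀ x, p x → p (s x)) {z : G8 F} (hz : z ∈ X) (hz1 : z ≠ 1)
    (h0 : ∀ x ∈ X, p x → ∀ s ∈ S, s z ∈ Cm (s x)) : ∀ y ∈ X, ∀ x ∈ X, p x → ∀ s ∈ S, s y ∈ Cm (s x) := by
  let Y : Subgroup (G8 F) := X ⊓ ⨅ x ∈ X, ⨅ _ : p x, ⨅ s ∈ S, (Cm (s x)).comap s.toMonoidHom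
  have hY : ∀ y, y ∈ Y ↔ y ∈ X ∧ ∀ x ∈ X, p x → ∀ s ∈ S, s y ∈ Cm (s x) := fun y => by
    simp only [Y, Subgroup.mem_inf, Subgroup.mem_iInf, Subgroup.mem_comap]
    rfl
  rcases h.min Y inf_le_left (fun t ht y hy => (hY _).2 ⟨h.inv t ht y ((hY y).1 hy).1, fun x hx hpx s hs => by
    have h1 := ((hY y).1 hy).2 (t⁻¹ x) (h.inv _ (inv_mem ht) x hx) (hp _ (inv_mem ht) x hpx) (s * t) (mul_mem hs ht)
    simpa using h1⟩) with h1 | h1
  · have h2 := (hY z).2 ⟨hz, h0⟩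
    rw [h1, Subgroup.mem_bot] at h2
    exact (hz1 h2).elim
  · exact fun y hy => ((hY y).1 (h1 ▸ hy)).2

variable {J : E8 F} (hJ : (J : G8 F) ∈ X) (hN : Ng J)
include hJ hN

theorem not_zt : ¬ Zt S (J : G8 F) := fun h1 => not_neg h.two_ne hN (sq_mk.1 (h1 1 (one_mem _)))

theorem cm_of_not_zt {x y : G8 F} (hx : x ∈ X) (hy : y ∈ X) (hx' : ¬ Zt S x) (hy' : ¬ Zt S y) : y ∈ Cm x := by
  rintro a a' rfl rfl
  obtain ⟨b, c, ht⟩ := exists_T3 a
  obtain ⟨b', c', ht'⟩ := exists_T3 a'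
  obtain ⟨M, hM⟩ := h.sym1
  obtain ⟨N, hN'⟩ := h.sym2
  have k : ∀ (M : Gam (Q8 F)) (b : E8 F), ((conjE (Q8 F) M b : E8 F) : G8 F) ∈ X → Pc b (conjE (Q8 F) M⁻¹ J) :=
    fun M b hb => by
      have h1 := (h.pc hb hJ).conj M⁻¹
      rwa [conjE_inv_conjE] at h1
  exact comm_of_types h.two_ne ht ht' (h.types ht hx hx') (h.types ht' hy hy') (h.pc hx hy) (hN.conj M⁻¹)
    (k M b ((hM _ _ _ ht).1 hx)) (k M b' ((hM _ _ _ ht').1 hy)) (hN.conj N⁻¹) (k N c ((hN' _ _ _ ht).1 hx))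
    (k N c' ((hN' _ _ _ ht').1 hy))

theorem cm_all {x y : G8 F} (hx : x ∈ X) (hy : y ∈ X) : y ∈ Cm x := by
  have h0 : (J : G8 F) ≠ 1 := fun h1 => hN.nsc h.two_ne (mk_eq_one_iff.1 h1)
  have h1 := h.cm_of_inv (p := fun x => ¬ Zt S x) (fun s hs x hx h1 => hx (h1.of_map hs)) hJ h0
    fun x hx hz s hs => h.cm_of_not_zt hJ hN (h.inv s hs x hx) (h.inv s hs _ hJ) (fun h1 => hz (h1.of_map hs))
      fun h1 => h.not_zt hJ hN (h1.of_map hs)
  exact h.cm_of_inv (p := fun _ => True) (fun _ _ _ _ => trivial) hJ h0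
    (fun x hx _ s hs => Cm_symm (h1 x hx _ hJ (h.not_zt hJ hN) s hs)) y hy x hx trivial 1 (one_mem _)

theorem comm_two {a b : E8 F} (ha : (a : G8 F) ∈ X) (hb : (b : G8 F) ∈ X) : a * b = b * a :=
  h.cm_all hJ hN ha hb a b rfl rfl

theorem zt_triv {y : G8 F} (hy : y ∈ X) (hz : Zt S y) : y = 1 := by
  let Z : Subgroup (G8 F) :=
    { carrier := {y | y ∈ X ∧ Zt S y}
      one_mem' := ⟨one_mem _, fun s _ => by rw [map_one]; exact (sq_mk (a := 1)).2 (one_mul 1)⟩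
      mul_mem' := fun {u v} hu hv => ⟨mul_mem hu.1 hv.1, fun s hs => by
        obtain ⟨a, ha⟩ := QuotientGroup.mk_surjective (s u)
        obtain ⟨b, hb⟩ := QuotientGroup.mk_surjective (s v)
        have h1 := h.comm_two hJ hN (ha ▸ h.inv s hs u hu.1) (hb ▸ h.inv s hs v hv.1)
        rw [map_mul, ← ha, ← hb, ← QuotientGroup.mk_mul, sq_mk, mul_assoc, ← mul_assoc b, ← h1, mul_assoc,
          hv.2 s hs b hb, mul_one, hu.2 s hs a ha]⟩
      inv_mem' := fun {u} hu => ⟨inv_mem hu.1, fun s hs a ha => by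
        have h1 := hu.2 s hs a⁻¹ (by rw [QuotientGroup.mk_inv, ha, map_inv, inv_inv])
        rwa [← mul_inv_rev, inv_eq_one] at h1⟩ }
  rcases h.min Z (fun _ hu => hu.1) (fun s hs u hu => ⟨h.inv s hs u hu.1, hu.2.map hs⟩) with h1 | h1
  · have h2 : y ∈ Z := ⟨hy, hz⟩
    rwa [h1, Subgroup.mem_bot] at h2
  · have h2 : (J : G8 F) ∈ Z := h1 ▸ hJ
    exact (h.not_zt hJ hN h2.2).elim

theorem exists_invol : ∃ a b c : E8 F, T3 a b c ∧ (a : G8 F) ∈ X ∧ a * a = 1 ∧ Ng b := by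
  have k : ∀ a : E8 F, (a : G8 F) ∈ X → ¬ Zt S (a : G8 F) → a * a = 1 →
      ∃ a b c : E8 F, T3 a b c ∧ (a : G8 F) ∈ X ∧ a * a = 1 ∧ Ng b := fun a ha hz h1 => by
    obtain ⟨b, c, ht⟩ := exists_T3 a
    rcases h.types ht ha hz with h2 | h2 | h2
    · exact ⟨a, b, c, ht, ha, h1, h2.2.1⟩
    · exact (not_neg h.two_ne h2.1 h1).elim
    · exact (not_neg h.two_ne h2.1 h1).elim
  obtain ⟨b, c, ht⟩ := exists_T3 J
  rcases h.types ht hJ (h.not_zt hJ hN) with h2 | h2 | h2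
  · exact (not_neg h.two_ne hN h2.1).elim
  · obtain ⟨α, hα, M, hM⟩ := h.t1
    exact k _ (hM _ _ _ ht ▸ h.inv α hα _ hJ) (fun h1 => h.not_zt hJ hN (Zt.of_map hα (hM _ _ _ ht ▸ h1)))
      (conjE_sq.2 h2.2.1)
  · obtain ⟨α, hα, M, hM⟩ := h.t2
    exact k _ (hM _ _ _ ht ▸ h.inv α hα _ hJ) (fun h1 => h.not_zt hJ hN (Zt.of_map hα (hM _ _ _ ht ▸ h1)))
      (conjE_sq.2 h2.2.2)

theorem invol_cases {a b c : E8 F} (ht : T3 a b c) (ha : (a : G8 F) ∈ X) (ha1 : a * a = 1) (hb : Ng b) {y : E8 F}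
    (hy : (y : G8 F) ∈ X) (hy1 : y * y = 1) : (∃ d, Sc y d) ∨ ∃ d, Sc (y * a) d := by
  by_cases hz : Zt S (y : G8 F)
  · exact Or.inl (mk_eq_one_iff.1 (h.zt_triv hJ hN hy hz))
  obtain ⟨y₁, y₂, hty⟩ := exists_T3 y
  have h1 : Ng y₁ := by
    rcases h.types hty hy hz with h2 | h2 | h2
    · exact h2.2.1
    · exact (not_neg h.two_ne h2.1 hy1).elim
    · exact h2.2.1
  obtain ⟨M, hM⟩ := h.sym1
  have h2 := h.comm_two hJ hN ((hM _ _ _ hty).1 hy) ((hM _ _ _ ht).1 ha)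
  rw [← map_mul, ← map_mul] at h2
  have h3 := h1.mul hb ((conjE (Q8 F) M).injective h2)
  have h4 : y * a * (y * a) = 1 := by
    rw [mul_assoc, ← mul_assoc a, ← h.comm_two hJ hN hy ha, mul_assoc, ha1, mul_one, hy1]
  exact Or.inr (mk_eq_one_iff.1 (h.zt_triv hJ hN (mul_mem hy ha)
    ((h.zt_iff (hty.mul ht)).2 ⟨h4, h3, (hty.mul ht).sq_third h4 h3⟩)))

end Cy

namespace Rb

open RB hiding Eg mem_Eg exists_eig

variable {S : Subgroup (MulAut (G8 F))} {X : Subgroup (G8 F)}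

section

variable (h : Cy S X 2) (hx : ∀ a : E8 F, (a : G8 F) ∈ X → a * a = 1)
include h hx

omit hx in
theorem two_ne : (2 : F) ≠ 0 := by simpa using h.char

theorem mem_Bl2 {θ : Y2 X → F} {v : V8 F} : v ∈ Bl (Y2 X) θ ↔ ∀ a : Y2 X, a.1 v = (θ a / 2) • v := by
  have h2 := two_ne h
  rw [mem_Bl]
  refine forall_congr' fun a => ?_
  rw [Y2_inv hx a.2, ← two_smul F]
  constructor
  · intro h1
    rw [div_eq_inv_mul, mul_smul, ← h1, smul_smul, inv_mul_cancel₀ h2, one_smul]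
  · intro h1
    rw [h1, smul_smul, mul_div_cancel₀ _ h2]

theorem dec2 : Dec (Q8 F) (Bl (Y2 X)) := by
  have : Finite (Y2 X) :=
    Finite.of_injective (fun a : Y2 X => (a.1 : V8 F → V8 F)) fun _ _ h => Subtype.ext (DFunLike.coe_injective h)
  refine dec_Bl ?_ (Y2_comm hx) fun g hg => ?_
  · rintro _ ⟨a, -, rfl⟩
    exact E_le_O a.2
  · have h1 : sym g = (2 : F) • g.toLinearMap := by rw [sym, Y2_inv hx hg, two_smul]
    have h3 : g.toLinearMap * g.toLinearMap = 1 := by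
      obtain ⟨a, ha, rfl⟩ := hg
      exact LinearMap.ext (aa (hx a ha))
    obtain ⟨k, hk⟩ : Odd (Fintype.card F) := by
      rw [← Nat.not_even_iff_odd]
      intro he
      have h4 : ringChar F = 2 := FiniteField.even_card_iff_char_two.2 (Nat.even_iff.1 he)
      exact two_ne h (by simpa using (ringChar.spec F 2).2 (h4 ▸ dvd_rfl))
    simp_rw [h1, smul_pow, FiniteField.pow_card, hk, pow_succ, pow_mul, pow_two, h3, one_pow, one_mul]

omit hx in
theorem prm2 : Prm (LL S) (Bl (Y2 X)) := prm_Bl (by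
  rintro M hM _ ⟨a, ha, rfl⟩
  exact ⟨conjE (Q8 F) M a, h.conjE_mem hM ha, rfl⟩)

theorem eig2 {θ : Y2 X → F} {v : V8 F} (hv : v ∈ Bl (Y2 X) θ) {a : E8 F} (ha : (a : G8 F) ∈ X) :
    a.1 v = (θ ⟨a.1, a, ha, rfl⟩ / 2) • v := (mem_Bl2 h hx).1 hv ⟨a.1, a, ha, rfl⟩

theorem eig2' {θ : Y2 X → F} {v : V8 F} (hv : v ∈ Bl (Y2 X) θ) (hv0 : v ≠ 0) {a : E8 F} (ha : (a : G8 F) ∈ X) :
    θ ⟨a.1, a, ha, rfl⟩ / 2 * (θ ⟨a.1, a, ha, rfl⟩ / 2) = 1 := by
  have h1 := aa (hx a ha) v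
  rw [eig2 h hx hv ha, map_smul, eig2 h hx hv ha, smul_smul] at h1
  exact smul_left_injective F hv0 (h1.trans (one_smul F v).symm)

theorem rank_le {θ θ' : Y2 X → F} (h0 : Bl (Y2 X) θ ≠ ⊥) (h0' : Bl (Y2 X) θ' ≠ ⊥) :
    finrank F (Bl (Y2 X) θ) ≤ finrank F (Bl (Y2 X) θ') := by
  obtain ⟨z, hz, hz'⟩ := ((dec2 h hx).nd nondeg8' θ).exists_nonsing h0
  obtain ⟨w, hw, hw'⟩ := ((dec2 h hx).nd nondeg8' θ').exists_nonsing h0'
  obtain ⟨M, hM⟩ := h.sym1
  let ι := {a : E8 F // (a : G8 F) ∈ X}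
  choose b c ht using fun a : ι => exists_T3 a.1
  have hy : ∀ a : ι, ∃ y : F, (b a).1 (M⁻¹.1 z) = y • M⁻¹.1 z := fun a => by
    have h1 := conjE_eig (M := M⁻¹) (eig2 h hx hz ((hM _ _ _ (ht a)).1 a.2))
    rwa [conjE_inv_conjE] at h1
  choose y hy using hy
  refine eq_le ht hz' hw' (Q_ne M⁻¹ hz') (fun a => eig2 h hx hz a.2) (fun a => eig2 h hx hw a.2) hy
    (fun v hv a => eig2 h hx hv a.2) fun v hv => (mem_Bl2 h hx).2 ?_
  rintro ⟨_, a, ha, rfl⟩
  exact hv ⟨a, ha⟩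

theorem ts2 {a : E8 F} (ha : (a : G8 F) ∈ X) (hn : ∀ e, ¬ Sc a e) {e : F} (he : e * e = 1) :
    finrank F (Eg a e) = 4 ∧ HasTS (Q8 F) (Eg a e) := by
  obtain ⟨b, c, ht⟩ := exists_T3 a
  obtain ⟨M, hM⟩ := h.sym1
  obtain ⟨N, hN⟩ := h.sym2
  have hb : b * b = 1 := (conjE (Q8 F) M).injective (by rw [map_mul, map_one]; exact hx _ ((hM a b c ht).1 ha))
  have hc : c * c = 1 := (conjE (Q8 F) N).injective (by rw [map_mul, map_one]; exact hx _ ((hN a b c ht).1 ha))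
  exact ⟨four_Eg (two_ne h) ht (hx a ha) hb hn he, hasTS_Eg (two_ne h) ht (hx a ha) hb hc hn he⟩

omit hx in
theorem exists_nonsc : ∃ a : E8 F, (a : G8 F) ∈ X ∧ ∀ e, ¬ Sc a e := by
  obtain ⟨⟨x, hx⟩, hx1⟩ := Subgroup.ne_bot_iff_exists_ne_one.1 h.ne
  obtain ⟨a, rfl⟩ := QuotientGroup.mk_surjective x
  exact ⟨a, hx, fun e he => hx1 (Subtype.ext (mk_eq_one_iff.2 ⟨e, he⟩))⟩

theorem block_le {θ : Y2 X → F} (h0 : Bl (Y2 X) θ ≠ ⊥) : finrank F (Bl (Y2 X) θ) ≤ 4 := by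
  obtain ⟨a, ha, hn⟩ := exists_nonsc h
  obtain ⟨v, hv, hv0⟩ := (Submodule.ne_bot_iff _).1 h0
  exact (Submodule.finrank_mono fun w hw => mem_Eg.2 (eig2 h hx hw ha)).trans
    (ts2 h hx ha hn (eig2' h hx hv hv0 ha)).1.le

theorem exists_blocks : ∃ (n d : ℕ) (f : Fin (n + 1) → (Y2 X → F)), (n + 1) * d = 8 ∧ d ≤ 4 ∧
    (∀ k, finrank F (Bl (Y2 X) (f k)) = d) ∧ Dec (Q8 F) (Bl (Y2 X) ∘ f) ∧ Prm (LL S) (Bl (Y2 X) ∘ f) := by
  classical
  have : Finite (Y2 X) :=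
    Finite.of_injective (fun a : Y2 X => (a.1 : V8 F → V8 F)) fun _ _ h => Subtype.ext (DFunLike.coe_injective h)
  have := Fintype.ofFinite (Y2 X → F)
  set s : Finset (Y2 X → F) := Finset.univ.filter fun θ => Bl (Y2 X) θ ≠ ⊥ with hs
  have hm : ∀ θ, θ ∈ s ↔ Bl (Y2 X) θ ≠ ⊥ := fun θ => by simp [hs]
  obtain ⟨θ, hθ⟩ : ∃ θ, Bl (Y2 X) θ ≠ ⊥ := by
    by_contra hc
    push Not at hc
    have h1 := (dec2 h hx).sum_finrank nondeg8'
    rw [Finset.sum_eq_zero fun θ _ => by rw [hc θ, finrank_bot], finrank8] at h1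
    omega
  obtain ⟨n, hn⟩ : ∃ n, s.card = n + 1 := Nat.exists_eq_succ_of_ne_zero (Finset.card_ne_zero.2 ⟨θ, (hm θ).2 hθ⟩)
  obtain ⟨f, f1, f2, f3, -⟩ := exists_enum s hn ((hm θ).2 hθ)
  have hd : ∀ k, finrank F (Bl (Y2 X) (f k)) = finrank F (Bl (Y2 X) θ) := fun k =>
    le_antisymm (rank_le h hx ((hm _).1 (f2 k)) hθ) (rank_le h hx hθ ((hm _).1 (f2 k)))
  have hD := (dec2 h hx).reindex f f1 fun i hi => f3 i ((hm i).2 hi)
  refine ⟨n, _, f, ?_, block_le h hx hθ, hd, hD, (prm2 h).reindex f fun i hi => f3 i ((hm i).2 hi)⟩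
  have h1 := hD.sum_finrank nondeg8'
  have h2 : ∑ i, finrank F ((Bl (Y2 X) ∘ f) i) = ∑ _i : Fin (n + 1), finrank F (Bl (Y2 X) θ) :=
    Finset.sum_congr rfl fun k _ => hd k
  rw [finrank8, h2] at h1
  simpa using h1

end

end Rb

end Cfsg.Agent.N2C.D4
end

-- part: N2/Cl/D4/Loc2
section
prune_inst 0x130320448e202000018051272201c42d200000200488400ac22070206c88c6880832861b830051212800c45403d006811080010420000000a0004000119018000801002a1080100a0001e000000000000000000000000000000000000000000000000000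
set_option linter.all false
open scoped Cfsg.Agent.FastGrp

/-!
# N2 (S3519), `PΩ₈⁺(q)` with triality: normalisers of elementary abelian `2`-subgroups (helper90)
-/

set_option autoImplicit false
set_option linter.unusedSectionVars false

namespace Cfsg.Agent.N2C.D4

open QuadraticMap Module Cfsg.Agent.LieClassical.QuadForms Cfsg.Agent.LieClassical.OrthCore
  Cfsg.Agent.LieClassical.OrthTrans Cfsg.Agent.ClassicalGeometry.OrthSemi Cfsg.Agent.ClassicalGeometry.OrthAut1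
  Cfsg.Agent.ClassicalGeometry.TrialityOct Cfsg.Agent.ClassicalGeometry.Triality
  Cfsg.Agent.H989.OutOrth.Basic Cfsg.Agent.H989.OutOrth.Tri Cfsg.Agent.SB.D4

variable {F : Type} [Field F] [Fintype F] {A X : Subgroup (G8 F)} {Γ : Subgroup (MulAut (G8 F))} {M₁ M₂ : Gam (Q8 F)}

namespace Loc2

/-- some lift has square `-1` -/
theorem case_II (lm : Lm) (h : Cx A Γ M₁ M₂) (y : Cy Γ X 2) {J : E8 F} (hJ : (J : G8 F) ∈ X) (hJ1 : J * J ≠ 1) :
    FP3.Good A := by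
  have hN : Ng J := (sq_or_ng (y.sq_sc hJ)).resolve_left hJ1
  have h2 := y.two_ne
  obtain ⟨a, b, c, ht, ha, ha1, hb⟩ := y.exists_invol hJ hN
  have haJ := y.comm_two hJ hN ha hJ
  obtain ⟨e, he, hP, hW⟩ := exists_two h2 ht ha1 hb hN haJ
  have he' : -e * -e = 1 := by rwa [neg_mul_neg]
  have hJW : ∀ f : F, ∀ x ∈ Eg a f, J.1 x ∈ Eg a f := fun _ _ => Eg_comm haJ
  have h04 : (0 : F) ^ 2 ≠ 4 := fun h1 => mul_ne_zero h2 h2 (by linear_combination -h1)
  have actI : ∀ z : E8 F, (z : G8 F) ∈ X → z * z = 1 → ∃ d : F, ∀ w ∈ Eg a (-e), z.1 w = d • w := by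
    intro z hz hz1
    rcases y.invol_cases hJ hN ht ha ha1 hb hz hz1 with ⟨d, hd⟩ | ⟨d, hd⟩
    · exact ⟨d, fun w _ => hd w⟩
    · refine ⟨d * -e, fun w hw => ?_⟩
      rw [mul_smul, ← mem_Eg.1 hw, ← hd, e8_mul, e8_invol ha1]
  have actN : ∀ z : E8 F, (z : G8 F) ∈ X → Ng z → ∃ d : F, ∀ w ∈ Eg a (-e), z.1 w = d • J.1 w := by
    intro z hz hz1
    obtain ⟨d, h1⟩ := actI (z * J) (mul_mem hz hJ) (hz1.mul hN (y.comm_two hJ hN hz hJ))
    refine ⟨-d, fun w hw => ?_⟩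
    rw [neg_smul, ← h1 _ (hJW _ w hw), e8_mul, hN.apply, map_neg, neg_neg]
  have hPW : prp (Q8 F) (Eg a (-e)) = Eg a e := (Submodule.eq_of_le_of_finrank_eq
    (fun x hx => mem_prp.2 fun w hw => Eg_orth h2 he hx hw) (by have := dim_prp (Eg a (-e)); omega)).symm
  obtain ⟨s, hr, hs1, hs2⟩ := lm.ex6 F (Eg a (-e)) J.1 0 hW (Eg_nd h2 ha1 he') (E_le_O J.2) (hJW _)
    (fun x _ => by rw [hN.apply, zero_smul, zero_sub]) h04
  have hsW : Kp s (Eg a (-e)) (Eg a (-e)) := by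
    have k : Kp s (prp (Q8 F) (Eg a (-e))) (prp (Q8 F) (Eg a (-e))) := fun v hv => (hs1 v hv).symm ▸ hv
    have k2 := k.prp
    rwa [prp_prp nondeg8'] at k2
  rw [hPW] at hs1
  refine h.good_12 hP (fun M hM => ?_) (h.og_mem.1 (y.og_mem fun x hx => ?_)) hr
  · have h1 : ∃ d : F, d * d = 1 ∧ ∀ f : F, f * f = 1 → ∀ x ∈ Eg a f, M.1 x ∈ Eg a (d * f) := by
      rcases y.invol_cases hJ hN ht ha ha1 hb (y.conjE_mem hM ha) (conjE_sq.2 ha1) with ⟨d, hd⟩ | ⟨d, hd⟩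
      · have h3 := hd.conj M⁻¹
        rw [conjE_inv_conjE] at h3
        obtain ⟨d', -, h4, -, -⟩ := ht.sc h3
        exact (hb.nsc h2 ⟨d', h4⟩).elim
      · refine ⟨d, hd.sq, fun f hf x hx => mem_Eg.2 ?_⟩
        have h3 := hd (a.1 (M.1 x))
        rw [e8_mul, e8_invol ha1, conjE_apply, mem_Eg.1 hx, gam_sign M hf] at h3
        rw [mul_smul, h3, smul_smul, hd.sq, one_smul]
    obtain ⟨d, hd, h1⟩ := h1
    rcases sq_cases hd with rfl | rfl
    · simpa only [one_mul] using h1 _ he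
    · have h3 := finrank_le_of_maps M (h1 _ he')
      rw [neg_mul_neg, one_mul] at h3
      omega
  · obtain ⟨z, rfl⟩ := QuotientGroup.mk_surjective x
    refine ⟨z, rfl, e8_ext (Eg_ext h2 ha1 he (f := (z * s).1.toLinearMap) (g := (s * z).1.toLinearMap)
      (fun v hv => ?_) fun w hw => ?_)⟩
    · show z.1 (s.1 v) = s.1 (z.1 v)
      rw [hs1 v hv, hs1 _ (Eg_comm (y.comm_two hJ hN ha hx) hv)]
    · show z.1 (s.1 w) = s.1 (z.1 w)
      rcases sq_or_ng (y.sq_sc hx) with h1 | h1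
      · obtain ⟨d, k⟩ := actI z hx h1
        rw [k w hw, k _ (hsW w hw), map_smul]
      · obtain ⟨d, k⟩ := actN z hx h1
        rw [k w hw, k _ (hsW w hw), map_smul, hs2 w hw]

/-- `a` acts on the blocks by the signs `d` -/
structure Sn {ι : Type} (P : ι → Submodule F (V8 F)) (a : E8 F) (d : ι → F) : Prop where
  sq : ∀ k, d k * d k = 1
  act : ∀ k, ∀ v ∈ P k, a.1 v = d k • v

/-- the common eigenspaces of the lifts of `X` -/
structure Bk (Γ : Subgroup (MulAut (G8 F))) (X : Subgroup (G8 F)) {ι : Type} (P : ι → Submodule F (V8 F)) : Prop where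
  two : (2 : F) ≠ 0
  dec : Dec (Q8 F) P
  prm : Prm (LL Γ) P
  ne : ∀ i, P i ≠ ⊥
  eig : ∀ a : E8 F, (a : G8 F) ∈ X → ∃ d, Sn P a d
  mem : ∀ v, v ≠ 0 → (∀ a : E8 F, (a : G8 F) ∈ X → Fp a v) → ∃ i, v ∈ P i
  max : ∀ i w, (∀ a : E8 F, (a : G8 F) ∈ X → ∀ d, Sn P a d → a.1 w = d i • w) → w ∈ P i

theorem exists_bk (y : Cy Γ X 2) (hx : ∀ a : E8 F, (a : G8 F) ∈ X → a * a = 1) :
    ∃ (n d : ℕ) (P : Fin (n + 1) → Submodule F (V8 F)), (n + 1) * d = 8 ∧ d ≤ 4 ∧ (∀ k, finrank F (P k) = d) ∧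
      Bk Γ X P := by
  obtain ⟨n, d, f, h8, h4, hd, hD, hP⟩ := Rb.exists_blocks y hx
  have hne : ∀ i, Bl (RB.Y2 X) (f i) ≠ ⊥ := fun i e => by
    have h1 := hd i
    rw [e, finrank_bot] at h1
    rw [← h1] at h8
    omega
  have hs : ∀ (a : E8 F) (ha : (a : G8 F) ∈ X), Sn (Bl (RB.Y2 X) ∘ f) a fun i => f i ⟨a.1, a, ha, rfl⟩ / 2 :=
    fun a ha => ⟨fun i => by
      obtain ⟨v, hv, hv0⟩ := (Submodule.ne_bot_iff _).1 (hne i)
      exact Rb.eig2' y hx hv hv0 ha, fun i w hw => Rb.eig2 y hx hw ha⟩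
  refine ⟨n, d, _, h8, h4, hd, y.two_ne, hD, hP, hne, fun a ha => ⟨_, hs a ha⟩, fun v hv0 hv => ?_, fun i w hw => ?_⟩
  · have h1 : ∀ a : RB.Y2 X, ∃ c : F, a.1 v = c • v := by
      rintro ⟨_, a, ha, rfl⟩
      exact hv a ha
    choose c hc using h1
    have h2 : v ∈ Bl (RB.Y2 X) fun a => 2 * c a := (Rb.mem_Bl2 y hx).2 fun a => by
      rw [mul_div_cancel_left₀ _ y.two_ne, hc]
    by_contra h3
    refine hv0 (hD.perp nondeg8' fun i w hw => (Rb.dec2 y hx).orth _ (f i) (fun e => h3 ⟨i, ?_⟩) v h2 w hw)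
    show v ∈ Bl _ (f i)
    rwa [← e]
  · refine (Rb.mem_Bl2 y hx).2 ?_
    rintro ⟨_, a, ha, rfl⟩
    exact hw a ha _ (hs a ha)

theorem fp_back {M : Gam (Q8 F)} {b : E8 F} {v : V8 F} (h : Fp (conjE (Q8 F) M b) v) : Fp b (M⁻¹.1 v) := by
  obtain ⟨c, hc⟩ := h
  have h1 := conjE_eig (M := M⁻¹) hc
  rwa [conjE_inv_conjE] at h1

theorem nrm (h : Cx A Γ M₁ M₂) (y : Cy Γ X 2) : A = Subgroup.normalizer (X : Set (G8 F)) :=
  h.eq_norm y.ne (fun e => noncomm8 (F := F) ⟨⟨fun a b => y.comm a (e ▸ trivial) b (e ▸ trivial)⟩⟩) y.inv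

namespace Bk

variable {ι : Type} {P : ι → Submodule F (V8 F)} (B : Bk Γ X P)
include B

theorem nd (i : ι) : Nd (Q8 F) (P i) := B.dec.nd nondeg8' i

theorem ns (i : ι) : ∃ v ∈ P i, Q8 F v ≠ 0 := (B.nd i).exists_nonsing (B.ne i)

theorem not_le {i j : ι} (hij : i ≠ j) : ¬ P j ≤ P i := fun h =>
  B.ne j (eq_bot_iff.2 fun v hv => B.nd j v hv fun w hw => B.dec.orth i j hij v (h hv) w hw)

theorem sep {i j : ι} (hij : i ≠ j) : ∃ a : E8 F, (a : G8 F) ∈ X ∧ ∃ d, Sn P a d ∧ d j = -d i := by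
  by_contra hc
  refine B.not_le hij fun w hw => B.max i w fun a ha d hd => ?_
  rcases mul_self_eq_mul_self_iff.1 ((hd.sq j).trans (hd.sq i).symm) with e | e
  · rw [hd.act j w hw, e]
  · exact (hc ⟨a, ha, d, hd, e⟩).elim

theorem mk_eq {a b : E8 F} {d d' : ι → F} (ha : Sn P a d) (hb : Sn P b d') {e : F} (he : e * e = 1)
    (h : ∀ i, d' i = e * d i) : (a : G8 F) = b := by
  refine mk_eq_iff.2 ⟨e, he, fun v => ?_⟩
  have k : ⊤ ≤ LinearMap.eqLocus b.1.toLinearMap (e • a.1.toLinearMap) := B.dec.span ▸ iSup_le fun i w hw =>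
    show b.1 w = e • a.1 w by rw [ha.act i w hw, hb.act i w hw, h, mul_smul]
  exact k trivial

theorem fp {i : ι} {v : V8 F} (hv : v ∈ P i) {a : E8 F} (ha : (a : G8 F) ∈ X) : Fp a v :=
  (B.eig a ha).elim fun d hd => ⟨d i, hd.act i v hv⟩

/-- a frame with two classes of norms -/
theorem frame (lm : Lm) (sig : BoxSig) (h : Cx A Γ M₁ M₂) (y : Cy Γ X 2) {e : Fin 8 → V8 F} (he : ∀ k, Q8 F (e k) ≠ 0)
    (ho : ∀ i j, i ≠ j → polar (Q8 F) (e i) (e j) = 0) (hm : ∀ k, ∃ i, e k ∈ P i)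
    (hall : ∀ i, ∀ v ∈ P i, Q8 F v ≠ 0 → ∃ (k : Fin 8) (c : F), v = c • e k)
    (hns : ∃ i j, ¬ IsSquare (Q8 F (e i) * Q8 F (e j))) : FP3.Good A := by
  obtain ⟨z, h1, h2, h3⟩ := sig F A Γ M₁ M₂ e h B.two he ho (fun M hM k => by
    obtain ⟨i, hi⟩ := hm k
    obtain ⟨j, hj⟩ := B.prm M hM i
    exact hall j _ (hj _ hi) (Q_ne M (he k))) (fun k l => by
    obtain ⟨i, hi⟩ := hm k
    obtain ⟨j, hj⟩ := hm l
    have h0 : Q8 F (pm (M₁⁻¹.1 (e k)) (M₂⁻¹.1 (e l))) ≠ 0 := by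
      rw [norm_pm]
      exact mul_ne_zero (Q_ne _ (he k)) (Q_ne _ (he l))
    obtain ⟨m, hm'⟩ := B.mem (pm (M₁⁻¹.1 (e k)) (M₂⁻¹.1 (e l))) (fun e0 => h0 (by rw [e0, map_zero])) fun a ha => by
      obtain ⟨b, c, ht⟩ := exists_T3 a
      obtain ⟨s, hs⟩ := fp_back (B.fp hi ((h.sym1 y.inv ht).1 ha))
      obtain ⟨t, ht'⟩ := fp_back (B.fp hj ((h.sym2 y.inv ht).1 ha))
      exact ⟨s * t, by rw [ht, hs, ht', smul_pm, pm_smul, smul_smul]⟩
    exact hall m _ hm' h0) hns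
  exact h.good_inv lm.g44 B.two h1 h2 h3

/-- all blocks have the same type -/
theorem aniso (h : Cx A Γ M₁ M₂) (y : Cy Γ X 2) {i j : ι} (hj : Aniso (Q8 F) (P j)) : Aniso (Q8 F) (P i) := by
  intro w hw h0
  obtain ⟨z, hz, hz0⟩ := B.ns i
  obtain ⟨z', hz', hz0'⟩ := B.ns j
  have hu := Q_ne M₁⁻¹ hz0
  have hy : ∀ a b c : E8 F, T3 a b c → (a : G8 F) ∈ X → Fp b (M₁⁻¹.1 z) := fun a b c ht ha =>
    fp_back (B.fp hz ((h.sym1 y.inv ht).1 ha))
  generalize M₁⁻¹.1 z = u at hu hy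
  have hm : pm u (pm z' (pm (pm w u) z)) ∈ P j := B.max j _ fun a ha d hd => by
    obtain ⟨b, c, ht⟩ := exists_T3 a
    obtain ⟨t, h3⟩ := hy a b c ht ha
    have e1 : c.1 (pm w u) = (d i * t) • pm w u := by
      rw [ht.rot.rot, hd.act i w hw, h3, smul_pm, pm_smul, smul_smul]
    have e2 : b.1 (pm (pm w u) z) = t • pm (pm w u) z := by
      rw [ht.rot, e1, hd.act i z hz, smul_pm, pm_smul, smul_smul, mul_right_comm, hd.sq, one_mul]
    have e3 : c.1 (pm z' (pm (pm w u) z)) = (d j * t) • pm z' (pm (pm w u) z) := by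
      rw [ht.rot.rot, hd.act j z' hz', e2, smul_pm, pm_smul, smul_smul]
    rw [ht, h3, e3, smul_pm, pm_smul, smul_smul, mul_left_comm, eig_sq hu h3, mul_one]
  have h1 := hj _ hm (by rw [norm_pm, norm_pm, norm_pm, norm_pm, h0]; ring)
  exact pr_injective hu (a₂ := 0) ((pr_injective hz0 (a₂ := 0) ((pl_injective hz0' (a₂ := 0)
    ((pl_injective hu (a₂ := 0) (h1.trans (map_zero _).symm)).trans (map_zero _).symm)).trans
      (map_zero _).symm)).trans (map_zero _).symm)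

end Bk

theorem sn_one {ι : Type} (P : ι → Submodule F (V8 F)) : Sn P 1 fun _ => 1 :=
  ⟨fun _ => one_mul 1, fun _ v _ => (one_smul F v).symm⟩

theorem Sn.mul {ι : Type} {P : ι → Submodule F (V8 F)} {a b : E8 F} {d d' : ι → F} (ha : Sn P a d) (hb : Sn P b d') :
    Sn P (a * b) fun i => d i * d' i :=
  ⟨fun i => by linear_combination d' i * d' i * ha.sq i + hb.sq i, fun i v hv => by
    rw [e8_mul, hb.act i v hv, map_smul, ha.act i v hv, smul_smul, mul_comm]⟩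

section I

variable (lm : Lm) (sig : BoxSig) (h : Cx A Γ M₁ M₂) (y : Cy Γ X 2) (hx : ∀ a : E8 F, (a : G8 F) ∈ X → a * a = 1)

include lm h y hx in
/-- two blocks -/
theorem case_four {P : Fin 2 → Submodule F (V8 F)} (B : Bk Γ X P) : FP3.Good A := by
  obtain ⟨z, hz, hn⟩ := Rb.exists_nonsc y
  have key : ∀ a : E8 F, (a : G8 F) ∈ X → (a : G8 F) ≠ 1 → ∃ d, Sn P a d ∧ d 1 = -d 0 := fun a ha h1 => by
    obtain ⟨d, hd⟩ := B.eig a ha
    refine ⟨d, hd, (mul_self_eq_mul_self_iff.1 ((hd.sq 1).trans (hd.sq 0).symm)).resolve_left fun e => h1 ?_⟩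
    exact (B.mk_eq (sn_one P) hd (hd.sq 0) (Fin.forall_fin_two.2 ⟨(mul_one _).symm, e.trans (mul_one _).symm⟩)).symm
  have hz1 : (z : G8 F) ≠ 1 := fun e => (mk_eq_one_iff.1 e).elim hn
  refine h.good_inv lm.g44 B.two (hx z hz) (Rb.ts2 y hx hz hn (by ring)).1 fun σ hσ => ?_
  obtain ⟨a, ha⟩ := QuotientGroup.mk_surjective (σ z)
  obtain ⟨c, k1, k2⟩ := key a (ha ▸ y.inv σ hσ _ hz) (ha ▸ fun e => hz1 (σ.map_eq_one_iff.1 e))
  obtain ⟨d, k3, k4⟩ := key z hz hz1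
  rw [← ha]
  exact B.mk_eq k1 k3 (e := d 0 * c 0) (by linear_combination d 0 * d 0 * k1.sq 0 + k3.sq 0)
    (Fin.forall_fin_two.2 ⟨by linear_combination -d 0 * k1.sq 0, by rw [k2, k4]; linear_combination d 0 * k1.sq 0⟩)

include lm sig h y hx in
/-- eight blocks -/
theorem case_one {P : Fin 8 → Submodule F (V8 F)} (B : Bk Γ X P) (hd : ∀ i, finrank F (P i) = 1) : FP3.Good A := by
  choose e he he' using B.ns
  by_cases hns : ∃ i j, ¬ IsSquare (Q8 F (e i) * Q8 F (e j))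
  · refine B.frame lm sig h y he' (fun i j hij => B.dec.orth i j hij _ (he i) _ (he j)) (fun k => ⟨k, he k⟩)
      (fun j v hv _ => ?_) hns
    obtain ⟨c, hc⟩ := (finrank_eq_one_iff_of_nonzero' (⟨e j, he j⟩ : P j)
      fun h0 => he' j (by rw [show e j = 0 from congrArg Subtype.val h0, map_zero])).1 (hd j) ⟨_, hv⟩
    exact ⟨j, c, (congrArg Subtype.val hc).symm⟩
  push Not at hns
  choose r hr using fun i => hns i 0
  have hr0 : ∀ i, r i ≠ 0 := fun i h0 => mul_ne_zero (he' i) (he' 0) (by rw [hr i, h0, zero_mul])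
  have hQ : ∀ i, Q8 F ((Q8 F (e 0) / r i) • e i) = Q8 F (e 0) := fun i => by
    rw [QuadraticMap.map_smul, smul_eq_mul, div_mul_div_comm, div_mul_eq_mul_div,
      div_eq_iff (mul_ne_zero (hr0 i) (hr0 i)), ← hr i]
    ring
  have hm : ∀ i, (Q8 F (e 0) / r i) • e i ∈ P i := fun i => (P i).smul_mem _ (he i)
  refine lm.gn4 F A X (fun i => (Q8 F (e 0) / r i) • e i) B.two (by rw [hQ]; exact he' 0) (fun i => by rw [hQ, hQ])
    (fun i j hij => B.dec.orth i j hij _ (hm i) _ (hm j)) (fun a ha => ⟨fun i => ?_, ?_⟩) (fun i j hij => ?_) (nrm h y)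
  · obtain ⟨d, k⟩ := B.eig a ha
    have k3 := k.act i _ (hm i)
    rcases sq_cases (k.sq i) with e1 | e1 <;> rw [e1] at k3
    · exact Or.inl (k3.trans (one_smul _ _))
    · exact Or.inr (k3.trans (neg_one_smul _ _))
  · by_cases hn : ∃ d, Sc a d
    · exact Or.inl hn
    · exact Or.inr (Rb.ts2 y hx ha (not_exists.1 hn) (one_mul 1)).1
  · obtain ⟨a, ha, d, k, k1⟩ := B.sep hij
    exact ⟨a, ha, d i, k.act i _ (hm i), k1 ▸ k.act j _ (hm j)⟩

theorem sgn4 {c : Fin 4 → F} (h1 : ∀ i, c i * c i = 1) (k : ∀ (l : Fin 4) (e : F), e * e = 1 → ¬ ∀ i, i ≠ l → c i = e) :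
    ∏ i, c i = 1 := by
  have k0 : c 2 = c 1 → c 3 = c 1 → False := fun a b => k 0 _ (h1 1) fun i hi => by fin_cases i <;> simp_all
  have k1 : c 2 = c 0 → c 3 = c 0 → False := fun a b => k 1 _ (h1 0) fun i hi => by fin_cases i <;> simp_all
  have k2 : c 1 = c 0 → c 3 = c 0 → False := fun a b => k 2 _ (h1 0) fun i hi => by fin_cases i <;> simp_all
  have k3 : c 1 = c 0 → c 2 = c 0 → False := fun a b => k 3 _ (h1 0) fun i hi => by fin_cases i <;> simp_all
  rw [Fin.prod_univ_four]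
  rcases sq_cases (h1 0) with e0 | e0 <;> rcases sq_cases (h1 1) with e1 | e1 <;>
    rcases sq_cases (h1 2) with e2 | e2 <;> rcases sq_cases (h1 3) with e3 | e3 <;>
    first
    | (rw [e0, e1, e2, e3]; ring1)
    | exact (k0 (e2.trans e1.symm) (e3.trans e1.symm)).elim
    | exact (k1 (e2.trans e0.symm) (e3.trans e0.symm)).elim
    | exact (k2 (e1.trans e0.symm) (e3.trans e0.symm)).elim
    | exact (k3 (e1.trans e0.symm) (e2.trans e0.symm)).elim

variable {P : Fin 4 → Submodule F (V8 F)} (B : Bk Γ X P) (hd : ∀ i, finrank F (P i) = 2)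
include y hx B hd

theorem even {a : E8 F} (ha : (a : G8 F) ∈ X) {c : Fin 4 → F} (hc : Sn P a c) : ∏ i, c i = 1 := by
  by_cases hn : ∃ e, Sc a e
  · obtain ⟨e, he⟩ := hn
    have k : ∀ i, c i = e := fun i => by
      obtain ⟨v, hv, hv0⟩ := (Submodule.ne_bot_iff _).1 (B.ne i)
      exact smul_left_injective F hv0 ((hc.act i v hv).symm.trans (he v))
    rw [Fin.prod_univ_four, k, k, k, k]
    linear_combination (e * e + 1) * he.sq
  refine sgn4 hc.sq fun l e he k => ?_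
  have k1 : ⊤ ≤ Eg a e ⊔ P l := B.dec.span ▸ iSup_le fun i v hv => by
    by_cases hi : i = l
    · exact Submodule.mem_sup_right (hi ▸ hv)
    · exact Submodule.mem_sup_left (mem_Eg.2 (k i hi ▸ hc.act i v hv))
  have k2 := (Submodule.finrank_mono k1).trans (Submodule.finrank_add_le_finrank_add_finrank _ _)
  rw [finrank_top, finrank8, (Rb.ts2 y hx ha (not_exists.1 hn) he).1, hd] at k2
  omega

/-- all even sign changes are in `X` -/
theorem all_even {b : E8 F} {c : Fin 4 → F} (hc : Sn P b c) (h3 : ∏ i, c i = 1) : (b : G8 F) ∈ X := by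
  let R : F → F → Prop := fun u w => ∃ a : E8 F, (a : G8 F) ∈ X ∧ ∃ d, Sn P a d ∧ d 0 * d 1 = u ∧ d 0 * d 2 = w
  have mul : ∀ {u w u' w' : F}, R u w → R u' w' → R (u * u') (w * w') := by
    rintro _ _ _ _ ⟨a, ha, d, k, rfl, rfl⟩ ⟨a', ha', d', k', rfl, rfl⟩
    exact ⟨a * a', mul_mem ha ha', _, k.mul k', by ring, by ring⟩
  have sq : ∀ {d : Fin 4 → F} {a : E8 F}, Sn P a d → ∀ i, d 0 * d i = 1 ∨ d 0 * d i = -1 := fun {d a} k i =>
    sq_cases (by linear_combination d i * d i * k.sq 0 + k.sq i)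
  have r1 : R (-1) 1 ∨ R (-1) (-1) := by
    obtain ⟨a, ha, d, k, e⟩ := B.sep (show (0 : Fin 4) ≠ 1 by decide)
    have k1 : d 0 * d 1 = -1 := by rw [e, mul_neg, k.sq]
    exact (sq k 2).imp (fun k2 => ⟨a, ha, d, k, k1, k2⟩) fun k2 => ⟨a, ha, d, k, k1, k2⟩
  have r2 : R 1 (-1) ∨ R (-1) (-1) := by
    obtain ⟨a, ha, d, k, e⟩ := B.sep (show (0 : Fin 4) ≠ 2 by decide)
    have k1 : d 0 * d 2 = -1 := by rw [e, mul_neg, k.sq]
    exact (sq k 1).imp (fun k2 => ⟨a, ha, d, k, k2, k1⟩) fun k2 => ⟨a, ha, d, k, k2, k1⟩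
  have r3 : R 1 (-1) ∨ R (-1) 1 := by
    obtain ⟨a, ha, d, k, e⟩ := B.sep (show (0 : Fin 4) ≠ 3 by decide)
    have k1 := even y hx B hd ha k
    rw [Fin.prod_univ_four, e] at k1
    exact (sq k 1).imp (fun k2 => ⟨a, ha, d, k, k2, by linear_combination -k1 - d 0 * d 2 * k2⟩)
      fun k2 => ⟨a, ha, d, k, k2, by linear_combination k1 + d 0 * d 2 * k2⟩
  have r4 : R (-1) 1 ∧ R 1 (-1) := by
    rcases r3 with r3 | r3
    · exact ⟨r1.elim id fun r => by simpa using mul r r3, r3⟩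
    · exact ⟨r3, r2.elim id fun r => by simpa using mul r r3⟩
  obtain ⟨a, ha, d, k, k1, k2⟩ : R (c 0 * c 1) (c 0 * c 2) := by
    rcases sq hc 1 with e1 | e1 <;> rcases sq hc 2 with e2 | e2 <;> rw [e1, e2]
    exacts [⟨1, one_mem X, _, sn_one P, one_mul 1, one_mul 1⟩, r4.2, r4.1, by simpa using mul r4.1 r4.2]
  have k3 := even y hx B hd ha k
  rw [Fin.prod_univ_four] at h3 k3
  rw [← B.mk_eq k hc (e := c 0 * d 0) (by linear_combination d 0 * d 0 * hc.sq 0 + k.sq 0) fun i => ?_]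
  · exact ha
  have c0 := hc.sq 0
  have c3 := hc.sq 3
  have d0 := k.sq 0
  have d3 := k.sq 3
  fin_cases i
  · show c 0 = c 0 * d 0 * d 0
    linear_combination -c 0 * d0
  · show c 1 = c 0 * d 0 * d 1
    linear_combination -c 0 * k1 - c 1 * c0
  · show c 2 = c 0 * d 0 * d 2
    linear_combination -c 0 * k2 - c 2 * c0
  · show c 3 = c 0 * d 0 * d 3
    grind

include h in
theorem stab (a : E8 F) : (a : G8 F) ∈ A ↔ ∀ i, ∃ j, Kp a (P i) (P j) := by
  refine ⟨fun ha i => B.prm _ (h.og_mem.2 ha) i, fun ha => ?_⟩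
  choose π hπ using ha
  have hi : Function.Injective π := fun i j e => by
    by_contra hij
    refine B.not_le hij fun v hv => ?_
    obtain ⟨w, hw, e'⟩ := gam_pre (og a) (hπ i) (by rw [hd, hd]) (e ▸ hπ j v hv)
    rwa [← a.1.injective e']
  have := finite8 (F := F)
  rw [nrm h y, ← inv_mem_iff]
  refine Subgroup.mem_normalizer_fintype fun x hx' => ?_
  obtain ⟨b, rfl⟩ := QuotientGroup.mk_surjective x
  obtain ⟨d, k⟩ := B.eig b hx'
  refine all_even y hx B hd (b := a⁻¹ * b * a⁻¹⁻¹) (c := fun i => d (π i)) ⟨fun i => k.sq _, fun i v hv => ?_⟩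
    (((Finite.injective_iff_bijective.1 hi).prod_comp d).trans (even y hx B hd hx' k))
  rw [inv_inv, e8_mul, e8_mul, k.act _ _ (hπ i v hv), map_smul]
  exact congrArg _ (a.1.symm_apply_apply v)

omit y hx B hd in
theorem hyp3 (h2 : (2 : F) ≠ 0) (h3 : Nat.card F ≤ 3) {W : Submodule F (V8 F)} (hN : Nd (Q8 F) W) (hW : finrank F W = 2)
    (hA : ¬ Aniso (Q8 F) W) : ∃ u : Fin 2 → V8 F, (∀ k, u k ∈ W) ∧ (∀ k, Q8 F (u k) ≠ 0) ∧
      (∀ k l, k ≠ l → polar (Q8 F) (u k) (u l) = 0) ∧ Q8 F (u 1) = -Q8 F (u 0) ∧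
      ∀ v ∈ W, Q8 F v ≠ 0 → ∃ (k : Fin 2) (c : F), v = c • u k := by
  obtain ⟨u, k1, k2, k3, k4⟩ := hN.exists_orth h2 hW
  have key : ∀ v ∈ W, (∃ (k : Fin 2) (c : F), v = c • u k) ∨ Q8 F v = Q8 F (u 0) + Q8 F (u 1) := fun v hv => by
    obtain ⟨c, rfl⟩ := k4 v hv
    rw [Fin.sum_univ_two]
    by_cases h0 : c 0 = 0
    · exact Or.inl ⟨1, c 1, by rw [h0, zero_smul, zero_add]⟩
    by_cases h1 : c 1 = 0
    · exact Or.inl ⟨0, c 0, by rw [h1, zero_smul, add_zero]⟩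
    right
    rw [Q_add, QuadraticMap.map_smul, QuadraticMap.map_smul, polar_smul_left, polar_smul_right, k3 0 1 (by decide),
      small_sq h3 h0, small_sq h3 h1]
    simp
  have k5 : Q8 F (u 0) + Q8 F (u 1) = 0 := by
    by_contra k
    refine hA fun x hx h0 => ?_
    rcases key x hx with ⟨j, c, rfl⟩ | e
    · rw [QuadraticMap.map_smul, smul_eq_mul, mul_eq_zero, mul_self_eq_zero] at h0
      rw [h0.resolve_right (k2 j), zero_smul]
    · exact (k (e.symm.trans h0)).elim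
  exact ⟨u, k1, k2, k3, by linear_combination k5, fun v hv h0 => (key v hv).resolve_right fun e => h0 (e.trans k5)⟩

include lm sig h in
/-- four blocks -/
theorem case_two : FP3.Good A := by
  by_cases h0 : Aniso (Q8 F) (P 0)
  · exact lm.gi2 lm.je F A P B.dec hd (Or.inl fun i => B.aniso h y h0) (stab h y hx B hd)
  have hn : ∀ i, ¬ Aniso (Q8 F) (P i) := fun i k => h0 (B.aniso h y k)
  by_cases hq : 4 ≤ Nat.card F
  · exact lm.gi2 lm.je F A P B.dec hd (Or.inr ⟨hq, hn⟩) (stab h y hx B hd)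
  have h3 : Nat.card F ≤ 3 := by omega
  choose u k1 k2 k3 k4 k5 using fun i => hyp3 B.two h3 (B.nd i) (hd i) (hn i)
  let σ : Fin 4 × Fin 2 ≃ Fin 8 := finProdFinEquiv
  refine B.frame lm sig h y (e := fun k => u (σ.symm k).1 (σ.symm k).2) (fun k => k2 _ _) (fun k l hkl => ?_)
    (fun k => ⟨_, k1 _ _⟩) (fun i v hv h1 => ?_) ⟨σ (0, 0), σ (0, 1), ?_⟩
  · by_cases e : (σ.symm k).1 = (σ.symm l).1
    · rw [e]
      exact k3 _ _ _ fun e' => hkl (σ.symm.injective (Prod.ext e e'))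
    · exact B.dec.orth _ _ e _ (k1 _ _) _ (k1 _ _)
  · obtain ⟨k, c, hc⟩ := k5 i v hv h1
    exact ⟨σ (i, k), c, by rw [σ.symm_apply_apply]; exact hc⟩
  · rintro ⟨r, hr⟩
    rw [σ.symm_apply_apply, σ.symm_apply_apply, k4, mul_neg, small_sq h3 (k2 0 0)] at hr
    have h1 : r ≠ 0 := fun e => one_ne_zero (α := F) (by rw [e] at hr; linear_combination -hr)
    exact B.two (by linear_combination -hr - small_sq h3 h1)

end I

end Loc2

open Loc2 in
/-- **the local case, `r = 2`** -/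
theorem loc2 (lm : Lm) (sig : BoxSig) (h : Cx A Γ M₁ M₂) (y : Cy Γ X 2) : FP3.Good A := by
  by_cases hx : ∀ a : E8 F, (a : G8 F) ∈ X → a * a = 1
  · obtain ⟨n, d, P, h8, h4, hd, B⟩ := exists_bk y hx
    have hc : (n = 1 ∧ d = 4) ∨ (n = 3 ∧ d = 2) ∨ (n = 7 ∧ d = 1) := by
      interval_cases d <;> omega
    rcases hc with ⟨rfl, rfl⟩ | ⟨rfl, rfl⟩ | ⟨rfl, rfl⟩
    exacts [case_four lm h y hx B, case_two lm sig h y hx B hd, case_one lm sig h y hx B hd]
  · push Not at hx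
    obtain ⟨J, hJ, hJ1⟩ := hx
    exact case_II lm h y hJ hJ1

end Cfsg.Agent.N2C.D4
end

-- part: N2/Cl/D4/GN4
section
prune_inst 0x2130764468a202000018051272203c229a00000000088c00ec220f020f892c6a80822861ba300502029000c5403d006811080000420000000a000400011d01a080800000a308010ce6001f800100000000000000000000000000000000010000000000000
set_option linter.all false
open scoped Cfsg.Agent.FastGrp

/-!
# N2 (S3519), `PΩ₈⁺(q)`, box GN4: eight lines and the Hamming code (helper14)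

The normaliser `A` of the code consists of monomial matrices, `|A~| ≤ 1680 · 256`; the seven-cycle `a` lies in `A` and
`|C(a)| ≤ 2 q⁶ + 4 q⁴`, `≤ 112` for `q = 3`.
-/

set_option autoImplicit false
set_option linter.unusedSectionVars false
set_option linter.unusedSimpArgs false

namespace Cfsg.Agent.N2C.D4

open QuadraticMap Module Cfsg.Agent.LieClassical.QuadForms Cfsg.Agent.LieClassical.OrthCore
  Cfsg.Agent.LieClassical.OrthTrans Cfsg.Agent.ClassicalGeometry.OrthSemi Cfsg.Agent.ClassicalGeometry.OrthAut1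
  Cfsg.Agent.ClassicalGeometry.TrialityOct Cfsg.Agent.ClassicalGeometry.Triality
  Cfsg.Agent.H989.OutOrth.Basic Cfsg.Agent.H989.OutOrth.Tri Cfsg.Agent.SB.D4

namespace GN4

variable {F : Type} [Field F] [Fintype F] {b : Basis (Fin 8) F (V8 F)} {c : F}

/-- an orthogonal basis of vectors of norm `c` -/
structure Fr (b : Basis (Fin 8) F (V8 F)) (c : F) : Prop where
  h2 : (2 : F) ≠ 0
  hc : c ≠ 0
  q : ∀ i, Q8 F (b i) = c
  o : ∀ i j, i ≠ j → polar (Q8 F) (b i) (b j) = 0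

theorem repr_mono {x : V8 F →ₗ[F] V8 F} {d : Fin 8 → F} {π : Equiv.Perm (Fin 8)} (hx : ∀ i, x (b i) = d i • b (π i))
    (v : V8 F) (j : Fin 8) : b.repr (x v) (π j) = d j * b.repr v j := by
  have : (b.coord (π j)).comp x = d j • b.coord j := b.ext fun i => by
    by_cases e : i = j
    · subst e
      simp [hx]
    · simp [hx, Finsupp.single_apply, e]
  exact LinearMap.congr_fun this v

theorem det_diag {x : V8 F →ₗ[F] V8 F} {d : Fin 8 → F} (hx : ∀ i, x (b i) = d i • b i) : LinearMap.det x = ∏ i, d i := by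
  rw [← LinearMap.det_toMatrix b, ← Matrix.det_diagonal]
  congr 1
  ext i j
  by_cases e : i = j
  · subst e
    simp [LinearMap.toMatrix_apply, hx]
  · simp [LinearMap.toMatrix_apply, hx, Finsupp.single_apply, e, Ne.symm e]

theorem ext_b {x y : E8 F} (h : ∀ i, x.1 (b i) = y.1 (b i)) : x = y := Subtype.ext (b.ext' h)

theorem rank_Eg (h2 : (2 : F) ≠ 0) {x : E8 F} {w : Fin 8 → ZMod 2} (hx : ∀ i, x.1 (b i) = sg F (w i) • b i) :
    finrank F (Eg x 1) = Fintype.card {i // w i = 0} := by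
  have e : Eg x 1 = Submodule.span F (b '' {i | w i = 0}) := by
    ext v
    rw [mem_Eg, one_smul, b.mem_span_image, b.ext_elem_iff]
    refine forall_congr' fun j => ?_
    have k : b.repr (x.1 v) j = sg F (w j) * b.repr v j := repr_mono (x := x.1.toLinearMap) (π := 1) hx v j
    rw [k, Finset.mem_coe, Finsupp.mem_support_iff, Set.mem_ofPred_eq]
    refine ⟨fun h h0 => sg_inj h2 ((mul_eq_right₀ h0).1 h |>.trans sg_zero.symm), fun h => ?_⟩
    by_cases h0 : b.repr v j = 0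
    · rw [h0, mul_zero]
    · rw [h h0, sg_zero, one_mul]
  rw [e, Set.image_eq_range]
  exact finrank_span_eq_card (b.linearIndependent.comp _ Subtype.val_injective)

/-- the seven-cycle -/
noncomputable def pa (b : Basis (Fin 8) F (V8 F)) : GL8 F := b.equiv b cy

theorem pa_b (i : Fin 8) : pa b (b i) = b (cy i) := b.equiv_apply ..

theorem repr_pa (v : V8 F) (j : Fin 8) : b.repr (pa b v) j = b.repr v (cy.symm j) := by
  have := repr_mono (x := (pa b).toLinearMap) (d := fun _ => 1) (π := cy) (fun i => (pa_b i).trans (one_smul F _).symm) v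
    (cy.symm j)
  rwa [Equiv.apply_symm_apply, one_mul] at this

theorem pa_pow : pa b ^ 7 = 1 := by
  have k : ∀ (n : ℕ) (i : Fin 8), (pa b ^ n) (b i) = b ((cy ^ n) i) := fun n => by
    induction n with
    | zero => exact fun _ => rfl
    | succ n ih => exact fun i => by rw [pow_succ, pow_succ, LinearEquiv.mul_apply, pa_b, ih, Equiv.Perm.mul_apply]
  exact b.ext' fun i => by rw [k, cy_pow]; rfl

namespace Fr

variable (h : Fr b c)
include h

theorem c2 : 2 * c ≠ 0 := mul_ne_zero h.h2 h.hc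

theorem polar_b (v : V8 F) (j : Fin 8) : polar (Q8 F) v (b j) = 2 * c * b.repr v j := by
  have : (polarBilin (Q8 F)).flip (b j) = (2 * c) • b.coord j := b.ext fun i => by
    change polar (Q8 F) (b i) (b j) = _
    by_cases e : i = j
    · subst e
      simp [polar_self', h.q]
    · simp [h.o i j e, Finsupp.single_apply, e]
  exact LinearMap.congr_fun this v

theorem polar_eq (v w : V8 F) : polar (Q8 F) v w = 2 * c * ∑ j, b.repr v j * b.repr w j := by
  conv_lhs => rw [← b.sum_repr w]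
  refine (map_sum (polarBilin (Q8 F) v) _ _).trans ?_
  rw [Finset.mul_sum]
  refine Finset.sum_congr rfl fun j _ => ?_
  rw [map_smul, smul_eq_mul]
  exact (congrArg _ (h.polar_b v j)).trans (by ring)

theorem pa_mem : pa b ∈ E (Q8 F) := by
  refine H10.Co3.Om.mem_of_odd good8 (fun v => mul_left_cancel₀ h.h2 ?_) (by decide : Odd 7) pa_pow
  rw [← polar_self', ← polar_self', h.polar_eq, h.polar_eq]
  simp only [repr_pa]
  exact congrArg _ (Equiv.sum_comp cy.symm fun j => b.repr v j * b.repr v j)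

theorem exists_neg : ∃ n : E8 F, Sc n (-1) :=
  ⟨⟨LinearEquiv.neg F, H10.Co3.Om.invol_mem good8 h.h2 h.hc h.q h.o (by decide) (fun _ => rfl) fun v hv => by
    have : v = 0 := b.ext_elem fun i => (mul_eq_zero.1 ((h.polar_b v i).symm.trans
      ((polar_comm _ _ _).trans (hv i)))).resolve_left h.c2 |>.trans (by simp)
    rw [this, map_zero]⟩, fun x => (neg_one_smul F x).symm⟩

/-- no reflections -/
theorem eq_one {g : E8 F} (hg : ∀ i, i ≠ 0 → g.1 (b i) = b i) : g = 1 := by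
  let d : Fin 8 → F := fun i => if i = 0 then b.repr (g.1 (b 0)) 0 else 1
  have k : ∀ i, g.1 (b i) = d i • b i := fun i => by
    by_cases e : i = 0
    · subst e
      refine b.ext_elem fun j => ?_
      by_cases e : j = 0
      · subst e
        simp [d]
      · have k := h.polar_b (g.1 (b 0)) j
        rw [← hg j e, polar_map (E_le_O g.2), h.o 0 j (Ne.symm e)] at k
        rw [(mul_eq_zero.1 k.symm).resolve_left h.c2]
        simp [Finsupp.single_apply, Ne.symm e]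
    · rw [hg i e, show d i = 1 from if_neg e, one_smul]
  have k1 := (det_diag (x := g.1.toLinearMap) k).symm.trans (H10.Co3.Om.det_eq_one good8 g.2)
  rw [Finset.prod_eq_single 0 (fun i _ e => if_neg e) (by simp)] at k1
  refine ext_b (b := b) fun i => ?_
  by_cases e : i = 0
  · rw [k, e, show d 0 = 1 from k1, one_smul]
    rfl
  · exact hg i e

/-- the centraliser of the seven-cycle -/
theorem cn_le : N2.cn (⟨pa b, h.pa_mem⟩ : E8 F) ≤ Nat.card (Sol F) := by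
  have : Finite (Sol F) := Subtype.finite
  have cm : ∀ g ∈ Subgroup.centralizer ({⟨pa b, h.pa_mem⟩} : Set (E8 F)), ∀ i, g.1 (b (cy i)) = pa b (g.1 (b i)) :=
    fun g hg i => by
      rw [← pa_b]
      exact e8_comm (Subgroup.mem_centralizer_singleton_iff.1 hg) (b i)
  refine Nat.card_le_card_of_injective (fun g => (⟨b.repr (g.1.1 (b 1)), ?_⟩ : Sol F)) fun g g' e => ?_
  · have p : ∀ j, ∑ i, b.repr (g.1.1 (b 1)) i * b.repr (g.1.1 (b j)) i = b.repr (b 1) j := fun j =>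
      mul_left_cancel₀ h.c2 (by rw [← h.polar_eq, polar_map (E_le_O g.1.2), h.polar_b])
    have p1 := p 1
    have p2 := p (cy 1)
    have p3 := p (cy (cy 1))
    have p4 := p (cy (cy (cy 1)))
    simp only [cm g.1 g.2, repr_pa] at p2 p3 p4
    generalize b.repr (g.1.1 (b 1)) = x at p1 p2 p3 p4
    rw [b.repr_self, Fin.sum_univ_eight] at p1 p2 p3 p4
    rw [Finsupp.single_eq_same] at p1
    rw [Finsupp.single_eq_of_ne (by decide)] at p2 p3 p4
    change x 0 * x 0 + x 1 * x 7 + x 2 * x 1 + x 3 * x 2 + x 4 * x 3 + x 5 * x 4 + x 6 * x 5 + x 7 * x 6 = 0 at p2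
    change x 0 * x 0 + x 1 * x 6 + x 2 * x 7 + x 3 * x 1 + x 4 * x 2 + x 5 * x 3 + x 6 * x 4 + x 7 * x 5 = 0 at p3
    change x 0 * x 0 + x 1 * x 5 + x 2 * x 6 + x 3 * x 7 + x 4 * x 1 + x 5 * x 2 + x 6 * x 3 + x 7 * x 4 = 0 at p4
    exact ⟨p1, by linear_combination p2, by linear_combination p3, by linear_combination p4⟩
  · have e1 : g.1.1 (b 1) = g'.1.1 (b 1) := b.repr.injective (DFunLike.coe_injective (congrArg Subtype.val e))
    have st : ∀ i, g.1.1 (b i) = g'.1.1 (b i) → g.1.1 (b (cy i)) = g'.1.1 (b (cy i)) := fun i k => by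
      rw [cm g.1 g.2, cm g'.1 g'.2, k]
    have e2 := st 1 e1
    have e3 := st 2 e2
    have e4 := st 3 e3
    have e5 := st 4 e4
    have e6 := st 5 e5
    have e7 := st 6 e6
    refine Subtype.ext (inv_mul_eq_one.1 (h.eq_one fun i hi => ?_)).symm
    change g'.1.1.symm (g.1.1 (b i)) = b i
    rw [LinearEquiv.symm_apply_eq]
    rcases (by decide : ∀ i : Fin 8, i = 0 ∨ i = 1 ∨ i = 2 ∨ i = 3 ∨ i = 4 ∨ i = 5 ∨ i = 6 ∨ i = 7) i with
      rfl | rfl | rfl | rfl | rfl | rfl | rfl | rfl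
    exacts [absurd rfl hi, e1, e2, e3, e4, e5, e6, e7]

theorem card_E : Nat.card (G8 F) * 2 ≤ Nat.card (E8 F) := by
  obtain ⟨n, hn⟩ := h.exists_neg
  have := finite_E8 (F := F)
  rw [Subgroup.card_eq_card_quotient_mul_card_subgroup (Subgroup.center (E8 F))]
  refine Nat.mul_le_mul_left _ ((Subgroup.one_lt_card_iff_ne_bot _).2 fun k => not_neg h.h2 hn ?_)
  exact Subgroup.mem_bot.1 (k ▸ mem_center_of_scalar hn)

variable {X : Subgroup (G8 F)} (h1 : ∀ x : E8 F, (x : G8 F) ∈ X → ∃ w, Ham w ∧ ∀ i, x.1 (b i) = sg F (w i) • b i)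
  (h2 : ∀ w, Ham w → ∃ x : E8 F, (x : G8 F) ∈ X ∧ ∀ i, x.1 (b i) = sg F (w i) • b i)
include h1 h2

/-- the elements of the normaliser are monomial -/
theorem mono {g : E8 F} (hg : (g : G8 F) ∈ Subgroup.normalizer (X : Set (G8 F))) :
    ∃ (p : Fin 8 ↪ Fin 8) (s : Fin 8 → ZMod 2), (∀ i, g.1 (b i) = sg F (s i) • b (p i)) ∧ ∀ w, Ham w → Ham (w ∘ p) := by
  have k : ∀ w, Ham w → ∃ w', Ham w' ∧ ∀ i j, b.repr (g.1 (b i)) j ≠ 0 → w j = w' i := fun w hw => by
    obtain ⟨x, hx, e⟩ := h2 w hw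
    obtain ⟨w', hw', e'⟩ := h1 (g⁻¹ * x * g) ((Subgroup.mem_normalizer_iff''.1 hg _).1 hx)
    refine ⟨w', hw', fun i j h0 => sg_inj h.h2 (mul_right_cancel₀ h0 ?_)⟩
    have k1 : x.1 (g.1 (b i)) = sg F (w' i) • g.1 (b i) := by
      rw [← map_smul, ← e']
      exact (g.1.apply_symm_apply _).symm
    have k2 : b.repr (x.1 (g.1 (b i))) j = _ := repr_mono (x := x.1.toLinearMap) (π := 1) e (g.1 (b i)) j
    rw [k1, map_smul, Finsupp.smul_apply, smul_eq_mul] at k2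
    exact k2.symm
  have k0 : ∀ i, ∃ j, b.repr (g.1 (b i)) j ≠ 0 := fun i => by
    by_contra! k0
    exact b.ne_zero i (g.1.map_eq_zero_iff.1 (b.ext_elem fun j => (k0 j).trans (by simp)))
  choose p hp using k0
  have k1 : ∀ i, g.1 (b i) = b.repr (g.1 (b i)) (p i) • b (p i) := fun i => b.ext_elem fun j => by
    by_cases e : p i = j
    · subst e
      simp
    · rw [map_smul, b.repr_self, Finsupp.smul_apply, Finsupp.single_eq_of_ne (Ne.symm e), smul_zero]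
      by_contra h0
      refine e (ham_sep fun w hw => ?_)
      obtain ⟨w', -, e'⟩ := k w hw
      exact (e' i _ (hp i)).trans (e' i _ h0).symm
  have k2 : ∀ i, ∃ s, b.repr (g.1 (b i)) (p i) = sg F s := fun i => exists_sg (mul_right_cancel₀ h.hc (by
    have := mem_O.1 (E_le_O g.2) (b i)
    rwa [k1, QuadraticMap.map_smul, h.q, h.q, smul_eq_mul, ← one_mul c, ← mul_assoc, mul_one] at this))
  choose s hs using k2
  refine ⟨⟨p, fun i j e => by_contra fun hij => ?_⟩, s, fun i => by rw [← hs]; exact k1 i, fun w hw => ?_⟩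
  · have := polar_map (E_le_O g.2) (b i) (b j)
    rw [h.o i j hij, k1 j, polar_smul_right, h.polar_b, ← e, smul_eq_mul] at this
    exact mul_ne_zero (e ▸ hp j) (mul_ne_zero h.c2 (hp i)) this
  · obtain ⟨w', hw', e'⟩ := k w hw
    exact (funext fun i => (e' i _ (hp i)).symm : w' = w ∘ p) ▸ hw'

theorem card_A : Nat.card ((Subgroup.normalizer (X : Set (G8 F))).comap (QuotientGroup.mk' _)) ≤ 430080 := by
  choose p s hs hp using fun g : (Subgroup.normalizer (X : Set (G8 F))).comap (QuotientGroup.mk' _) => h.mono h1 h2 g.2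
  let ι : Fin 4 ↪ Fin 8 := Fin.castLEEmb (by decide)
  refine (Nat.card_le_card_of_injective (fun g => (ι.trans (p g), s g)) fun g g' e => ?_).trans (le_of_eq ?_)
  · obtain ⟨e1, e2⟩ := Prod.mk.inj e
    refine Subtype.ext (ext_b (b := b) fun i => ?_)
    rw [hs, hs, e2, ham_sep fun w hw => congrFun ((hp g w hw).ext (hp g' w hw) fun k =>
      congrArg w (DFunLike.congr_fun e1 k)) i]
  · simp [Nat.card_eq_fintype_card, Nat.descFactorial]

theorem pa_norm : ((⟨pa b, h.pa_mem⟩ : E8 F) : G8 F) ∈ Subgroup.normalizer (X : Set (G8 F)) := by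
  have := finite8 (F := F)
  refine Subgroup.mem_normalizer_fintype fun n hn => ?_
  induction n using QuotientGroup.induction_on with
  | H x =>
  obtain ⟨w, hw, e⟩ := h1 x hn
  obtain ⟨y, hy, e'⟩ := h2 _ hw.cy
  have k : y * ⟨pa b, h.pa_mem⟩ = ⟨pa b, h.pa_mem⟩ * x := ext_b (b := b) fun i => by
    change y.1 (pa b (b i)) = pa b (x.1 (b i))
    rw [e, map_smul, pa_b, e', Function.comp_apply, Equiv.symm_apply_apply]
  simp_rw [← QuotientGroup.mk_mul, ← k, QuotientGroup.mk_mul, mul_inv_cancel_right]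
  exact hy

theorem good : FP3.Good (Subgroup.normalizer (X : Set (G8 F))) := by
  have := finite_E8 (F := F)
  rw [← N2.good_comap (QuotientGroup.mk' _) (QuotientGroup.mk'_surjective _)]
  have k1 := S0293.result (F := F) rfl 4 le_rfl
  rw [← coe_plusForm, ← Cfsg.Agent.H989.OutOrth.Forms.card_P good8] at k1
  have ho := FiniteField.odd_card_of_char_ne_two (F := F) fun k => h.h2 (by
    exact_mod_cast (ringChar.spec F 2).2 (k ▸ dvd_rfl))
  have hq : 2 ≤ Fintype.card F := Fintype.one_lt_card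
  have k2 : Nat.gcd 4 (Fintype.card F ^ 4 - 1) = 4 := by
    refine Nat.gcd_eq_left ((Nat.modEq_iff_dvd' (Nat.one_le_pow _ _ (by omega))).1 ?_)
    rcases (by omega : Fintype.card F % 4 = 1 ∨ Fintype.card F % 4 = 3) with k | k <;>
      simp [Nat.ModEq, Nat.pow_mod, k]
  rw [k2, Finset.prod_range_succ, Finset.prod_range_succ, Finset.prod_range_one] at k1
  have k3 := h.card_E
  have k4 := h.card_A h1 h2
  by_cases h3 : Fintype.card F = 3
  · refine N2.good_of_cn (h.pa_norm h1 h2) (h.cn_le.trans (card_sol_three F h3)) ((Nat.mul_le_mul_left _ k4).trans ?_)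
    rw [h3] at k1
    change 4 * Nat.card (G8 F) = _ at k1
    exact le_trans (by omega) k3
  · exact N2.good_of_cn (h.pa_norm h1 h2) (h.cn_le.trans (card_sol_le F h.h2))
      ((Nat.mul_le_mul_left _ k4).trans ((num (by omega) k1).trans k3))

end Fr

end GN4

open GN4 in
/-- **[GN4]** -/
theorem boxGN4 : BoxGN4 := by
  intro F _ _ A X e h2 hc hq ho hX hs hA
  have li : LinearIndependent F e := LinearMap.BilinForm.linearIndependent_of_iIsOrtho (B := polarBilin (Q8 F))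
    (LinearMap.BilinForm.iIsOrtho_def.2 ho) fun i => by
      change polar (Q8 F) (e i) (e i) ≠ 0
      rw [polar_self', hq]
      exact mul_ne_zero h2 hc
  obtain ⟨b, rfl⟩ : ∃ b : Basis (Fin 8) F (V8 F), ⇑b = e :=
    ⟨_, coe_basisOfLinearIndependentOfCardEqFinrank li (by simp)⟩
  have h : Fr b (Q8 F (b 0)) := ⟨h2, hc, hq, ho⟩
  let C : AddSubgroup (Fin 8 → ZMod 2) :=
    { carrier := {w | ∃ x : E8 F, (x : G8 F) ∈ X ∧ ∀ i, x.1 (b i) = sg F (w i) • b i}
      zero_mem' := ⟨1, X.one_mem, fun i => by rw [Pi.zero_apply, sg_zero, one_smul]; rfl⟩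
      add_mem' := fun ⟨x, hx, e⟩ ⟨y, hy, e'⟩ => ⟨x * y, X.mul_mem hx hy, fun i => by
        rw [e8_mul, e', map_smul, e, smul_smul, Pi.add_apply, sg_add, mul_comm]⟩
      neg_mem' := fun {w} k => by rwa [show -w = w from funext fun i => ZMod.neg_eq_self_mod_two _] }
  have hw : ∀ x : E8 F, (x : G8 F) ∈ X → ∃ w : Fin 8 → ZMod 2, ∀ i, x.1 (b i) = sg F (w i) • b i := fun x hx => by
    have k : ∀ i, ∃ a, x.1 (b i) = sg F a • b i := fun i => ((hX x hx).1 i).elim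
      (fun k => ⟨0, by rw [k, sg_zero, one_smul]⟩) fun k => ⟨1, by rw [k, sg_one, neg_one_smul]⟩
    choose w k using k
    exact ⟨w, k⟩
  have inj : ∀ {i : Fin 8} {s t : F}, s • b i = t • b i → s = t := fun k => smul_left_injective F (b.ne_zero _) k
  obtain ⟨σ, hσ⟩ := exists_ham (AddSubgroup.toZModSubmodule 2 C) (by
      obtain ⟨n, hn⟩ := h.exists_neg
      exact ⟨n, mk_eq_one_iff.2 ⟨_, hn⟩ ▸ X.one_mem, fun i => by rw [sg_one]; exact hn _⟩)
    (fun w ⟨x, hx, e⟩ => (hX x hx).2.imp (fun ⟨d, hd⟩ i => sg_inj h2 ((inj ((e i).symm.trans (hd _))).trans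
      (inj ((e 0).symm.trans (hd _))).symm)) fun k => (rank_Eg h2 e).symm.trans k)
    fun i j hij => by
      obtain ⟨x, hx, c, e1, e2⟩ := hs i j hij
      obtain ⟨w, e⟩ := hw x hx
      refine ⟨w, ⟨x, hx, e⟩, fun k => h2 ?_⟩
      have k1 := inj ((e i).symm.trans e1)
      have k2 := inj ((e j).symm.trans e2)
      have k3 := sg_sq (R := F) (w i)
      rw [← k, k1] at k2
      rw [k1] at k3
      linear_combination c * k2 - 2 * k3
  have hb : ∀ i, b.reindex σ.symm i = b (σ i) := fun i => b.reindex_apply ..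
  have h' : Fr (b.reindex σ.symm) (Q8 F (b 0)) :=
    ⟨h2, hc, fun i => by rw [hb, hq], fun i j k => by rw [hb, hb, ho _ _ (σ.injective.ne k)]⟩
  rw [hA]
  refine h'.good (fun x hx => ?_) fun w k => ?_
  · obtain ⟨w, e⟩ := hw x hx
    exact ⟨w ∘ σ, (hσ w).1 ⟨x, hx, e⟩, fun i => by rw [hb, e]; rfl⟩
  · obtain ⟨x, hx, e⟩ := (hσ (w ∘ σ.symm)).2 (by rwa [Function.comp_assoc, σ.symm_comp_self, Function.comp_id])
    exact ⟨x, hx, fun i => by rw [hb, e, Function.comp_apply, σ.symm_apply_apply]⟩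

end Cfsg.Agent.N2C.D4
end

-- part: N2/Cl/D4/B44_mg
section

end

-- part: N2/Cent/X/Main
section
prune_inst 0x2110464030c0000000000582112020244c00019000200c00cc2208400b01632a008221400e8010000248a20110050020000800d040000000000004000005010000a8120031100008c00016800180000000000000000000000000000000010004000000000
set_option linter.all false
open scoped Cfsg.Agent.FastGrp

-- part: N2/Cent/X/Base
section
/-!
# N2 (S3519), box `Cent`: tools and the alternating groups (helper76)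
-/

set_option autoImplicit false

namespace Cfsg.Agent.N2.CentX

open Cfsg Cfsg.Agent.FP3 Subgroup

/-- an element with centraliser of order at most `c` -/
def Sm (G : Type*) [Group G] (c : ℕ) : Prop := ∃ x : G, Nat.card (centralizer ({x} : Set G)) ≤ c

section tool

variable {G H : Type*} [Group G] [Group H]

theorem Sm.mono {c d : ℕ} (h : Sm G c) (hd : c ≤ d) : Sm G d := h.imp fun _ hx => hx.trans hd

theorem Sm.row {c : ℕ} (h : Sm G c) (hc : c ^ 3 ≤ Nat.card G) : CentRow G :=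
  h.imp fun _ hx => (Nat.pow_le_pow_left hx 3).trans hc

theorem Sm.row' {c n : ℕ} (h : Sm H c) (e : G ≃* H) (hn : Nat.card G = n) (hc : c ^ 3 ≤ n) : CentRow G :=
  centRow_congr e.symm (h.row (by rw [← Nat.card_congr e.toEquiv, hn]; exact hc))

theorem cent_le_of_inj [Finite G] (ι : H →* G) (hι : Function.Injective ι) (x : H) :
    Nat.card (centralizer ({x} : Set H)) ≤ Nat.card (centralizer ({ι x} : Set G)) := by
  refine Nat.card_le_card_of_injective (fun g => ⟨ι g, mem_centralizer_singleton_iff.2 ?_⟩) fun a b h => ?_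
  · rw [← map_mul, ← map_mul, mem_centralizer_singleton_iff.1 g.2]
  · exact Subtype.ext (hι (Subtype.mk.inj h))

theorem cent_zpowers (x : G) : centralizer ((zpowers x : Subgroup G) : Set G) = centralizer {x} := by
  refine le_antisymm (centralizer_le (by simp)) fun c hc => mem_centralizer_iff.2 fun w hw => ?_
  obtain ⟨i, rfl⟩ := mem_zpowers_iff.1 hw
  have h : Commute x c := (mem_centralizer_singleton_iff.1 hc).symm
  exact h.zpow_left i

/-- a self-centralising cyclic subgroup -/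
theorem sm_of_cyclic {c : ℕ} (h : ∃ K : Subgroup G, IsCyclic K ∧ Nat.card K = c ∧ centralizer (K : Set G) = K) : Sm G c := by
  obtain ⟨K, hc, hm, hK⟩ := h
  obtain ⟨⟨x, hx⟩, hg⟩ := hc.exists_generator
  have h1 : zpowers x = K := le_antisymm (zpowers_le.2 hx) fun y hy => by
    obtain ⟨i, hi⟩ := mem_zpowers_iff.1 (hg ⟨y, hy⟩)
    exact mem_zpowers_iff.2 ⟨i, congrArg Subtype.val hi⟩
  exact ⟨x, by rw [← cent_zpowers, h1, hK, hm]⟩

/-- an isolated subgroup -/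
theorem sm_of_iso {c : ℕ} (hc : 1 < c) {K : Subgroup G} (hK : Nat.card K = c)
    (h : ∀ y ∈ K, y ≠ 1 → centralizer ({y} : Set G) = K) : Sm G c := by
  have : Finite K := Nat.finite_of_card_ne_zero (by omega)
  have : Nontrivial K := by rw [← Finite.one_lt_card_iff_nontrivial, hK]; exact hc
  obtain ⟨⟨x, hx⟩, h1⟩ := exists_ne (1 : K)
  exact ⟨x, by rw [h x hx fun k => h1 (Subtype.ext k), hK]⟩

/-- all elements of prime order `p` -/
theorem sm_of_prime {n p c : ℕ} (hn : Nat.card G = n) (h0 : n ≠ 0) (hp : p.Prime) (hd : p ∣ n)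
    (h : ∀ x : G, orderOf x = p → Nat.card (centralizer ({x} : Set G)) ≤ c) : Sm G c := by
  have : Finite G := Nat.finite_of_card_ne_zero (hn ▸ h0)
  have : Fact p.Prime := ⟨hp⟩
  obtain ⟨x, hx⟩ := exists_prime_orderOf_dvd_card' (G := G) p (hn ▸ hd)
  exact ⟨x, h x hx⟩

end tool

section alt

theorem exists_cycle {n m : ℕ} (hm : m ≤ n) (h2 : 2 ≤ m) (ho : Odd m) :
    Sm (alternatingGroup (Fin n)) ((n - m).factorial * m) := by
  obtain ⟨g, hg⟩ := (Equiv.Perm.exists_with_cycleType_iff (α := Fin n) (m := {m})).2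
    ⟨by rw [Multiset.sum_singleton, Fintype.card_fin]; exact hm, fun a ha => by
      rw [Multiset.mem_singleton] at ha
      omega⟩
  have hs : Equiv.Perm.sign g = 1 := by
    rw [Equiv.Perm.sign_of_cycleType, hg, Multiset.sum_singleton, Multiset.card_singleton]
    exact ho.add_one.neg_one_pow
  refine ⟨⟨g, Equiv.Perm.mem_alternatingGroup.2 hs⟩, (cent_le_of_inj (alternatingGroup (Fin n)).subtype
    (subtype_injective _) _).trans (le_of_eq ?_)⟩
  change Nat.card (centralizer ({g} : Set (Equiv.Perm (Fin n)))) = _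
  rw [Equiv.Perm.nat_card_centralizer, hg]
  simp only [_root_.Fintype.card_fin, _root_.Multiset.sum_singleton, _root_.Multiset.prod_singleton, _root_.Multiset.toFinset_singleton, _root_.Multiset.nodup_singleton, _root_.Finset.prod_singleton, _root_.Multiset.mem_singleton, _root_.Multiset.count_eq_one_of_mem, _root_.Nat.factorial_one, _root_.mul_one]

theorem sm_alt {n : ℕ} (hn : 5 ≤ n) : Sm (alternatingGroup (Fin n)) (2 * ((n - 1) / 2) + 1) := by
  refine (exists_cycle (m := 2 * ((n - 1) / 2) + 1) (by omega) (by omega) (odd_two_mul_add_one _)).mono (le_of_eq ?_)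
  have h : n - (2 * ((n - 1) / 2) + 1) = 0 ∨ n - (2 * ((n - 1) / 2) + 1) = 1 := by omega
  rcases h with h | h <;> rw [h] <;> simp

/-- the three-cycle -/
def c3 : Equiv.Perm (Fin 5) := Equiv.swap 0 1 * Equiv.swap 1 2

theorem c3_cent : ∀ g : Equiv.Perm (Fin 5), Equiv.Perm.sign g = 1 → g * c3 = c3 * g → g = 1 ∨ g = c3 ∨ g = c3 * c3 := by
  decide +kernel

theorem c3_sign : Equiv.Perm.sign c3 = 1 := by decide +kernel

theorem sm_five : Sm (alternatingGroup (Fin 5)) 3 := by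
  refine ⟨⟨c3, Equiv.Perm.mem_alternatingGroup.2 c3_sign⟩, ?_⟩
  have h3 : ({1, c3, c3 * c3} : Set (Equiv.Perm (Fin 5))).ncard ≤ 3 :=
    (Set.ncard_insert_le _ _).trans (Nat.succ_le_succ ((Set.ncard_insert_le _ _).trans (by rw [Set.ncard_singleton])))
  refine le_trans ?_ h3
  rw [← Nat.card_coe_set_eq]
  exact Nat.card_le_card_of_injective (fun g => ⟨g.1.1, c3_cent _ (Equiv.Perm.mem_alternatingGroup.1 g.1.2)
    (congrArg Subtype.val (mem_centralizer_singleton_iff.1 g.2))⟩) fun a b h =>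
    Subtype.ext (Subtype.ext (Subtype.mk.inj h))

theorem card_alt {n : ℕ} (hn : 2 ≤ n) : 2 * Nat.card (alternatingGroup (Fin n)) = n.factorial := by
  have : Nontrivial (Fin n) := Fin.nontrivial_iff_two_le.2 hn
  rw [two_mul_nat_card_alternatingGroup, Nat.card_perm, Nat.card_eq_fintype_card, Fintype.card_fin]

theorem cube_le (k : ℕ) : 2 * (k + 7) ^ 3 ≤ (k + 7).factorial := by
  induction k with
  | zero => decide
  | succ k ih =>
    rw [show k + 1 + 7 = k + 7 + 1 by ring, Nat.factorial_succ]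
    refine le_trans ?_ (Nat.mul_le_mul_left _ ih)
    have h1 : (k + 7 + 1) ^ 2 ≤ (k + 7) ^ 3 := by linarith only [Nat.zero_le (k ^ 3), _root_.sq_nonneg (↑k : ℤ), _root_.Nat.cast_nonneg (α := ℤ) (k)]
    calc 2 * (k + 7 + 1) ^ 3 = (k + 7 + 1) * (2 * (k + 7 + 1) ^ 2) := by ring
      _ ≤ _ := Nat.mul_le_mul_left _ (Nat.mul_le_mul_left _ h1)

theorem row_alt {n : ℕ} (hn : 5 ≤ n) : CentRow (alternatingGroup (Fin n)) := by
  have h := card_alt (n := n) (by omega)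
  obtain rfl | rfl | h7 : n = 5 ∨ n = 6 ∨ 7 ≤ n := by omega
  · refine sm_five.row ?_
    rw [show Nat.factorial 5 = 120 from rfl] at h
    omega
  · refine (sm_alt hn).row ?_
    rw [show Nat.factorial 6 = 720 from rfl] at h
    omega
  · refine ((sm_alt hn).mono (d := n) (by omega)).row ?_
    obtain ⟨k, rfl⟩ : ∃ k, n = k + 7 := ⟨n - 7, by omega⟩
    exact Nat.le_of_mul_le_mul_left (h ▸ cube_le k) two_pos

/-- **the alternating groups** -/
theorem cent_alt {T : Type*} [Group T] (h : IsAlternating T) : CentRow T := by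
  obtain ⟨n, hn, ⟨e⟩⟩ := h
  exact centRow_congr e.symm (row_alt hn)

end alt

end Cfsg.Agent.N2.CentX
end

-- part: N2/Cent/X/Exc
section
/-!
# N2 (S3519), box `Cent`: the exceptional groups of Lie type (helper76)
-/

set_option autoImplicit false

namespace Cfsg.Agent.N2.CentX

open Cfsg Cfsg.Lie Cfsg.Agent.FP3 Subgroup Cfsg.Agent.H129.CycT

section num

variable {q : ℕ}

/-- `q ^ b - q ^ a + 1` -/
def ph (q a b : ℕ) : ℕ := q ^ b - q ^ a + 1

theorem ph_cast (hq : 2 ≤ q) {a b : ℕ} (h : a ≤ b) : (ph q a b : ℤ) = 1 - (q : ℤ) ^ a + (q : ℤ) ^ b := by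
  have h1 : q ^ a ≤ q ^ b := Nat.pow_le_pow_right (by omega) h
  unfold ph
  push_cast [Nat.cast_sub h1]
  ring

theorem ph_le (hq : 2 ≤ q) {a b : ℕ} (h : a ≤ b) : ph q a b ≤ q ^ b := by
  have h1 : q ^ a ≤ q ^ b := Nat.pow_le_pow_right (by omega) h
  have h2 : 1 ≤ q ^ a := Nat.one_le_pow _ _ (by omega)
  unfold ph
  omega

theorem lt_ph (hq : 2 ≤ q) {a b : ℕ} (h : a < b) : q ^ a < ph q a b := by
  have h1 : q ^ (a + 1) ≤ q ^ b := Nat.pow_le_pow_right (by omega) h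
  have h2 : q ^ a * 2 ≤ q ^ (a + 1) := by rw [pow_succ]; exact Nat.mul_le_mul_left _ hq
  unfold ph
  omega

theorem one_lt_ph (hq : 2 ≤ q) {a b : ℕ} (h : a < b) : 1 < ph q a b :=
  lt_of_le_of_lt (Nat.one_le_pow _ _ (by omega)) (lt_ph hq h)

theorem sub_pos (hq : 2 ≤ q) (k : ℕ) : 0 < q ^ (k + 1) - 1 :=
  Nat.sub_pos_of_lt (Nat.one_lt_pow (by omega) (by omega))

theorem phi3_le (hq : 2 ≤ q) : q ^ 2 + q + 1 ≤ q ^ 3 := by
  obtain ⟨k, rfl⟩ : ∃ k, q = k + 2 := ⟨q - 2, by omega⟩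
  linarith only [Nat.zero_le (k ^ 3), _root_.sq_nonneg (↑k : ℤ), _root_.Nat.cast_nonneg (α := ℤ) (k)]

theorem succ_le (hq : 2 ≤ q) (k : ℕ) : q ^ k + 1 ≤ q ^ (k + 1) := by
  have h1 : 1 ≤ q ^ k := Nat.one_le_pow _ _ (by omega)
  have h2 : q ^ k * 2 ≤ q ^ (k + 1) := by rw [pow_succ]; exact Nat.mul_le_mul_left _ hq
  omega

/-- the cube against the `p`-part -/
theorem cube_one (hq : 2 ≤ q) {n N k P : ℕ} (h : n = q ^ N * P) (hP : 0 < P) (hk : k * 3 ≤ N) : (q ^ k) ^ 3 ≤ n := by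
  rw [← pow_mul, h]
  exact (Nat.pow_le_pow_right (by omega) hk).trans (Nat.le_mul_of_pos_right _ hP)

theorem cube_gcd (hq : 2 ≤ q) {d n N k P : ℕ} (h : d * n = q ^ N * P) (hd : d ≤ 4) (hP : 0 < P) (hk : k * 3 + 2 ≤ N) :
    (q ^ k) ^ 3 ≤ n := by
  have h1 : 4 * (q ^ k) ^ 3 ≤ q ^ N := by
    refine le_trans ?_ (Nat.pow_le_pow_right (by omega) hk)
    rw [pow_add, pow_mul, mul_comm]
    exact Nat.mul_le_mul_left _ (Nat.pow_le_pow_left hq 2)
  have h2 : q ^ N ≤ 4 * n := (Nat.le_mul_of_pos_right _ hP).trans (h ▸ Nat.mul_le_mul_right _ hd)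
  exact Nat.le_of_mul_le_mul_left (h1.trans h2) (by norm_num)

end num

section tool

variable {G H : Type*} [Group G] [Group H]

theorem sm_of_exact {c : ℕ} (hc : 1 < c) (h : CycExact G c) : Sm G c := by
  obtain ⟨K, -, hK, h⟩ := h
  exact sm_of_iso hc hK h

/-- subgroups meeting an isolated torus -/
theorem sm_of_sub [Finite G] (ι : H →* G) (hι : Function.Injective ι) {c : ℕ} (hc : 1 < c) (h : CycExact G c)
    (hd : c ∣ Nat.card H) : Sm H c := by
  have : Finite H := Finite.of_injective ι hι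
  have hp := Nat.minFac_prime hc.ne'
  exact sm_of_prime rfl Nat.card_pos.ne' hp ((Nat.minFac_dvd c).trans hd) fun x hx =>
    (cent_le_of_inj ι hι x).trans (h.card_centralizer hp (Nat.minFac_dvd c) (by rw [orderOf_injective ι hι, hx])).le

end tool

variable {F : Type} [Field F] [Fintype F] {q m : ℕ}

theorem two_le (hq : Fintype.card F = q) : 2 ≤ q := hq ▸ Fintype.one_lt_card

theorem row_g2 (hq : Fintype.card F = q) (h3 : 3 ≤ q) : CentRow ↥(chevG2.group F) := by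
  have h2 := two_le hq
  refine ((sm_of_cyclic (S2371.result q hq h3)).mono (phi3_le h2)).row ?_
  rw [S1059.result hq]
  have h4 : q ^ 3 ≤ q ^ 6 - 1 := by
    have h5 := succ_le h2 3
    have h6 : q ^ (3 + 1) ≤ q ^ 6 := Nat.pow_le_pow_right (by omega) (by norm_num)
    omega
  calc (q ^ 3) ^ 3 = q ^ 6 * 1 * q ^ 3 := by ring
    _ ≤ _ := Nat.mul_le_mul (Nat.mul_le_mul_left _ (sub_pos h2 1)) h4

theorem row_f4 (hq : Fintype.card F = q) : CentRow ↥(chevF4.group F) := by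
  have h2 := two_le hq
  have p := sub_pos h2
  refine ((sm_of_exact (one_lt_ph h2 (by norm_num)) (exact_F4_12 hq (ph_cast h2 (by norm_num)))).mono
    (ph_le h2 (by norm_num))).row (cube_one h2 (N := 24) (P := (q ^ 2 - 1) * (q ^ 6 - 1) * (q ^ 8 - 1) * (q ^ 12 - 1))
      (by rw [S1062.result hq]; ring) ?_ (by norm_num))
  exact Nat.mul_pos (Nat.mul_pos (Nat.mul_pos (p 1) (p 5)) (p 7)) (p 11)

theorem row_e6 (hq : Fintype.card F = q) : CentRow ↥(chevE6.group F) := by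
  have h2 := two_le hq
  have p := sub_pos h2
  refine ((sm_of_cyclic (S2373.result q hq)).mono (d := q ^ 7) ((Nat.div_le_self _ _).trans ?_)).row
    (cube_gcd h2 (d := Nat.gcd 3 (q - 1)) (N := 36)
      (P := (q ^ 2 - 1) * (q ^ 5 - 1) * (q ^ 6 - 1) * (q ^ 8 - 1) * (q ^ 9 - 1) * (q ^ 12 - 1))
      (by rw [S1063.result hq]; ring) ((Nat.gcd_le_left _ (by norm_num)).trans (by norm_num)) ?_ (by norm_num))
  · exact (Nat.mul_le_mul (ph_le h2 (a := 2) (b := 4) (by norm_num)) (phi3_le h2)).trans (le_of_eq (by ring))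
  · exact Nat.mul_pos (Nat.mul_pos (Nat.mul_pos (Nat.mul_pos (Nat.mul_pos (p 1) (p 4)) (p 5)) (p 7)) (p 8)) (p 11)

theorem row_e7 (hq : Fintype.card F = q) : CentRow ↥(chevE7.group F) := by
  have h2 := two_le hq
  have p := sub_pos h2
  refine ((sm_of_cyclic (S2374.result q hq)).mono (d := q ^ 8) ((Nat.div_le_self _ _).trans ?_)).row
    (cube_gcd h2 (d := Nat.gcd 2 (q - 1)) (N := 63)
      (P := (q ^ 2 - 1) * (q ^ 6 - 1) * (q ^ 8 - 1) * (q ^ 10 - 1) * (q ^ 12 - 1) * (q ^ 14 - 1) * (q ^ 18 - 1))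
      (by rw [S1064.result hq]; ring) ((Nat.gcd_le_left _ (by norm_num)).trans (by norm_num)) ?_ (by norm_num))
  · exact (Nat.mul_le_mul (ph_le h2 (a := 2) (b := 4) (by norm_num)) (succ_le h2 3)).trans (le_of_eq (by ring))
  · exact Nat.mul_pos (Nat.mul_pos (Nat.mul_pos (Nat.mul_pos (Nat.mul_pos (Nat.mul_pos (p 1) (p 5)) (p 7)) (p 9))
      (p 11)) (p 13)) (p 17)

theorem row_e8 (hq : Fintype.card F = q) : CentRow ↥(chevE8.group F) := by
  have h2 := two_le hq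
  have p := sub_pos h2
  refine ((sm_of_exact (one_lt_ph h2 (by norm_num)) (exact_E8_24 hq (ph_cast h2 (by norm_num)))).mono
    (ph_le h2 (by norm_num))).row (cube_one h2 (N := 120) (P := (q ^ 2 - 1) * (q ^ 8 - 1) * (q ^ 12 - 1) * (q ^ 14 - 1) *
      (q ^ 18 - 1) * (q ^ 20 - 1) * (q ^ 24 - 1) * (q ^ 30 - 1)) (by rw [S1065.result hq]; ring) ?_ (by norm_num))
  exact Nat.mul_pos (Nat.mul_pos (Nat.mul_pos (Nat.mul_pos (Nat.mul_pos (Nat.mul_pos (Nat.mul_pos (p 1) (p 7)) (p 11))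
    (p 13)) (p 17)) (p 19)) (p 23)) (p 29)

theorem row_te6 (hq : IsPrimePow q) (hK : Fintype.card F = q ^ 2) : CentRow ↥(twistedE6 F q) := by
  have h2 := hq.two_le
  have p := sub_pos h2
  have h3 : Nat.gcd 3 (q + 1) ≤ 3 := Nat.gcd_le_left _ (by norm_num)
  refine ((sm_of_exact ?_ (exact_tE6_18 hq hK (ph_cast h2 (by norm_num)))).mono
    ((Nat.div_le_self _ _).trans (ph_le h2 (by norm_num)))).row (cube_gcd h2 (d := Nat.gcd 3 (q + 1)) (N := 36)
      (P := (q ^ 2 - 1) * (q ^ 5 + 1) * (q ^ 6 - 1) * (q ^ 8 - 1) * (q ^ 9 + 1) * (q ^ 12 - 1))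
      (by rw [S1066.result hq hK]; ring) (h3.trans (by norm_num)) ?_ (by norm_num))
  · have h4 := lt_ph h2 (a := 3) (b := 6) (by norm_num)
    have h5 : 2 ^ 3 ≤ q ^ 3 := Nat.pow_le_pow_left h2 3
    exact (Nat.le_div_iff_mul_le (Nat.gcd_pos_of_pos_left _ (by norm_num))).2 (by omega)
  · exact Nat.mul_pos (Nat.mul_pos (Nat.mul_pos (Nat.mul_pos (Nat.mul_pos (p 1) (Nat.succ_pos _)) (p 5)) (p 7))
      (Nat.succ_pos _)) (p 11)

theorem row_td4 (hq : IsPrimePow q) (hK : Fintype.card F = q ^ 3) : CentRow ↥(twistedD4 F q) := by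
  have h2 := hq.two_le
  have p := sub_pos h2
  refine ((sm_of_exact (one_lt_ph h2 (by norm_num)) (exact_tD4_12 hq hK (ph_cast h2 (by norm_num)))).mono
    (ph_le h2 (by norm_num))).row (cube_one h2 (N := 12) (P := (q ^ 2 - 1) * (q ^ 6 - 1) * (q ^ 8 + q ^ 4 + 1))
      (by rw [S1067.result hq hK]; ring) ?_ (by norm_num))
  exact Nat.mul_pos (Nat.mul_pos (p 1) (p 5)) (Nat.succ_pos _)

theorem ph_dvd (hq : 2 ≤ q) (a : ℕ) : ph q a (2 * a) ∣ q ^ (3 * a) + 1 := by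
  refine Int.natCast_dvd_natCast.1 ⟨(q : ℤ) ^ a + 1, ?_⟩
  rw [ph_cast hq (by omega)]
  push_cast
  ring

theorem row_tf4 (hK : Fintype.card F = 2 ^ (2 * m + 1)) : CentRow ↥(twistedF4 F (2 ^ m)) := by
  have hn := S1068.result hK
  have hle := H129.SuzT.twisted_le F m
  generalize 2 ^ (2 * m + 1) = q at hK hn
  have h2 := two_le hK
  have p := sub_pos h2
  refine ((sm_of_sub (inclusion hle) (inclusion_injective hle) (one_lt_ph h2 (by norm_num))
    (exact_F4_12 hK (ph_cast h2 (by norm_num))) ?_).mono (ph_le h2 (by norm_num))).row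
    (cube_one h2 (N := 12) (P := (q - 1) * (q ^ 3 + 1) * (q ^ 4 - 1) * (q ^ 6 + 1)) (by rw [hn]; ring) ?_ (by norm_num))
  · rw [hn]
    exact (ph_dvd h2 2).mul_left _
  · exact Nat.mul_pos (Nat.mul_pos (Nat.mul_pos (by omega) (Nat.succ_pos _)) (p 3)) (Nat.succ_pos _)

theorem row_ree (hK : Fintype.card F = 3 ^ (2 * m + 1)) : CentRow ↥(twistedG2 F (3 ^ m)) := by
  have hn := S1069.result hK
  have hle : twistedG2 F (3 ^ m) ≤ chevG2.group F := H129.SuzT.genSubgroup_le_group (by simp) _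
  have h3 : 3 ∣ 3 ^ (2 * m + 1) := dvd_pow_self 3 (by omega)
  generalize 3 ^ (2 * m + 1) = q at hK hn h3
  have h2 := two_le hK
  have h4 : ¬ 3 ∣ ph q 1 2 := by
    have h5 : 3 ∣ q ^ 2 - q ^ 1 := Nat.dvd_sub (h3.pow (by norm_num)) (h3.pow (by norm_num))
    unfold ph
    omega
  refine ((sm_of_sub (inclusion hle) (inclusion_injective hle) (one_lt_ph h2 (by norm_num))
    (exact_G2_6 hK (by rw [ph_cast h2 (a := 1) (b := 2) (by norm_num), pow_one]) h4) ?_).mono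
    (ph_le h2 (by norm_num))).row ?_
  · rw [hn]
    exact (ph_dvd h2 1).mul_left _
  · rw [hn]
    calc (q ^ 2) ^ 3 = q ^ 3 * 1 * q ^ 3 := by ring
      _ ≤ _ := Nat.mul_le_mul (Nat.mul_le_mul_left _ (by omega)) (Nat.le_succ _)

theorem row_sz (hm : 1 ≤ m) (hF : Fintype.card F = 2 ^ (2 * m + 1)) : CentRow ↥(Lie.Sz F (2 ^ (m + 1))) := by
  have hn := (S1163.result hm hF).1
  obtain ⟨U, -, hU, hc, -⟩ := S0333.result hm hF (ph 2 (m + 1) (2 * m + 1)) (Or.inr rfl)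
  obtain ⟨e⟩ := OddCyclic.ClaimC.SzIso.iso (F := F) hm hF
  have h1 := (sm_of_iso (one_lt_ph le_rfl (by omega)) hU hc).mono (ph_le le_rfl (by omega))
  generalize 2 ^ (2 * m + 1) = q at hF hn h1
  have h2 := two_le hF
  refine h1.row' e.symm hn ?_
  calc q ^ 3 = q ^ 2 * 1 * q := by ring
    _ ≤ _ := Nat.mul_le_mul (Nat.mul_le_mul_left _ (by omega)) (by nlinarith only [])

variable {T : Type*} [Group T]

theorem cent_g2 (h : IsoChevG2 T) : CentRow T := by
  obtain ⟨F, _, _, h3, ⟨e⟩⟩ := h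
  exact centRow_congr e.symm (row_g2 rfl h3)

theorem cent_f4 (h : IsoF4 T) : CentRow T := by
  obtain ⟨F, _, _, ⟨e⟩⟩ := h
  exact centRow_congr e.symm (row_f4 rfl)

theorem cent_e6 (h : IsoChevE6 T) : CentRow T := by
  obtain ⟨F, _, _, ⟨e⟩⟩ := h
  exact centRow_congr e.symm (row_e6 rfl)

theorem cent_e7 (h : IsoE7 T) : CentRow T := by
  obtain ⟨F, _, _, ⟨e⟩⟩ := h
  exact centRow_congr e.symm (row_e7 rfl)

theorem cent_e8 (h : IsoE8 T) : CentRow T := by
  obtain ⟨F, _, _, ⟨e⟩⟩ := h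
  exact centRow_congr e.symm (row_e8 rfl)

theorem cent_te6 (h : Iso2E6 T) : CentRow T := by
  obtain ⟨F, _, _, q, hq, hK, ⟨e⟩⟩ := h
  exact centRow_congr e.symm (row_te6 hq hK)

theorem cent_td4 (h : Iso3D4 T) : CentRow T := by
  obtain ⟨F, _, _, q, hq, hK, ⟨e⟩⟩ := h
  exact centRow_congr e.symm (row_td4 hq hK)

theorem cent_sz (h : IsoSuzuki T) : CentRow T := by
  obtain ⟨F, _, _, m, hm, hK, ⟨e⟩⟩ := h
  exact centRow_congr e.symm (row_sz hm hK)

theorem cent_ree (h : IsoRee T) : CentRow T := by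
  obtain ⟨F, _, _, m, -, hK, ⟨e⟩⟩ := h
  exact centRow_congr e.symm (row_ree hK)

theorem cent_tf4 (h : Iso2F4 T) : CentRow T := by
  obtain ⟨F, _, _, m, -, hK, ⟨e⟩⟩ := h
  exact centRow_congr e.symm (row_tf4 hK)

end Cfsg.Agent.N2.CentX
end

-- part: N2/Cent/X/SporA
section
/-!
# N2 (S3519), box `Cent`: the Tits group and nineteen sporadic groups (helper76)
-/

set_option autoImplicit false

namespace Cfsg.Agent.N2.CentX

open Cfsg Cfsg.Lie Cfsg.Agent.FP3 Subgroup Cfsg.Agent.H253.TC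

variable {T : Type} [Group T]

theorem card_of {G : Type*} [Group G] (e : T ≃* G) {n : ℕ} (hn : Nat.card T = n) : Nat.card G = n := by
  rw [← hn, Nat.card_congr e.toEquiv]

theorem cent_tits (h : IsoTits T) : CentRow T := by
  have hn := NotCT.Orders.tits h
  obtain ⟨e⟩ := h
  have hle : twistedF4 (ZMod 2) 1 ≤ chevF4.group (ZMod 2) := H129.SuzT.genSubgroup_le_group (by simp) _
  have h1 := sm_of_sub ((inclusion hle).comp ((commutator _).subtype.comp e.toMonoidHom))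
    ((inclusion_injective hle).comp ((subtype_injective _).comp e.injective)) (c := 13) (by norm_num)
    (H129.CycT.exact_F4_12 (ZMod.card 2) (by norm_num)) (by rw [hn]; norm_num)
  exact h1.row (by rw [hn]; norm_num)

theorem sm_m24 {H : Subgroup (Equiv.Perm GolayPt)} (hH : H ≤ M24) (h : 11 ∣ Nat.card H) : Sm H 11 := by
  have : Finite M24 := Nat.finite_of_card_ne_zero (by rw [S0364.result]; norm_num)
  have hi := inclusion_injective hH
  refine sm_of_prime rfl Nat.card_pos.ne' (by norm_num) h fun x hx => (cent_le_of_inj (inclusion hH) hi x).trans ?_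
  rw [card_cent_of_once (p := 11) (by norm_num) (by rw [S0364.result]; norm_num) (y := H859.M24Eleven.f)
    (by rw [orderOf_injective _ hi, hx]) H859.M24Eleven.orderOf_f, H859.M24Eleven.card_centralizer_f]

theorem cent_m11 (h : Spor.IsoM11 T) : CentRow T := by
  have hn := NotCT.Orders.m11 h
  obtain ⟨e⟩ := h
  exact (sm_m24 (H := Spor.M11) (inf_le_left.trans inf_le_left) (by rw [card_of e hn]; norm_num)).row' e hn (by norm_num)

theorem cent_m12 (h : Spor.IsoM12 T) : CentRow T := by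
  have hn := NotCT.Orders.m12 h
  obtain ⟨e⟩ := h
  exact (sm_m24 (H := Spor.M12) inf_le_left (by rw [card_of e hn]; norm_num)).row' e hn (by norm_num)

theorem cent_m22 (h : Spor.IsoM22 T) : CentRow T := by
  have hn := NotCT.Orders.m22 h
  obtain ⟨e⟩ := h
  exact (sm_m24 (H := Spor.M22) (inf_le_left.trans inf_le_left) (by rw [card_of e hn]; norm_num)).row' e hn (by norm_num)

theorem cent_m23 (h : Spor.IsoM23 T) : CentRow T := by
  have hn := NotCT.Orders.m23 h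
  obtain ⟨e⟩ := h
  exact (sm_m24 (H := Spor.M23) inf_le_left (by rw [card_of e hn]; norm_num)).row' e hn (by norm_num)

theorem cent_m24 (h : Spor.IsoM24 T) : CentRow T := by
  have hn := NotCT.Orders.m24 h
  obtain ⟨e⟩ := h
  exact (sm_m24 le_rfl (by rw [card_of e hn]; norm_num)).row' e hn (by norm_num)

theorem cent_j1 (h : Spor.IsoJ1 T) : CentRow T := by
  have hn := NotCT.Orders.j1 h
  obtain ⟨e⟩ := h
  exact (sm_of_prime (card_of (by exact e) hn) (by norm_num) (p := 5) (by norm_num) (by norm_num) fun x hx =>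
    (H1.J1Real.card_cent_five hx).le).row' e hn (by norm_num)

theorem cent_j2 (h : Spor.IsoJ2 T) : CentRow T := by
  have hn := NotCT.Orders.j2 h
  obtain ⟨e⟩ := h
  obtain ⟨f⟩ := J2.HundredGens.J2_iso (card_of e hn)
  refine Sm.row' (c := 7) ⟨⟨_, OddHalf.Table.OutJ2.x_mem⟩, card_le_of_pow ?_ (by norm_num) fun c hc => ?_⟩ (e.trans f) hn
    (by norm_num)
  · rw [Subgroup.orderOf_mk]
    exact OddHalf.Table.OutJ2.order_x
  · obtain ⟨i, hi⟩ := OddHalf.Table.OutJ2.cent_x c.2 (congrArg Subtype.val hc)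
    exact ⟨i, Subtype.ext hi⟩

theorem cent_j3 (h : Spor.IsoJ3 T) : CentRow T := by
  have hn := NotCT.Orders.j3 h
  exact (sm_of_prime hn (by norm_num) (p := 19) (by norm_num) (by norm_num) fun x hx =>
    (H898.J3Cent.card_nineteen h hx).le).row (by rw [hn]; norm_num)

theorem cent_j4 (h : Spor.IsoJ4 T) : CentRow T := by
  have hn := NotCT.Orders.j4 h
  obtain ⟨e⟩ := h
  exact (sm_of_prime (card_of e hn) (by norm_num) (p := 43) (by norm_num) (by norm_num) fun x hx =>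
    (H723.Spor.JFour.cent_big (by norm_num) hx).le).row' e hn (by norm_num)

theorem cent_co1 (h : Spor.IsoCo1 T) : CentRow T := by
  have hn := NotCT.Orders.co1 h
  obtain ⟨e⟩ := h
  exact Sm.row' ⟨_, H604.Cop.Conway.card_cent_s23⟩ e hn (by norm_num)

theorem cent_co2 (h : Spor.IsoCo2 T) : CentRow T := by
  have hn := NotCT.Orders.co2 h
  obtain ⟨e⟩ := h
  exact Sm.row' (exists_cent_co0 (H := Spor.Co2) inf_le_left (by rw [card_of e hn]; norm_num)) e hn (by norm_num)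

theorem cent_co3 (h : Spor.IsoCo3 T) : CentRow T := by
  have hn := NotCT.Orders.co3 h
  obtain ⟨e⟩ := h
  exact Sm.row' (exists_cent_co0 (H := Spor.Co3) inf_le_left (by rw [card_of e hn]; norm_num)) e hn (by norm_num)

theorem cent_mcl (h : Spor.IsoMcL T) : CentRow T := by
  obtain ⟨_, -, hn, ⟨L⟩⟩ := TypeM.FactsMcL.facts h
  exact Sm.row (exists_cent_mt L (p := 7) (by norm_num) (by norm_num) (by norm_num) (by norm_num))
    (by rw [hn]; norm_num [Nat.factorial])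

theorem cent_hs (h : Spor.IsoHS T) : CentRow T := by
  have hn := NotCT.Orders.hs h
  exact (sm_of_prime hn (by norm_num) (p := 11) (by norm_num) (by norm_num) fun x hx =>
    (H904.HSIso.card_eleven h hx).le).row (by rw [hn]; norm_num)

theorem cent_suz (h : Spor.IsoSuz T) : CentRow T := by
  have hn := NotCT.Orders.suz h
  obtain ⟨e⟩ := h
  exact Sm.row' ⟨_, card_le_of_pow OddHalf.Table.OutSuz.order_x (by norm_num) OddHalf.Table.OutSuz.cent_x⟩ e hn
    (by norm_num)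

theorem cent_he (h : Spor.IsoHe T) : CentRow T := by
  have hn := NotCT.Orders.he h
  obtain ⟨e⟩ := h
  exact Sm.row' ⟨_, CpAutHe.Bound.card1⟩ e hn (by norm_num)

theorem cent_ru (h : Spor.IsoRu T) : CentRow T := by
  have hn := NotCT.Orders.ru h
  obtain ⟨e⟩ := h
  exact Sm.row' ⟨_, card_le_of_pow OddHalf.Table.OutRu.orderOf_x (by norm_num) OddHalf.Table.OutRu.cent_x'⟩
    (e.trans RuLat.Main.equiv) hn (by norm_num)

theorem cent_on (h : Spor.IsoON T) : CentRow T := by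
  have hn := NotCT.Orders.on h
  obtain ⟨e⟩ := h
  exact (sm_of_prime (card_of e hn) (by norm_num) (p := 5) (by norm_num) (by norm_num) fun x hx =>
    (H474.ONC.card_cent_five hx).le).row' e hn (by norm_num)

theorem cent_ly (h : Spor.IsoLy T) : CentRow T := by
  obtain ⟨_, -, hn, ⟨L⟩⟩ := TypeM.FactsLy.facts h
  exact Sm.row (exists_cent_mt L (p := 11) (by norm_num) (by norm_num) (by norm_num) (by norm_num))
    (by rw [hn]; norm_num [Nat.factorial])

end Cfsg.Agent.N2.CentX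
end

-- part: N2/Cent/X/SporB
section
/-!
# N2 (S3519), box `Cent`: the sporadic groups; the rows of task N2-Cent-X (helper76)
-/

set_option autoImplicit false

namespace Cfsg.Agent.N2.CentX

open Cfsg Cfsg.Lie Cfsg.Agent.FP3 Subgroup Cfsg.Agent.H253.TC

variable {T : Type} [Group T]

theorem cent_fi22 (h : Spor.IsoFi22 T) : CentRow T := by
  have hn := NotCT.Orders.fi22 h
  obtain ⟨e⟩ := h
  exact (sm_of_prime hn (by norm_num) (p := 13) (by norm_num) (by norm_num) fun x hx =>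
    (H713.Spor.Fi22.cent_13 e hx).le).row (by rw [hn]; norm_num)

theorem cent_fi23 (h : Spor.IsoFi23 T) : CentRow T := by
  have hn := NotCT.Orders.fi23 h
  obtain ⟨e⟩ := h
  refine (sm_of_prime (card_of e hn) (by norm_num) (p := 23) (c := 23) (by norm_num) (by norm_num) fun x hx => ?_).row' e hn
    (by norm_num)
  have h1 : Nat.card (zpowers x) = 23 := by rw [Nat.card_zpowers, hx]
  rw [← cent_zpowers, (H839.Fi23.twentythree_main (zpowers x) h1).2, h1]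

theorem cent_fi24 (h : Spor.IsoFi24' T) : CentRow T := by
  have hn := NotCT.Orders.fi24 h
  obtain ⟨e⟩ := h
  have := R08.FiTwentyFour.finite_Fi24
  have hi := subtype_injective (_root_.commutator Spor.Fi24)
  exact (sm_of_prime (card_of e hn) (by norm_num) (p := 5) (by norm_num) (by norm_num) fun x hx =>
    (cent_le_of_inj _ hi x).trans (H187.FiOdd.card_cent_five (by rw [orderOf_injective _ hi, hx]))).row' e hn (by norm_num)

theorem cent_hn (h : Spor.IsoHN T) : CentRow T := by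
  have hn := NotCT.Orders.hn h
  obtain ⟨e⟩ := h
  obtain ⟨x, -, hx⟩ := H845.HNNineteen.hn_nineteen
  exact Sm.row' ⟨x, hx.le⟩ e hn (by norm_num)

theorem cent_th (h : Spor.IsoTh T) : CentRow T := by
  have hn := NotCT.Orders.th h
  obtain ⟨e⟩ := h
  have : Finite Spor.Th := Nat.finite_of_card_ne_zero (by rw [card_of e hn]; norm_num)
  exact Sm.row' ⟨_, H951.TCRowTh.card_le (H723.Spor.Th.setup KFacts.Th.Main.ctx H723.Spor.Th.hone)⟩ e hn (by norm_num)

theorem cent_b (h : Spor.IsoB T) : CentRow T := by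
  have hn := NotCT.Orders.b h
  obtain ⟨e⟩ := h
  have := H848.MonsterSetup.finite
  obtain ⟨Q, z, eta, pi, x, t, hch, hx, htQ, ht, hxt⟩ := exists_bm
  obtain ⟨-, -, ⟨f⟩, -⟩ := H973.BabyCov.cover_of_type_two hch htQ ht
  let φ : centralizer ({t} : Set Spor.Monster) →* Spor.BabyMonster := f.toMonoidHom.comp (QuotientGroup.mk' (center _))
  have hk : φ.ker ≤ center _ := fun g hg => by
    have h1 : f (QuotientGroup.mk' _ g) = 1 := hg
    rwa [map_eq_one_iff f f.injective, ← MonoidHom.mem_ker, QuotientGroup.ker_mk'] at h1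
  let y : centralizer ({t} : Set Spor.Monster) := ⟨x, mem_centralizer_singleton_iff.2 hxt⟩
  exact Sm.row' ⟨φ y, ((card_cent_le_of_central φ (f.surjective.comp (QuotientGroup.mk'_surjective _)) hk y).trans
    (cent_le_of_inj (centralizer ({t} : Set Spor.Monster)).subtype (subtype_injective _) y)).trans hx⟩ e hn (by norm_num)

theorem cent_m (h : Spor.IsoM T) : CentRow T := by
  have hn := NotCT.Orders.m h
  obtain ⟨e⟩ := h
  obtain ⟨Q, z, eta, pi, x, t, -, hx, -⟩ := exists_bm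
  exact Sm.row' ⟨x, hx⟩ e hn (by norm_num)

/-- **the sporadic groups** -/
theorem cent_spor (h : IsSporadicGroup T) : CentRow T := by
  rcases h with h | h | h | h | h | h | h | h | h | h | h | h | h | h | h | h | h | h | h | h | h | h | h | h | h | h
  exacts [cent_m11 h, cent_m12 h, cent_m22 h, cent_m23 h, cent_m24 h, cent_j1 h, cent_j2 h, cent_j3 h, cent_j4 h,
    cent_co1 h, cent_co2 h, cent_co3 h, cent_mcl h, cent_hs h, cent_suz h, cent_he h, cent_ru h, cent_on h, cent_ly h,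
    cent_fi22 h, cent_fi23 h, cent_fi24 h, cent_hn h, cent_th h, cent_b h, cent_m h]

/-- **all rows of `Cent`** from the six classical rows -/
theorem all_of_cl (l : CRow fL) (s : CRow fS) (u : CRow fU) (o : CRow fO) (p : CRow fP) (m : CRow fM) : All CRow where
  a _ _ _ _ _ h := cent_alt h
  l := l
  s := s
  u := u
  o := o
  p := p
  m := m
  g2 _ _ _ _ _ h := cent_g2 h
  f4 _ _ _ _ _ h := cent_f4 h
  e6 _ _ _ _ _ h := cent_e6 h
  e7 _ _ _ _ _ h := cent_e7 h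
  e8 _ _ _ _ _ h := cent_e8 h
  te6 _ _ _ _ _ h := cent_te6 h
  td4 _ _ _ _ _ h := cent_td4 h
  sz _ _ _ _ _ h := cent_sz h
  ree _ _ _ _ _ h := cent_ree h
  tf4 _ _ _ _ _ h := cent_tf4 h
  tits _ _ _ _ _ h := cent_tits h
  spor _ _ _ _ _ h := cent_spor h

end Cfsg.Agent.N2.CentX
end

-- part: N2/Cent/Cl/Base
section
/-!
# N2 (S3519), box `Cent` for the classical groups: averaging and arithmetic (helper97)
-/

set_option autoImplicit false
set_option linter.unusedSectionVars false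

namespace Cfsg.Agent.N2.CentCl

open Cfsg.Agent.FP3 Subgroup Finset

section grp

variable {G : Type*} [Group G] [Finite G]

theorem sum_cn [Fintype G] : ∑ g : G, cn g = Nat.card (ConjClasses G) * Nat.card G := by
  rw [← card_comm_eq_card_conjClasses_mul_card, Nat.card_congr (Equiv.subtypeProdEquivSigmaSubtype Commute), Nat.card_sigma]
  refine Finset.sum_congr rfl fun g _ => Nat.card_congr (Equiv.subtypeEquivRight fun x => ?_)
  rw [mem_centralizer_singleton_iff]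
  exact eq_comm

/-- some centraliser has at most as many elements as there are classes -/
theorem exists_cn_le (G : Type*) [Group G] [Finite G] : ∃ g : G, cn g ≤ Nat.card (ConjClasses G) := by
  have := Fintype.ofFinite G
  refine (Finset.exists_le_of_sum_le (s := univ) (g := fun _ => Nat.card (ConjClasses G)) univ_nonempty ?_).imp fun g h => h.2
  rw [sum_cn, sum_const, card_univ, smul_eq_mul, mul_comm, Nat.card_eq_fintype_card (α := G)]

theorem exists_cn_lt {k : ℕ} (hk : Nat.card (ConjClasses G) ≤ k) (h : k < Nat.card G) : ∃ g : G, cn g < k := by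
  have := Fintype.ofFinite G
  by_contra hc
  push Not at hc
  have h1 : cn (1 : G) = Nat.card G := by
    unfold cn
    rw [show centralizer ({1} : Set G) = ⊤ from eq_top_iff.2 fun x _ => mem_centralizer_singleton_iff.2 (by simp), card_top]
  have h2 : ∑ _g : G, k < ∑ g : G, cn g := Finset.sum_lt_sum (fun g _ => hc g) ⟨1, mem_univ _, h1 ▸ h⟩
  rw [sum_cn, sum_const, card_univ, smul_eq_mul, mul_comm, ← Nat.card_eq_fintype_card] at h2
  exact absurd (Nat.mul_le_mul_right _ hk) h2.not_ge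

theorem cn_le_map {H : Type*} [Group H] [Finite H] (f : G →* H) (hf : Function.Injective f) (g : G) : cn g ≤ cn (f g) :=
  Nat.card_le_card_of_injective (fun x => (⟨f x.1, by
    rw [mem_centralizer_singleton_iff, ← map_mul, ← map_mul, mem_centralizer_singleton_iff.1 x.2]⟩ : centralizer ({f g} : Set H)))
    fun _ _ h => Subtype.ext (hf (Subtype.mk.inj h))

theorem cube_le {a c B d D N P : ℕ} (ha : 0 < a) (hd : 0 < d) (h1 : a * c ≤ B) (h2 : d * N = P) (h3 : d ≤ D)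
    (h4 : B ^ 3 * D ≤ a ^ 3 * P) : c ^ 3 ≤ N := by
  refine Nat.le_of_mul_le_mul_left ?_ (Nat.mul_pos (pow_pos ha 3) hd)
  calc a ^ 3 * d * c ^ 3 = (a * c) ^ 3 * d := by ring
    _ ≤ B ^ 3 * D := Nat.mul_le_mul (Nat.pow_le_pow_left h1 3) h3
    _ ≤ a ^ 3 * P := h4
    _ = _ := by rw [← h2, mul_assoc]

/-- an element upstairs with a small centraliser -/
theorem row_quot (N : Subgroup G) [N.Normal] (g : G) {a B d D P : ℕ} (ha : 0 < a) (hd : 0 < d) (h1 : a * cn g ≤ B)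
    (h2 : d * Nat.card (G ⧸ N) = P) (h3 : d ≤ D) (h4 : B ^ 3 * D ≤ a ^ 3 * P) : CentRow (G ⧸ N) :=
  ⟨g, (Nat.pow_le_pow_left (H659.BFC.card_centralizer_quotient_le N g) 3).trans (cube_le ha hd h1 h2 h3 h4)⟩

/-- few classes upstairs -/
theorem row_k (N : Subgroup G) [N.Normal] {a B d D P : ℕ} (ha : 0 < a) (hd : 0 < d) (h1 : a * Nat.card (ConjClasses G) ≤ B)
    (h2 : d * Nat.card (G ⧸ N) = P) (h3 : d ≤ D) (h4 : B ^ 3 * D ≤ a ^ 3 * P) : CentRow (G ⧸ N) :=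
  let ⟨g, hg⟩ := exists_cn_le G
  row_quot N g ha hd ((Nat.mul_le_mul_left _ hg).trans h1) h2 h3 h4

/-- a self-centralising subgroup of prime order -/
theorem row_self {r : ℕ} (hr : r.Prime) (h : ∃ R : Subgroup G, Nat.card R = r ∧ centralizer (R : Set G) = R)
    (hG : r ^ 3 ≤ Nat.card G) : CentRow G := by
  obtain ⟨R, h1, h2⟩ := h
  have : Fact r.Prime := ⟨hr⟩
  obtain ⟨t, rfl⟩ := (Subgroup.isCyclic_iff_exists_zpowers_eq_top _).1 (isCyclic_of_prime_card h1)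
  refine ⟨t, ?_⟩
  rwa [← centralizer_closure, ← zpowers_eq_closure, h2, h1]

end grp

section arith

/-- the product in the order of the symplectic and orthogonal groups -/
def Pe (q m : ℕ) : ℕ := ∏ i ∈ range m, (q ^ (2 * (i + 1)) - 1)

theorem Pe_mono {q q' m m' : ℕ} (h2 : 2 ≤ q) (hq : q ≤ q') (hm : m ≤ m') : Pe q m ≤ Pe q' m' := by
  refine (Finset.prod_le_prod' (g := fun i => q' ^ (2 * (i + 1)) - 1) fun i _ => Nat.sub_le_sub_right (Nat.pow_le_pow_left hq _) 1).trans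
    (Finset.prod_le_prod_of_subset_of_one_le' (range_subset_range.2 hm) fun i _ _ => ?_)
  exact Nat.le_sub_one_of_lt (Nat.one_lt_pow (by omega) (by omega))

theorem Pe_two {q a : ℕ} (h : q ^ 2 = a + 1) : Pe q 2 = a * (a * (a + 2)) := by
  have h4 : q ^ (2 * (1 + 1)) = a * (a + 2) + 1 := by rw [pow_mul, h]; ring
  simp only [Pe, prod_range_succ, prod_range_zero, zero_add, mul_one, one_mul, h, h4, Nat.add_sub_cancel]

theorem pw {q A C P e f s : ℕ} (hq : 1 ≤ q) (he : e * 3 ≤ f + s) (h : A * q ^ s ≤ C * P) : A * (q ^ e) ^ 3 ≤ C * (q ^ f * P) :=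
  calc A * (q ^ e) ^ 3 ≤ A * q ^ (f + s) := Nat.mul_le_mul_left _ (by rw [← pow_mul]; exact Nat.pow_le_pow_right hq he)
    _ = q ^ f * (A * q ^ s) := by ring
    _ ≤ q ^ f * (C * P) := Nat.mul_le_mul_left _ h
    _ = _ := by ring

theorem sp_odd {q m : ℕ} (hq : 3 ≤ q) (hm : 2 ≤ m) : (2 * q ^ m) ^ 3 * 2 ≤ 1 ^ 3 * (q ^ (m ^ 2) * Pe q m) := by
  obtain ⟨a, ha⟩ : ∃ a, q ^ 2 = a + 1 := ⟨q ^ 2 - 1, by have := Nat.pow_le_pow_left hq 2; omega⟩
  have h8 : 8 ≤ a := by have := Nat.pow_le_pow_left hq 2; omega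
  have h1 : 16 * q ^ 2 ≤ 1 ^ 3 * Pe q m := by
    have h2 := Pe_mono (by omega : 2 ≤ q) le_rfl hm
    rw [Pe_two ha] at h2
    have h3 : 8 * (8 * (a + 2)) ≤ a * (a * (a + 2)) := Nat.mul_le_mul h8 (Nat.mul_le_mul_right _ h8)
    omega
  have := pw (e := m) (f := m ^ 2) (by omega) (by nlinarith only [hm]) h1
  calc _ = 16 * (q ^ m) ^ 3 := by ring
    _ ≤ _ := this

theorem sp_even {q m : ℕ} (hm : 2 ≤ m) (h : 8 ≤ q ∨ (q = 4 ∧ 3 ≤ m) ∨ (q = 2 ∧ 4 ≤ m)) :
    (76 * q ^ m) ^ 3 * 1 ≤ 5 ^ 3 * (q ^ (m ^ 2) * Pe q m) := by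
  rw [mul_one, mul_pow]
  rcases h with hq | ⟨rfl, h⟩ | ⟨rfl, h⟩
  · obtain ⟨a, ha⟩ : ∃ a, q ^ 2 = a + 1 := ⟨q ^ 2 - 1, by have := Nat.pow_le_pow_left hq 2; omega⟩
    have h8 : 63 ≤ a := by have := Nat.pow_le_pow_left hq 2; omega
    refine pw (s := 2) (by omega) (by nlinarith only [hm]) ?_
    have h2 := Pe_mono (by omega : 2 ≤ q) le_rfl hm
    rw [Pe_two ha] at h2
    have h3 : a * (63 * (63 + 2)) ≤ a * (a * (a + 2)) := Nat.mul_le_mul_left _ (Nat.mul_le_mul h8 (by omega))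
    omega
  · refine pw (s := 0) (by omega) (by nlinarith only [h]) ?_
    have h2 := Pe_mono (by omega : 2 ≤ 4) le_rfl hm
    rw [Pe_two (a := 15) rfl] at h2
    omega
  · have h2 := Pe_mono (by omega : 2 ≤ 2) le_rfl hm
    rw [Pe_two (a := 3) rfl] at h2
    obtain ⟨f, hf⟩ : ∃ f, m ^ 2 = m * 3 + f ∧ 4 ≤ f := ⟨m ^ 2 - m * 3, by have : m * 3 + 4 ≤ m ^ 2 := by nlinarith only [h]
                                                                          omega⟩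
    have h3 : 2835 ≤ Pe 2 m := (by decide : 2835 ≤ Pe 2 3).trans (Pe_mono le_rfl le_rfl (by omega))
    have h4 : 2 ^ 4 ≤ 2 ^ f := Nat.pow_le_pow_right (by omega) hf.2
    have h5 := Nat.mul_le_mul h4 h3
    rw [hf.1, pow_add, ← pow_mul, mul_assoc, mul_left_comm, mul_comm]
    exact Nat.mul_le_mul_left _ (by omega)

theorem Pe_three {q m : ℕ} (hq : 3 ≤ q) (hm : 3 ≤ m) : 465920 ≤ Pe q m :=
  (by decide : 465920 ≤ Pe 3 3).trans (Pe_mono (by omega) hq hm)

theorem o_odd {q m : ℕ} (hq : 3 ≤ q) (hm : 3 ≤ m) : (73 * q ^ m) ^ 3 * 2 ≤ 10 ^ 3 * (q ^ (m ^ 2) * Pe q m) := by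
  have h1 := Pe_three hq hm
  have := pw (q := q) (A := 73 ^ 3 * 2) (C := 10 ^ 3) (P := Pe q m) (e := m) (f := m ^ 2) (s := 0) (by omega) (by nlinarith only [hm])
    (by rw [pow_zero]; omega)
  calc _ = 73 ^ 3 * 2 * (q ^ m) ^ 3 := by ring
    _ ≤ _ := this

theorem o_even {q m D w : ℕ} (hm : 4 ≤ m) (hw : q ^ m - 1 ≤ w) (h : (q = 2 ∧ D = 1) ∨ (3 ≤ q ∧ D = 4)) :
    (2 * D * (15 * q ^ m)) ^ 3 * D ≤ 1 ^ 3 * (q ^ (m * (m - 1)) * w * Pe q (m - 1)) := by
  have he : m * 3 ≤ m * (m - 1) + 0 := Nat.mul_le_mul_left _ (by omega)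
  have key : (2 * D * 15) ^ 3 * D * q ^ 0 ≤ 1 ^ 3 * (w * Pe q (m - 1)) := by
    rw [pow_zero]
    rcases h with ⟨rfl, rfl⟩ | ⟨hq, rfl⟩
    · have h3 : 2835 ≤ Pe 2 (m - 1) := (by decide : 2835 ≤ Pe 2 3).trans (Pe_mono le_rfl le_rfl (by omega))
      have h4 : 2 ^ 4 ≤ 2 ^ m := Nat.pow_le_pow_right (by omega) hm
      have h5 := Nat.mul_le_mul (show 15 ≤ w by omega) h3
      omega
    · have h3 := Pe_three hq (show 3 ≤ m - 1 by omega)
      have h4 : 3 ^ 4 ≤ q ^ m := (Nat.pow_le_pow_left hq 4).trans (Nat.pow_le_pow_right (by omega) hm)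
      have h5 := Nat.mul_le_mul (show 80 ≤ w by omega) h3
      omega
  have := pw (by omega : 1 ≤ q) he key
  calc _ = (2 * D * 15) ^ 3 * D * (q ^ m) ^ 3 := by ring
    _ ≤ _ := this
    _ = _ := by ring

/-- the product in the order of the unitary groups -/
def Pu (q n : ℕ) : ℕ := ∏ i ∈ range n, (if Even i then q ^ (i + 1) + 1 else q ^ (i + 1) - 1)

theorem Pu_mono {q m m' : ℕ} (h2 : 2 ≤ q) (hm : m ≤ m') : Pu q m ≤ Pu q m' := by
  refine Finset.prod_le_prod_of_subset_of_one_le' (range_subset_range.2 hm) fun i _ _ => ?_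
  split_ifs
  · omega
  · exact Nat.le_sub_one_of_lt (Nat.one_lt_pow (by omega) (by omega))

theorem Pu_three (q : ℕ) : Pu q 3 = (q + 1) * ((q ^ 2 - 1) * (q ^ 3 + 1)) := by
  simp only [Pu, prod_range_succ, mul_assoc, Nat.even_iff, _root_.Finset.range_one, _root_.Finset.prod_singleton, _root_.Nat.zero_mod, ↓ _root_.reduceIte, _root_.zero_add, _root_.pow_one, _root_.Nat.mod_succ, _root_.one_ne_zero, _root_.Nat.reduceAdd, _root_.Nat.mod_self]

theorem Pu_four (q : ℕ) : Pu q 4 = (q + 1) * ((q ^ 2 - 1) * (q ^ 3 + 1) * (q ^ 4 - 1)) := by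
  simp only [Pu, prod_range_succ, mul_assoc, Nat.even_iff, _root_.Finset.range_one, _root_.Finset.prod_singleton, _root_.Nat.zero_mod, ↓ _root_.reduceIte, _root_.zero_add, _root_.pow_one, _root_.Nat.mod_succ, _root_.one_ne_zero, _root_.Nat.reduceAdd, _root_.Nat.mod_self, _root_.Nat.reduceMod]

theorem Pu_five (q : ℕ) : Pu q 5 = (q + 1) * ((q ^ 2 - 1) * (q ^ 3 + 1) * (q ^ 4 - 1) * (q ^ 5 + 1)) := by
  simp only [Pu, prod_range_succ, mul_assoc, Nat.even_iff, _root_.Finset.range_one, _root_.Finset.prod_singleton, _root_.Nat.zero_mod, ↓ _root_.reduceIte, _root_.zero_add, _root_.pow_one, _root_.Nat.mod_succ, _root_.one_ne_zero, _root_.Nat.reduceAdd, _root_.Nat.mod_self, _root_.Nat.reduceMod]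

theorem su_three {q l : ℕ} (hq : 3 ≤ q) (hl : l ≤ q ^ 2) : l ^ 3 * (3 * (q + 1)) ≤ 1 ^ 3 * (q ^ (3 * (3 - 1) / 2) * Pu q 3) := by
  have h1 : 3 * q ^ 3 ≤ (q ^ 2 - 1) * (q ^ 3 + 1) :=
    Nat.mul_le_mul (by have := Nat.pow_le_pow_left hq 2; omega) (by omega)
  rw [Pu_three]
  calc _ ≤ (q ^ 2) ^ 3 * (3 * (q + 1)) := Nat.mul_le_mul_right _ (Nat.pow_le_pow_left hl 3)
    _ = q ^ 3 * ((q + 1) * (3 * q ^ 3)) := by ring
    _ ≤ q ^ 3 * ((q + 1) * ((q ^ 2 - 1) * (q ^ 3 + 1))) := Nat.mul_le_mul_left _ (Nat.mul_le_mul_left _ h1)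
    _ = _ := by norm_num

theorem su_four {q : ℕ} (hq : 4 ≤ q) : (826 * q ^ (4 - 1)) ^ 3 * (4 * (q + 1)) ≤ 100 ^ 3 * (q ^ (4 * (4 - 1) / 2) * Pu q 4) := by
  have h1 : 15 * q ^ 3 * 255 ≤ (q ^ 2 - 1) * (q ^ 3 + 1) * (q ^ 4 - 1) :=
    Nat.mul_le_mul (Nat.mul_le_mul (by have := Nat.pow_le_pow_left hq 2; omega) (by omega))
      (by have := Nat.pow_le_pow_left hq 4; omega)
  have h2 : 826 ^ 3 * (4 * (q + 1)) * q ^ 3 ≤ 100 ^ 3 * Pu q 4 := by
    rw [Pu_four]
    calc _ = (q + 1) * (826 ^ 3 * 4 * q ^ 3) := by ring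
      _ ≤ (q + 1) * (100 ^ 3 * ((q ^ 2 - 1) * (q ^ 3 + 1) * (q ^ 4 - 1))) := Nat.mul_le_mul_left _ (by omega)
      _ = _ := by ring
  have := pw (e := 4 - 1) (f := 4 * (4 - 1) / 2) (by omega) (by norm_num) h2
  calc _ = 826 ^ 3 * (4 * (q + 1)) * (q ^ (4 - 1)) ^ 3 := by ring
    _ ≤ _ := this

theorem su_big {q n : ℕ} (hq : 2 ≤ q) (hn : 5 ≤ n) :
    (826 * q ^ (n - 1)) ^ 3 * ((q + 1) * (q + 1)) ≤ 100 ^ 3 * (q ^ (n * (n - 1) / 2) * Pu q n) := by
  have h0 : q ^ 2 * (q + 1) * 2 ≤ q ^ 5 + 1 := by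
    have h1 : 2 * (q + 1) ≤ q ^ 3 := by nlinarith [Nat.mul_le_mul hq hq]
    calc _ = q ^ 2 * (2 * (q + 1)) := by ring
      _ ≤ q ^ 2 * q ^ 3 := Nat.mul_le_mul_left _ h1
      _ ≤ _ := by rw [← pow_add]; exact Nat.le_succ _
  have h1 : 3 * 9 * 15 * (q ^ 2 * (q + 1) * 2) ≤ (q ^ 2 - 1) * (q ^ 3 + 1) * (q ^ 4 - 1) * (q ^ 5 + 1) :=
    Nat.mul_le_mul (Nat.mul_le_mul (Nat.mul_le_mul (by have := Nat.pow_le_pow_left hq 2; omega)
      (by have := Nat.pow_le_pow_left hq 3; omega)) (by have := Nat.pow_le_pow_left hq 4; omega)) h0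
  have h2 : 826 ^ 3 * ((q + 1) * (q + 1)) * q ^ 2 ≤ 100 ^ 3 * Pu q n := by
    refine le_trans ?_ (Nat.mul_le_mul_left _ (Pu_mono hq hn))
    rw [Pu_five]
    calc _ = (q + 1) * (826 ^ 3 * (q ^ 2 * (q + 1))) := by ring
      _ ≤ (q + 1) * (100 ^ 3 * ((q ^ 2 - 1) * (q ^ 3 + 1) * (q ^ 4 - 1) * (q ^ 5 + 1))) := Nat.mul_le_mul_left _ (by omega)
      _ = _ := by ring
  have he : (n - 1) * 3 ≤ n * (n - 1) / 2 + 2 := by
    obtain ⟨t, rfl⟩ := Nat.exists_eq_add_of_le' hn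
    have : (t + 4) * 3 * 2 ≤ (t + 5) * (t + 4) + 4 := by nlinarith only []
    rw [show t + 5 - 1 = t + 4 by omega]
    (clear * - this; omega)
  have := pw (by omega) he h2
  calc _ = 826 ^ 3 * ((q + 1) * (q + 1)) * (q ^ (n - 1)) ^ 3 := by ring
    _ ≤ _ := this

theorem sl_prod {q n : ℕ} (hq : 1 ≤ q) : ((q - 1) * q ^ (n - 1)) ^ n ≤ ∏ i : Fin n, (q ^ n - q ^ (i : ℕ)) := by
  have := Finset.pow_card_le_prod (univ : Finset (Fin n)) (fun i => q ^ n - q ^ (i : ℕ)) ((q - 1) * q ^ (n - 1)) fun i _ => by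
    have h1 : q ^ (i : ℕ) ≤ q ^ (n - 1) := Nat.pow_le_pow_right hq (by omega)
    have h2 : q ^ n = q * q ^ (n - 1) := by rw [← pow_succ', Nat.sub_add_cancel (by have := i.2; omega)]
    rw [Nat.sub_mul, one_mul, ← h2]
    omega
  rwa [card_univ, Fintype.card_fin] at this

theorem sl_big {q n : ℕ} (hq : 2 ≤ q) (h : 4 ≤ n ∨ (n = 3 ∧ q = 2)) :
    ((q - 1) * q ^ (n - 1)) ^ 3 * ((q - 1) * (q - 1)) ≤ 1 ^ 3 * ∏ i : Fin n, (q ^ n - q ^ (i : ℕ)) := by
  rw [one_pow, one_mul]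
  refine le_trans ?_ (sl_prod (by omega))
  rcases h with h | ⟨rfl, rfl⟩
  · have h1 : q - 1 ≤ q ^ (n - 1) := (Nat.sub_le _ _).trans (Nat.le_self_pow (by omega) q)
    have h2 : 0 < (q - 1) * q ^ (n - 1) := Nat.mul_pos (by omega) (by positivity)
    calc _ ≤ ((q - 1) * q ^ (n - 1)) ^ 3 * ((q - 1) * q ^ (n - 1)) := Nat.mul_le_mul_left _ (Nat.mul_le_mul_left _ h1)
      _ ≤ _ := by rw [← pow_succ]; exact Nat.pow_le_pow_right h2 h
  · norm_num

theorem sl_three {q : ℕ} (hq : 3 ≤ q) :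
    (q ^ 2 + 3 * q - 1) ^ 3 * (Nat.gcd 3 (q - 1) * (q - 1)) ≤ 1 ^ 3 * ∏ i : Fin 3, (q ^ 3 - q ^ (i : ℕ)) := by
  rcases hq.eq_or_lt with rfl | hq
  · decide
  obtain ⟨t, rfl⟩ := Nat.exists_eq_add_of_le' hq
  refine (Nat.mul_le_mul_left _ (Nat.mul_le_mul_right _ (Nat.gcd_le_left _ (by omega : 0 < 3)))).trans ?_
  have h0 : (t + (3 + 1)) ^ 2 + 3 * (t + (3 + 1)) - 1 = t ^ 2 + 11 * t + 27 := Nat.sub_eq_of_eq_add (by ring)
  have h1 : (t + (3 + 1)) ^ 3 - (t + (3 + 1)) ^ 0 = (t + 3) * (t ^ 2 + 9 * t + 21) := Nat.sub_eq_of_eq_add (by ring)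
  have h2 : (t + (3 + 1)) ^ 3 - (t + (3 + 1)) ^ 1 = (t + 3) * (t + 4) * (t + 5) := Nat.sub_eq_of_eq_add (by ring)
  have h3 : (t + (3 + 1)) ^ 3 - (t + (3 + 1)) ^ 2 = (t + 3) * (t + 4) ^ 2 := Nat.sub_eq_of_eq_add (by ring)
  rw [Fin.prod_univ_three, Fin.val_zero, Fin.val_one, Fin.val_two, h0, h1, h2, h3, show t + (3 + 1) - 1 = t + 3 by omega]
  ring_nf
  (clear * -; (solve | lia | omega))

theorem exists_prime_u {s : ℕ} (hs : 2 ≤ s) : ∃ r, r.Prime ∧ r ∣ s ^ 2 + s + 1 ∧ r ≠ 3 := by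
  by_contra hc
  push Not at hc
  obtain ⟨k, hk⟩ : ∃ k, s ^ 2 + s + 1 = 3 ^ k :=
    ⟨_, Nat.eq_prime_pow_of_unique_prime_dvd (by omega) fun h1 h2 => hc _ h1 h2⟩
  have h1 : 7 ≤ 3 ^ k := by nlinarith
  obtain ⟨j, rfl⟩ : ∃ j, k = j + 2 := by
    rcases k with _ | _ | k
    · omega
    · omega
    · exact ⟨k, rfl⟩
  have h2 : (s ^ 2 + s + 1) % 9 = 0 := by rw [hk, pow_add]; omega
  have h3 : ∀ x < 9, (x ^ 2 + x + 1) % 9 ≠ 0 := by decide
  refine h3 (s % 9) (Nat.mod_lt _ (by norm_num)) ?_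
  rw [← h2]
  simp only [Nat.add_mod, Nat.pow_mod, _root_.dvd_refl, _root_.Nat.mod_mod_of_dvd, _root_.Nat.one_mod]

end arith

theorem exists_aniso (F : Type*) [Field F] [Finite F] :
    ∃ a b : F, ∀ z₁ z₂ : F, z₁ ^ 2 + a * z₁ * z₂ + b * z₂ ^ 2 = 0 → z₁ = 0 ∧ z₂ = 0 := by
  obtain ⟨c, hc⟩ : ∃ c : F, ∀ t : F, t ^ 2 + t ≠ c := by
    by_contra hno
    push Not at hno
    have hs : Function.Surjective (fun t : F => t ^ 2 + t) := hno
    have h1 : (-1 : F) = 0 := Finite.injective_iff_surjective.2 hs (by ring)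
    exact one_ne_zero (neg_eq_zero.1 h1)
  refine ⟨1, -c, fun z₁ z₂ h => ?_⟩
  by_cases hz : z₂ = 0
  · subst hz
    exact ⟨(pow_eq_zero_iff two_ne_zero).1 (by linear_combination h), rfl⟩
  · refine absurd ?_ (hc (z₁ / z₂))
    field_simp
    linear_combination h

end Cfsg.Agent.N2.CentCl
end

-- part: N2/Cent/Cl/Main
section
/-!
# N2 (S3519), box `Cent` for the classical groups (helper97)

* `cent_cl`; `cRow_L`, `cRow_S`, `cRow_U`, `cRow_O`, `cRow_P`, `cRow_M`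
-/

set_option autoImplicit false

namespace Cfsg.Agent.N2

open Cfsg Cfsg.Agent.FP3 Subgroup Matrix

namespace CentCl

variable {F : Type} [Field F] [Fintype F]

theorem card_ne_six : Fintype.card F ≠ 6 := fun h => by
  have h1 := FiniteField.isPrimePow_card F
  rw [h] at h1
  exact absurd h1 (by decide)

/-! ### linear groups -/

theorem l2_of (h : Fintype.card F * (Fintype.card F + 1) ∈ Set.range fun g : ProjectiveSpecialLinearGroup (Fin 2) F =>
    (centralizer ({g} : Set (ProjectiveSpecialLinearGroup (Fin 2) F))).index) : CentRow (ProjectiveSpecialLinearGroup (Fin 2) F) := by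
  obtain ⟨g, hg⟩ := h
  refine ⟨g, ?_⟩
  have h1 := (centralizer ({g} : Set (ProjectiveSpecialLinearGroup (Fin 2) F))).card_mul_index
  have h2 := S0243.result (F := F) rfl 2 le_rfl
  have h3 : 0 < Nat.gcd 2 (Fintype.card F - 1) := Nat.gcd_pos_of_pos_left _ two_pos
  simp only at hg
  rw [hg] at h1
  rw [← h1] at h2 ⊢
  obtain ⟨s, hs⟩ := Nat.exists_eq_add_of_lt (Fintype.one_lt_card (α := F))
  generalize Nat.gcd 2 (Fintype.card F - 1) = d at h2 h3
  generalize Nat.card (centralizer ({g} : Set (ProjectiveSpecialLinearGroup (Fin 2) F))) = c at h2 ⊢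
  have e0 : (1 + s + 1) ^ 2 - (1 + s + 1) ^ 0 = (1 + s) * (s + 3) := Nat.sub_eq_of_eq_add (by ring)
  have e1 : (1 + s + 1) ^ 2 - (1 + s + 1) ^ 1 = (1 + s) * (s + 2) := Nat.sub_eq_of_eq_add (by ring)
  rw [hs, Fin.prod_univ_two, Fin.val_zero, Fin.val_one, e0, e1, Nat.add_sub_cancel] at h2
  have h4 : d * c = 1 + s :=
    Nat.eq_of_mul_eq_mul_left (show 0 < (1 + s) * (s + 2) * (s + 3) by (clear * -; positivity)) (by linear_combination h2)
  have h5 : c ≤ 1 + s := h4 ▸ Nat.le_mul_of_pos_left c h3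
  rw [hs, pow_succ', sq]
  exact Nat.mul_le_mul_left _ (Nat.mul_le_mul (by omega) (by omega))

theorem l2 (h4 : 4 ≤ Fintype.card F) : CentRow (ProjectiveSpecialLinearGroup (Fin 2) F) := by
  have ev : ∀ (K : Type) [Field K] [Fintype K], 2 ∣ Fintype.card K → 4 ≤ Fintype.card K →
      CentRow (ProjectiveSpecialLinearGroup (Fin 2) K) := fun K _ _ a b => l2_of (by rw [S2507.result a b]; simp only [_root_.Set.mem_insert_iff, _root_.mul_eq_one, _root_.Nat.add_eq_right, _root_.Fintype.card_ne_zero, _root_.and_false, _root_.mul_eq_mul_left_iff, _root_.or_false, _root_.Set.mem_singleton_iff, _root_.or_true])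
  by_cases h2 : 2 ∣ Fintype.card F
  · exact ev F h2 h4
  by_cases h5 : Fintype.card F = 5
  · let _ := Fintype.ofFinite (GaloisField 2 2)
    have hK : Fintype.card (GaloisField 2 2) = 4 := by rw [← Nat.card_eq_fintype_card, GaloisField.card 2 2 two_ne_zero]; rfl
    obtain ⟨e⟩ := S0253.result h5
    obtain ⟨e'⟩ := S0252.result hK
    exact centRow_congr (e'.trans e.symm) (ev _ (by rw [hK]; norm_num) hK.ge)
  have h := S2508.result h2 (by omega)
  rcases (by omega : Fintype.card F % 4 = 1 ∨ Fintype.card F % 4 = 3) with k | k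
  · exact l2_of (by rw [h.1 k]; simp only [_root_.Set.mem_insert_iff, _root_.mul_eq_one, _root_.Nat.add_eq_right, _root_.Fintype.card_ne_zero, _root_.and_false, _root_.mul_eq_mul_left_iff, _root_.or_false, _root_.Set.mem_singleton_iff, _root_.or_true])
  · exact l2_of (by rw [h.2 k]; simp only [_root_.Set.mem_insert_iff, _root_.mul_eq_one, _root_.Nat.add_eq_right, _root_.Fintype.card_ne_zero, _root_.and_false, _root_.Set.mem_singleton_iff, _root_.mul_eq_mul_left_iff, _root_.or_false, _root_.true_or, _root_.or_true])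

theorem psl {n : ℕ} (hn : 2 ≤ n) (h4 : n = 2 → 4 ≤ Fintype.card F) : CentRow (ProjectiveSpecialLinearGroup (Fin n) F) := by
  rcases hn.eq_or_lt with rfl | hn3
  · exact l2 (h4 rfl)
  have hq : 2 ≤ Fintype.card F := Fintype.one_lt_card
  have h2 := S0243.result (F := F) rfl n hn
  rw [← mul_assoc] at h2
  have hd : 0 < Nat.gcd n (Fintype.card F - 1) := Nat.gcd_pos_of_pos_left _ (by omega)
  have hd' : 0 < Nat.gcd n (Fintype.card F - 1) * (Fintype.card F - 1) := Nat.mul_pos hd (by omega)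
  by_cases h : 4 ≤ n ∨ (n = 3 ∧ Fintype.card F = 2)
  · obtain ⟨⟨-, u, -, hu⟩⟩ := (Nat.card_pos_iff.1 (hd.trans_eq (S2578.result (F := F) rfl hn).symm)).1
    have h1 := S2571.result (F := F) rfl (by omega) (SpecialLinearGroup.toGL u) hu.1 hu.2
    refine row_quot _ u one_pos hd' ?_ h2 (Nat.mul_le_mul_right _ (Nat.gcd_le_right _ (by omega))) (sl_big hq h)
    rw [one_mul, ← h1]
    exact cn_le_map _ SpecialLinearGroup.toGL_injective u
  obtain rfl : n = 3 := by omega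
  have hq3 : 3 ≤ Fintype.card F := by omega
  have hk := (S2479.result (F := F) 3 hn).2.2 le_rfl
  have h5 := sl_three hq3
  have h6 : Nat.card (ProjectiveSpecialLinearGroup (Fin 3) F) ≤ Nat.card (_root_.Matrix.SpecialLinearGroup (Fin 3) F) :=
    Nat.card_le_card_of_surjective _ (QuotientGroup.mk_surjective (s := center (_root_.Matrix.SpecialLinearGroup (Fin 3) F)))
  have h7 := cube_le (c := Fintype.card F ^ 2 + 3 * Fintype.card F - 1) one_pos hd' (one_mul _).le h2 le_rfl h5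
  norm_num only [_root_.pow_one] at hk
  have h8 : Fintype.card F ^ 2 + 3 * Fintype.card F < (Fintype.card F ^ 2 + 3 * Fintype.card F - 1) ^ 3 := by
    obtain ⟨k, hk⟩ : ∃ k, Fintype.card F ^ 2 + 3 * Fintype.card F = k + 3 := ⟨_, (Nat.sub_add_cancel (by omega)).symm⟩
    rw [hk, show k + 3 - 1 = k + 2 by omega]
    linarith only [Nat.zero_le (k ^ 3), _root_.sq_nonneg (↑k : ℤ), _root_.sq_nonneg (↑(Fintype.card F) : ℤ)]
  obtain ⟨g, hg⟩ := exists_cn_lt hk (h8.trans_le (h7.trans h6))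
  exact row_quot _ g one_pos hd' (by omega) h2 le_rfl h5

/-! ### symplectic groups -/

theorem psp44 (hF : Fintype.card F = 4) : CentRow (PSp 2 F) := by
  have hcard : Nat.card (PSp 2 F) = 2 ^ 8 * 3 ^ 2 * 5 ^ 2 * 7 ^ 0 * 11 ^ 0 * 13 ^ 0 * 17 ^ 1 * 31 ^ 0 := by
    have h := H732.SelfCent.card_psp hF (n := 2) (by norm_num)
    simp only [Finset.prod_range_succ, Finset.prod_range_zero] at h
    norm_num only [_root_.mul_one] at h ⊢
    exact h
  have h17 : Nat.Prime 17 := by norm_num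
  have hd : 17 ∣ Nat.card (PSp 2 F) := by rw [hcard]; norm_num
  have : CharP F 2 := ringChar.of_eq (FiniteField.even_card_iff_char_two.2 (by rw [hF]))
  have ho : 4 = orderOf ((Fintype.card F : ℕ) : ZMod 17) := by
    rw [hF]; exact (H732.SelfCent.ord_eq (by norm_num) (by decide) (by decide)).symm
  refine row_self h17 (H732.SelfCent.selfcent_of_orders h17 hd (by rw [hcard]; norm_num) fun s hs hsd hne g hg => ?_)
    (by rw [hcard]; norm_num)
  have hsd' := hsd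
  rw [hcard] at hsd'
  rcases H732.SelfCent.small_primes hs hsd' with ⟨rfl, -⟩ | ⟨rfl, -⟩ | ⟨rfl, -⟩ | ⟨rfl, h⟩ | ⟨rfl, h⟩ | ⟨rfl, h⟩ | ⟨rfl, h⟩ | ⟨rfl, h⟩
  · exact (S2472.result 2 2 le_rfl (by omega) 17 h17 (by norm_num) (by norm_num) hd 4 2 ho (by decide)).2 (by norm_num) ⟨g, hg⟩
  · refine (S2469.result 2 2 le_rfl (by omega) 3 17 hs h17 (by norm_num) (by norm_num) (by norm_num) (by norm_num) (by norm_num)
      hsd hd 1 4 1 2 ?_ ho (by decide) (by decide) (by norm_num)).2 ⟨by norm_num, ?_⟩ ⟨g, hg⟩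
    · rw [hF]; exact (H732.SelfCent.ord_eq (by norm_num) (by decide) (by decide)).symm
    · rintro ⟨t, ⟨c, rfl⟩, h⟩; omega
  · refine (S2469.result 2 2 le_rfl (by omega) 5 17 hs h17 (by norm_num) (by norm_num) (by norm_num) (by norm_num) (by norm_num)
      hsd hd 2 4 1 2 ?_ ho (by decide) (by decide) (by norm_num)).2 ⟨by norm_num, ?_⟩ ⟨g, hg⟩
    · rw [hF]; exact (H732.SelfCent.ord_eq (by norm_num) (by decide) (by decide)).symm
    · rintro ⟨t, ⟨c, rfl⟩, h⟩; omega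
  all_goals exact absurd rfl ‹_›

theorem psp {m : ℕ} (hm : 2 ≤ m) (h3 : m = 2 → 3 ≤ Fintype.card F) : CentRow (PSp m F) := by
  have hq : 2 ≤ Fintype.card F := Fintype.one_lt_card
  have h2 := H732.SelfCent.card_psp (F := F) rfl (n := m) (by omega)
  rw [mul_comm] at h2
  have hd : 0 < Nat.gcd 2 (Fintype.card F - 1) := Nat.gcd_pos_of_pos_left _ two_pos
  rcases Nat.even_or_odd (Fintype.card F) with he | ho
  · have h1 : Nat.gcd 2 (Fintype.card F - 1) = 1 := (Nat.coprime_two_left.2 (Nat.Even.sub_odd (by omega) he odd_one))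
    by_cases h : 8 ≤ Fintype.card F ∨ (Fintype.card F = 4 ∧ 3 ≤ m) ∨ (Fintype.card F = 2 ∧ 4 ≤ m)
    · exact row_k _ (by norm_num) hd (S2557.result he m (by omega)).2 h2 h1.le (sp_even hm h)
    have h6 := card_ne_six (F := F)
    obtain ⟨c, hc⟩ := he
    rcases (by (clear * - hm h3 hq h h6 hc; solve | lia | omega) : (m = 2 ∧ Fintype.card F = 4) ∨ (m = 3 ∧ Fintype.card F = 2)) with ⟨rfl, k⟩ | ⟨rfl, k⟩
    · exact psp44 k
    · refine row_self (by norm_num) (H732.SelfCent.psp_six_two k) ?_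
      rw [h1, one_mul, k] at h2
      rw [h2]
      decide
  · obtain ⟨⟨-, u, -, hu⟩⟩ := (Nat.card_pos_iff.1 (two_pos.trans_eq (S2591.result (F := F) rfl ho (m := m) (by omega)).symm)).1
    obtain ⟨c, hc⟩ := id ho
    exact row_quot _ u one_pos hd ((one_mul _).trans (S2592.result rfl ho (by omega) u hu.1 hu.2)).le h2
      (Nat.gcd_le_left _ two_pos) (sp_odd (by omega) hm)

/-! ### unitary groups -/

theorem psu {n q : ℕ} (hF : Fintype.card F = q ^ 2) (hn : 3 ≤ n) (h32 : ¬ (n = 3 ∧ q = 2)) : CentRow (PSU n F q) := by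
  have hq : 2 ≤ q := by
    by_contra h
    have := Fintype.one_lt_card (α := F)
    have := Nat.pow_le_pow_left (show q ≤ 1 by omega) 2
    omega
  have h2 := S0280.result hF n (by omega)
  rw [← mul_assoc] at h2
  have hd : 0 < Nat.gcd n (q + 1) * (q + 1) := Nat.mul_pos (Nat.gcd_pos_of_pos_left _ (by omega)) (by omega)
  have hk := (S2481.result n q (by omega) hF).2
  by_cases h5 : 5 ≤ n
  · exact row_k _ (by norm_num) hd hk h2 (Nat.mul_le_mul_right _ (Nat.gcd_le_right _ (by omega))) (su_big hq h5)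
  rcases (by omega : n = 3 ∨ n = 4) with rfl | rfl
  · obtain ⟨s, rfl⟩ : ∃ s, q = s + 1 := ⟨q - 1, by omega⟩
    obtain ⟨r, hr, hrs, hr3⟩ := exists_prime_u (s := s) (by omega)
    have := Fact.mk hr
    have a1 : ¬ r ∣ s := fun h => hr.one_lt.ne' (Nat.dvd_one.1 ((Nat.dvd_add_right (Dvd.dvd.add (dvd_pow h two_ne_zero) h)).1 hrs))
    have a2 : ¬ r ∣ s + 1 := fun h => hr.one_lt.ne' (Nat.dvd_one.1 ((Nat.dvd_add_right (h.mul_left s)).1 (by
      rwa [show s * (s + 1) + 1 = s ^ 2 + s + 1 by ring])))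
    have a3 : ¬ r ∣ s + 1 + 1 := fun h => hr3 ((Nat.prime_dvd_prime_iff_eq hr Nat.prime_three).1 ((Nat.dvd_add_right hrs).1 (by
      have h1 : r ∣ s ^ 2 + s + 1 + 3 * (s + 1 + 1) := hrs.add (h.mul_left 3)
      have h3 : r ∣ (s + 1 + 1) * (s + 1 + 1) + 3 := by rwa [show (s + 1 + 1) * (s + 1 + 1) + 3 = s ^ 2 + s + 1 + 3 * (s + 1 + 1) by ring]
      exact hrs.add ((Nat.dvd_add_right (h.mul_left _)).1 h3))))
    have e1 : (s + 1) ^ 2 - 1 = s * (s + 1 + 1) := Nat.sub_eq_of_eq_add (by ring)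
    have e2 : (s + 1) ^ 3 + 1 = (s ^ 2 + s + 1) * (s + 1 + 1) := by ring
    have e3 : ((s + 1) ^ 2) ^ 3 - 1 = (s ^ 2 + s + 1) * (s ^ 2 + 3 * s + 3) * (s * (s + 1 + 1)) := Nat.sub_eq_of_eq_add (by ring)
    have b4 : r ∣ (s + 1) ^ 3 + 1 := e2 ▸ hrs.mul_right _
    obtain ⟨x, hx⟩ := exists_prime_orderOf_dvd_card' r (H809.SelfCent.dvd_card_SU (n := 3) hF (by omega) hr
      (((b4.mul_left _).mul_left _).trans (by rw [← Pu_three]; rfl) |>.mul_left _) a3)
    have hl : Nat.gcd ((s ^ 2 + s + 1) * (s ^ 2 + 3 * s + 3)) ((s + 1) ^ 3 + 1) = s ^ 2 + s + 1 := by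
      rw [e2, Nat.gcd_mul_left, show s ^ 2 + 3 * s + 3 = 1 + (s + 1) * (s + 1 + 1) by ring, Nat.gcd_add_mul_right_left]
      simp
    have hc := H809.SelfCent.card_cent_SU hF Nat.prime_three (by decide) hr (e3 ▸ (hrs.mul_right _).mul_right _)
      (by rw [e1, hr.dvd_mul]; exact not_or.2 ⟨a1, a3⟩) (fun h => a2 (hr.dvd_of_dvd_pow h)) b4 (by rw [e1, e3]) hl (by omega) x hx
    exact row_quot _ x one_pos hd ((one_mul _).le.trans hc) h2 (Nat.mul_le_mul_right _ (Nat.gcd_le_left _ (by omega)))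
      (su_three (by (clear * - hq h32 hr3 hl; omega)) (by linarith only []))
  by_cases h4 : 4 ≤ q
  · exact row_k _ (by norm_num) hd hk h2 (Nat.mul_le_mul_right _ (Nat.gcd_le_left _ (by omega))) (su_four h4)
  rcases (by omega : q = 2 ∨ q = 3) with rfl | rfl
  · exact row_self (by norm_num) (H809.SelfCent.psu_selfcent 4 2 5 (by simp) F hF)
      (cube_le one_pos hd (one_mul _).le h2 le_rfl (by decide))
  · exact row_self (by norm_num) (H809.SelfCent.psu_selfcent 4 3 7 (by simp) F hF)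
      (cube_le one_pos hd (one_mul _).le h2 le_rfl (by decide))

/-! ### orthogonal groups -/

theorem pom_odd {m : ℕ} (hm : 3 ≤ m) (ho : Odd (Fintype.card F)) : CentRow (POmega F (quadFormOdd m F)) := by
  have hq : 2 ≤ Fintype.card F := Fintype.one_lt_card
  obtain ⟨c, hc⟩ := id ho
  exact row_k _ (by norm_num) two_pos (S2560.result ho m (by omega)).2 (S0292.result rfl ho m hm) le_rfl (o_odd (by omega) hm)

theorem row_sub {G : Type*} [Group G] [Finite G] (H : Subgroup G) (N : Subgroup H) [N.Normal] {B d D P : ℕ} (hd : 0 < d)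
    (h0 : Nat.card G = 2 * P) (h1 : Nat.card (ConjClasses G) ≤ B) (h2 : d * Nat.card (H ⧸ N) = P) (h3 : d ≤ D)
    (h4 : (2 * D * B) ^ 3 * D ≤ 1 ^ 3 * P) : CentRow (H ⧸ N) := by
  refine row_k N one_pos hd ((one_mul _).le.trans ((S4200.result H).1.trans (Nat.mul_le_mul ?_ h1))) h2 h3 h4
  have h5 : Nat.card (H ⧸ N) ≤ Nat.card H := Nat.card_le_card_of_surjective _ QuotientGroup.mk_surjective
  refine Nat.le_of_mul_le_mul_left ?_ (Nat.card_pos (α := H))
  calc _ = 2 * d * Nat.card (H ⧸ N) := by rw [H.card_mul_index, h0, ← h2, mul_assoc]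
    _ ≤ 2 * D * Nat.card H := Nat.mul_le_mul (Nat.mul_le_mul_left _ h3) h5
    _ = _ := mul_comm _ _

theorem k_orth {m : ℕ} (hm : 4 ≤ m) {a b : F} (hab : ∀ z₁ z₂ : F, z₁ ^ 2 + a * z₁ * z₂ + b * z₂ ^ 2 = 0 → z₁ = 0 ∧ z₂ = 0) :
    Nat.card (ConjClasses (isometryGroup F (quadFormPlus m F))) ≤ 15 * Fintype.card F ^ m ∧
      Nat.card (ConjClasses (isometryGroup F (quadFormMinus (m - 1) F a b))) ≤ 15 * Fintype.card F ^ m := by
  rcases Nat.even_or_odd (Fintype.card F) with h | h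
  · have := S2559.result h m (by omega) a b hab
    exact ⟨this.1.2, this.2.2⟩
  · have := S2558.result h m (by omega) a b hab
    exact ⟨by omega, by omega⟩

theorem gcd_four {q w : ℕ} (hq : 2 ≤ q) (hw : q = 2 → Odd w) : ∃ D, Nat.gcd 4 w ≤ D ∧ ((q = 2 ∧ D = 1) ∨ (3 ≤ q ∧ D = 4)) := by
  rcases hq.eq_or_lt with rfl | h
  · exact ⟨1, (Nat.Coprime.pow_left 2 (Nat.coprime_two_left.2 (hw rfl))).le, .inl ⟨rfl, rfl⟩⟩
  · exact ⟨4, Nat.gcd_le_left _ (by omega), .inr ⟨h, rfl⟩⟩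

theorem pom_plus {m : ℕ} (hm : 4 ≤ m) : CentRow (POmega F (quadFormPlus m F)) := by
  obtain ⟨a, b, hab⟩ := exists_aniso F
  obtain ⟨D, h1, h2⟩ := gcd_four (q := Fintype.card F) (w := Fintype.card F ^ m - 1) Fintype.one_lt_card fun h => by
    rw [h]; exact Nat.Even.sub_odd Nat.one_le_two_pow (even_two.pow_of_ne_zero (by omega)) odd_one
  exact row_sub _ _ (Nat.gcd_pos_of_pos_left _ (by omega)) ((S0287.result rfl m (by omega)).trans (by simp only [mul_assoc]))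
    (k_orth hm hab).1 (S0293.result rfl m hm) h1 (o_even hm le_rfl h2)

theorem pom_minus {m : ℕ} (hm : 4 ≤ m) {a b : F} (hab : ∀ z₁ z₂ : F, z₁ ^ 2 + a * z₁ * z₂ + b * z₂ ^ 2 = 0 → z₁ = 0 ∧ z₂ = 0) :
    CentRow (POmega F (quadFormMinus (m - 1) F a b)) := by
  obtain ⟨D, h1, h2⟩ := gcd_four (q := Fintype.card F) (w := Fintype.card F ^ m + 1) Fintype.one_lt_card fun h => by
    rw [h]; exact (even_two.pow_of_ne_zero (by omega)).add_one
  exact row_sub _ _ (Nat.gcd_pos_of_pos_left _ (by omega)) ((S0288.result rfl m (by omega) a b hab).trans (by simp only [mul_assoc]))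
    (k_orth hm hab).2 (S0294.result rfl m hm a b hab) h1 (o_even hm (by omega) h2)

end CentCl

open CentCl

theorem cRow_L : CRow fL := fun _ _ _ _ _ ⟨_, _, _, _, h1, h2, ⟨e⟩⟩ => centRow_congr e.symm (psl h1 h2)
theorem cRow_S : CRow fS := fun _ _ _ _ _ ⟨_, _, _, _, h1, h2, ⟨e⟩⟩ => centRow_congr e.symm (psp h1 h2)
theorem cRow_U : CRow fU := fun _ _ _ _ _ ⟨_, _, _, _, _, h0, h1, h2, ⟨e⟩⟩ => centRow_congr e.symm (psu h0 h1 h2)
theorem cRow_O : CRow fO := fun _ _ _ _ _ ⟨_, _, _, _, h1, h2, ⟨e⟩⟩ => centRow_congr e.symm (pom_odd h1 h2)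
theorem cRow_P : CRow fP := fun _ _ _ _ _ ⟨_, _, _, _, h1, ⟨e⟩⟩ => centRow_congr e.symm (pom_plus h1)
theorem cRow_M : CRow fM := fun _ _ _ _ _ ⟨_, _, _, _, _, _, h1, h2, ⟨e⟩⟩ => centRow_congr e.symm (pom_minus h1 h2)

end Cfsg.Agent.N2
end

-- part: N2/Cent/X/Main
section
/-!
# N2 (S3519): the box `Cent`, all rows (helper76)
-/

set_option autoImplicit false

namespace Cfsg.Agent.N2

/-- **all rows of `Cent`** -/
theorem allC : All CRow := CentX.all_of_cl cRow_L cRow_S cRow_U cRow_O cRow_P cRow_M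

end Cfsg.Agent.N2
end

private theorem dce_e79915a582b5 : _root_.True := by
  try have : _root_.True := by simp only [_root_.Cfsg.Agent.N2.CentCl.Pe.eq_1]
  try have : _root_.True := by simp only [_root_.Cfsg.Agent.N2.CentCl.Pu.eq_1]
  exact _root_.True.intro
end
end
end
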